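import Mathlib
import Cfsg.Agent.Lib.Characters.Complete
import Cfsg.Agent.Lib.Isometry.Inner

/-!
# Constituents of a character with multiplicity-free restriction, and trivial intersection

`π` is a character of `H` whose restriction to `D` is the sum of orthonormal characters `θ i`.
Each `θ i` lies in one constituent `Φ i` of `π`.  If an induced class function vanishing on the
"bad" elements of `D` restricts to itself, two `θ`'s agreeing on the bad elements and lying in
different constituents give constituents of equal degree, and such differences are rigid.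
-/

set_option autoImplicit false
set_option linter.style.haveILetI false

namespace Cfsg.Agent.Lib.BenderOne43

open scoped ComplexConjugate Classical
open Cfsg.Agent.Lib.Induced.Basic Cfsg.Agent.Lib.Characters.Basic
open Cfsg.Agent.Lib.Characters.Complete

universe u

variable {H : Type u} [Group H] [Fintype H] {D : Subgroup H} [Fintype D]

/-- Restriction to `D`. -/
abbrev res (D : Subgroup H) (f : H → ℂ) : D → ℂ :=
  fun d => f d

omit [Fintype H] [Fintype D] in
theorem isCharacter_res {f : H → ℂ} (hf : Cfsg.IsCharacter H f) :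
    Cfsg.IsCharacter D (res D f) :=
  isCharacter_comp D.subtype hf

/-- Orthonormal characters adding up to the restriction of a character. -/
structure SumData (D : Subgroup H) [Fintype D] (π : H → ℂ) {ι : Type*} [Fintype ι]
    (θ : ι → D → ℂ) : Prop where
  isChar : Cfsg.IsCharacter H π
  theta : ∀ i, Cfsg.IsCharacter D (θ i)
  orth : ∀ i j, Cfsg.classInner (θ i) (θ j) = if i = j then 1 else 0
  res_eq : res D π = ∑ i, θ i

namespace SumData

variable {π : H → ℂ} {ι : Type*} [Fintype ι] {θ : ι → D → ℂ} (S : SumData D π θ)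
include S

omit [Fintype H] in
theorem classInner_res (i : ι) : Cfsg.classInner (res D π) (θ i) = 1 := by
  rw [S.res_eq, classInner_sum_left]
  simp [S.orth]

/-- Each member lies in exactly one constituent, with multiplicity one. -/
theorem exists_constituents : ∃ Φ : ι → Cfsg.IrrCharacter H,
    (π = ∑ χ ∈ Finset.univ.image Φ, (χ : H → ℂ)) ∧
    (∀ χ ∈ Finset.univ.image Φ,
      res D (χ : H → ℂ) = ∑ i ∈ Finset.univ.filter (fun i => Φ i = χ), θ i) ∧
    (∀ i j, Cfsg.classInner (res D (Φ j : H → ℂ)) (θ i) = if Φ i = Φ j then 1 else 0) := by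
  letI := Fintype.ofFinite (Cfsg.IrrCharacter H)
  have hm : ∀ χ : Cfsg.IrrCharacter H, ∃ k : ℕ, Cfsg.classInner π (χ : H → ℂ) = k := fun χ =>
    exists_classInner_nat S.isChar (isCharacter_irr χ)
  choose m hm using hm
  have hc : ∀ (χ : Cfsg.IrrCharacter H) (i : ι),
      ∃ k : ℕ, Cfsg.classInner (res D (χ : H → ℂ)) (θ i) = k := fun χ i =>
    exists_classInner_nat (isCharacter_res (isCharacter_irr χ)) (S.theta i)
  choose c hc using hc
  have hπ : π = ∑ χ : Cfsg.IrrCharacter H, (m χ : ℂ) • (χ : H → ℂ) := by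
    conv_lhs => rw [classFunction_eq_sum (isClassFunction_of_isCharacter S.isChar)]
    exact Finset.sum_congr rfl fun χ _ => by rw [hm]
  have hres : res D π = ∑ χ : Cfsg.IrrCharacter H, (m χ : ℂ) • res D (χ : H → ℂ) := by
    funext d
    simpa [res, Finset.sum_apply] using congrFun hπ (d : H)
  have hone : ∀ i, ∑ χ : Cfsg.IrrCharacter H, m χ * c χ i = 1 := by
    intro i
    have h1 := S.classInner_res i
    rw [hres, classInner_sum_left] at h1
    simp only [classInner_smul_left, hc] at h1
    exact_mod_cast h1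
  have hex : ∀ i, ∃ χ : Cfsg.IrrCharacter H, m χ = 1 ∧ c χ i = 1 ∧
      ∀ ψ, ψ ≠ χ → m ψ * c ψ i = 0 := by
    intro i
    obtain ⟨χ, -, hχ⟩ := Finset.exists_ne_zero_of_sum_ne_zero (by rw [hone i]; exact one_ne_zero)
    have hsplit := Finset.add_sum_erase Finset.univ (fun ψ => m ψ * c ψ i) (Finset.mem_univ χ)
    rw [hone i] at hsplit
    have h1 : m χ * c χ i = 1 := by
      have : 0 < m χ * c χ i := Nat.pos_of_ne_zero hχ
      omega
    obtain ⟨ha, hb⟩ := mul_eq_one.1 h1
    refine ⟨χ, ha, hb, fun ψ hψ => ?_⟩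
    have h0 : ∑ ψ ∈ Finset.univ.erase χ, m ψ * c ψ i = 0 := by omega
    exact Finset.sum_eq_zero_iff.1 h0 ψ (Finset.mem_erase.2 ⟨hψ, Finset.mem_univ _⟩)
  choose Φ hΦm hΦc hΦ0 using hex
  have hcj : ∀ i j, c (Φ j) i = if Φ i = Φ j then 1 else 0 := by
    intro i j
    split_ifs with h
    · rw [← h, hΦc]
    · have := hΦ0 i (Φ j) (Ne.symm h)
      rwa [hΦm, one_mul] at this
  -- every constituent is some `Φ i`
  have hsurj : ∀ χ, m χ ≠ 0 → ∃ i, Φ i = χ := by
    intro χ hχ
    by_contra hno
    push Not at hno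
    have hz : ∀ i, c χ i = 0 := fun i =>
      (mul_eq_zero.1 (hΦ0 i χ (hno i).symm)).resolve_left hχ
    have h1 : Cfsg.classInner (res D π) (res D (χ : H → ℂ)) = 0 := by
      rw [S.res_eq, classInner_sum_left]
      refine Finset.sum_eq_zero fun i _ => ?_
      rw [← classInner_conj_symm, hc, hz, Nat.cast_zero, map_zero]
    rw [hres, classInner_sum_left] at h1
    have hnat : ∀ ψ : Cfsg.IrrCharacter H, ∃ k : ℕ,
        Cfsg.classInner (res D (ψ : H → ℂ)) (res D (χ : H → ℂ)) = k := fun ψ =>
      exists_classInner_nat (isCharacter_res (isCharacter_irr ψ))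
        (isCharacter_res (isCharacter_irr χ))
    choose w hw using hnat
    simp only [classInner_smul_left, hw] at h1
    have h2 : ∑ ψ : Cfsg.IrrCharacter H, m ψ * w ψ = 0 := by exact_mod_cast h1
    have h3 : w χ = 0 :=
      (mul_eq_zero.1 (Finset.sum_eq_zero_iff.1 h2 χ (Finset.mem_univ _))).resolve_left hχ
    have h4 := Cfsg.Agent.Lib.Isometry.Inner.eq_zero_of_classInner_self
      (φ := res D (χ : H → ℂ)) (by rw [hw, h3, Nat.cast_zero])
    exact apply_one_ne_zero χ (congrFun h4 1)
  have hmI : ∀ χ, (m χ : ℂ) = if χ ∈ Finset.univ.image Φ then 1 else 0 := by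
    intro χ
    split_ifs with h
    · obtain ⟨i, -, rfl⟩ := Finset.mem_image.1 h
      rw [hΦm, Nat.cast_one]
    · refine Nat.cast_eq_zero.2 (by_contra fun hne => h ?_)
      obtain ⟨i, rfl⟩ := hsurj χ hne
      exact Finset.mem_image_of_mem _ (Finset.mem_univ i)
  have hπ' : π = ∑ χ ∈ Finset.univ.image Φ, (χ : H → ℂ) := by
    rw [hπ]
    simp only [hmI, ite_smul, one_smul, zero_smul]
    rw [← Finset.sum_filter, Finset.filter_mem_eq_inter, Finset.univ_inter]
  refine ⟨Φ, hπ', fun χ hχ => ?_, fun i j => by rw [hc, hcj]; split_ifs <;> simp⟩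
  set g : Cfsg.IrrCharacter H → D → ℂ :=
    fun χ => ∑ i ∈ Finset.univ.filter (fun i => Φ i = χ), θ i with hg
  set A : Cfsg.IrrCharacter H → D → ℂ := fun χ => res D (χ : H → ℂ) - g χ with hA
  set I := Finset.univ.image Φ
  have hsum : ∑ χ ∈ I, A χ = 0 := by
    rw [hA, Finset.sum_sub_distrib, hg, Finset.sum_fiberwise_of_maps_to
      (fun i _ => Finset.mem_image_of_mem Φ (Finset.mem_univ i)), ← S.res_eq, sub_eq_zero]
    funext d
    simpa [res, Finset.sum_apply] using (congrFun hπ' (d : H)).symm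
  have hAθ : ∀ χ ∈ I, ∀ i, Cfsg.classInner (A χ) (θ i) = 0 := by
    intro χ hχ i
    obtain ⟨j, -, rfl⟩ := Finset.mem_image.1 hχ
    rw [hA, classInner_sub_left, hc, hcj, hg, classInner_sum_left]
    simp [S.orth]
  have hAA : ∀ χ ∈ I, ∀ ψ ∈ I, χ ≠ ψ →
      ∃ k : ℕ, Cfsg.classInner (A χ) (A ψ) = k := by
    intro χ hχ ψ hψ hne
    obtain ⟨k, hk⟩ := exists_classInner_nat (isCharacter_res (D := D) (isCharacter_irr χ))
      (isCharacter_res (D := D) (isCharacter_irr ψ))
    refine ⟨k, ?_⟩
    have e1 : Cfsg.classInner (A χ) (g ψ) = 0 := by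
      rw [hg, classInner_sum_right]
      exact Finset.sum_eq_zero fun i _ => hAθ χ hχ i
    have e2 : Cfsg.classInner (g χ) (res D (ψ : H → ℂ)) = 0 := by
      rw [hg, classInner_sum_left]
      refine Finset.sum_eq_zero fun i hi => ?_
      obtain ⟨j, -, rfl⟩ := Finset.mem_image.1 hψ
      rw [← classInner_conj_symm, hc, hcj, if_neg (fun e => hne
        ((Finset.mem_filter.1 hi).2.symm.trans e)), Nat.cast_zero, map_zero]
    rw [show A ψ = res D (ψ : H → ℂ) - g ψ from rfl, classInner_sub_right, e1, sub_zero,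
      show A χ = res D (χ : H → ℂ) - g χ from rfl, classInner_sub_left, e2, sub_zero, hk]
  have hre : ∀ χ ∈ I, ∀ ψ ∈ I, 0 ≤ (Cfsg.classInner (A χ) (A ψ)).re := by
    intro a ha b hb
    by_cases h : a = b
    · subst h
      exact Cfsg.Agent.Lib.Isometry.Inner.classInner_self_re_nonneg _
    · obtain ⟨k, hk⟩ := hAA a ha b hb h
      rw [hk, Complex.natCast_re]
      exact Nat.cast_nonneg k
  have h0 : Cfsg.classInner (∑ χ ∈ I, A χ) (∑ χ ∈ I, A χ) = 0 := by
    rw [hsum, classInner_zero_left]
  rw [classInner_sum_left] at h0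
  simp only [classInner_sum_right] at h0
  have h0' := congrArg Complex.re h0
  rw [Complex.re_sum, Complex.zero_re] at h0'
  have h5 := (Finset.sum_eq_zero_iff_of_nonneg fun a ha => by
    rw [Complex.re_sum]; exact Finset.sum_nonneg fun b hb => hre a ha b hb).1 h0' χ hχ
  rw [Complex.re_sum] at h5
  have h6 := (Finset.sum_eq_zero_iff_of_nonneg fun b hb => hre χ hχ b hb).1 h5 χ hχ
  have hself : Cfsg.classInner (A χ) (A χ) = 0 := by
    refine Complex.ext h6 ?_
    have := congrArg Complex.im (classInner_conj_symm (A χ) (A χ))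
    rw [Complex.conj_im] at this
    rw [Complex.zero_im]
    linarith
  exact sub_eq_zero.1 (Cfsg.Agent.Lib.Isometry.Inner.eq_zero_of_classInner_self hself)

end SumData

/-- An induced class function vanishing on the elements which fail to be trivial intersection
restricts to itself. -/
theorem res_indFun {Bad : D → Prop}
    (hti : ∀ (h : H) (d : D), h * d * h⁻¹ ∈ D → h ∈ D ∨ Bad d)
    {g : D → ℂ} (hg : Cfsg.IsClassFunction D g) (hbad : ∀ d, Bad d → g d = 0) :
    res D (Cfsg.indFun D g) = g := by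
  funext x
  have key : ∀ h : H, Cfsg.extendByZero D g (h⁻¹ * x * h) = if h ∈ D then g x else 0 := by
    intro h
    split_ifs with hh
    · rw [extendByZero_of_mem D g (D.mul_mem (D.mul_mem (D.inv_mem hh) x.2) hh)]
      have := hg x ⟨h⁻¹, D.inv_mem hh⟩
      rw [← this]
      congr 1
      exact Subtype.ext (by simp)
    · by_cases hm : h⁻¹ * x * h ∈ D
      · rw [extendByZero_of_mem D g hm]
        exact hbad _ ((hti h ⟨_, hm⟩ (by simp [mul_assoc])).resolve_left hh)
      · exact extendByZero_of_not_mem D g hm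
  show Cfsg.indFun D g x = g x
  simp only [Cfsg.indFun, key]
  rw [← Finset.sum_filter, Finset.sum_const, nsmul_eq_mul, ← mul_assoc]
  have : (Finset.univ.filter (fun h : H => h ∈ D)).card = Nat.card D := by
    rw [Nat.card_eq_fintype_card, Fintype.card_subtype]
  rw [this, inv_mul_cancel₀ (subgroup_card_ne_zero D), one_mul]

/-- Trivial intersection data for a system of constituents. -/
structure Rigid (D : Subgroup H) [Fintype D] {ι : Type*} (θ : ι → D → ℂ)
    (Φ : ι → Cfsg.IrrCharacter H) (Bad : D → Prop) : Prop where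
  ti : ∀ (h : H) (d : D), h * d * h⁻¹ ∈ D → h ∈ D ∨ Bad d
  theta : ∀ i, Cfsg.IsClassFunction D (θ i)
  orth : ∀ i j, Cfsg.classInner (θ i) (θ j) = if i = j then 1 else 0
  coeff : ∀ i j, Cfsg.classInner (res D (Φ j : H → ℂ)) (θ i) = if Φ i = Φ j then 1 else 0

namespace Rigid

variable {ι : Type*} {θ : ι → D → ℂ} {Φ : ι → Cfsg.IrrCharacter H} {Bad : D → Prop}
  (R : Rigid D θ Φ Bad)
include R

/-- Agreement on the bad elements. -/
theorem res_indFun_sub {i j : ι} (h : ∀ d, Bad d → θ i d = θ j d) :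
    res D (Cfsg.indFun D (θ i - θ j)) = θ i - θ j :=
  res_indFun R.ti (classFun_sub (R.theta i) (R.theta j)) fun d hd => sub_eq_zero.2 (h d hd)

theorem indFun_sub_eq {i j : ι} (h : ∀ d, Bad d → θ i d = θ j d) (hne : Φ i ≠ Φ j) :
    Cfsg.indFun D (θ i - θ j) = (Φ i : H → ℂ) - (Φ j : H → ℂ) := by
  have hij : i ≠ j := fun e => hne (congrArg Φ e)
  set F := Cfsg.indFun D (θ i - θ j) with hF
  have hco : ∀ k, Cfsg.classInner F (Φ k : H → ℂ) =
      (if Φ i = Φ k then 1 else 0) - if Φ j = Φ k then 1 else 0 := by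
    intro k
    rw [hF, frobenius_reciprocity D _ (isClassFunction_irr (Φ k))]
    show Cfsg.classInner (θ i - θ j) (res D (Φ k : H → ℂ)) = _
    rw [← classInner_conj_symm, classInner_sub_right, R.coeff, R.coeff, map_sub]
    split_ifs <;> simp
  have hFF : Cfsg.classInner F F = 2 := by
    conv_lhs => arg 1; rw [hF]
    rw [frobenius_reciprocity D _ (isClassFunction_indFun _ _)]
    show Cfsg.classInner (θ i - θ j) (res D F) = 2
    rw [hF, R.res_indFun_sub h, classInner_sub_left, classInner_sub_right, classInner_sub_right,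
      R.orth, R.orth, R.orth, R.orth, if_pos rfl, if_pos rfl, if_neg hij, if_neg hij.symm]
    norm_num
  set E := F - ((Φ i : H → ℂ) - (Φ j : H → ℂ)) with hE
  have hFd : Cfsg.classInner F ((Φ i : H → ℂ) - (Φ j : H → ℂ)) = 2 := by
    rw [classInner_sub_right, hco, hco, if_pos rfl, if_neg hne.symm, if_neg hne, if_pos rfl]
    norm_num
  have hdd : Cfsg.classInner ((Φ i : H → ℂ) - (Φ j : H → ℂ))
      ((Φ i : H → ℂ) - (Φ j : H → ℂ)) = 2 := by
    rw [classInner_sub_left, classInner_sub_right, classInner_sub_right, classInner_self_irr,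
      classInner_self_irr, classInner_irr_of_ne hne, classInner_irr_of_ne hne.symm]
    norm_num
  have hdF : Cfsg.classInner ((Φ i : H → ℂ) - (Φ j : H → ℂ)) F = 2 := by
    rw [← classInner_conj_symm, hFd, map_ofNat]
  have : Cfsg.classInner E E = 0 := by
    rw [hE, classInner_sub_left, classInner_sub_right F F, classInner_sub_right _ F, hFF, hFd, hdd,
      hdF]
    norm_num
  exact sub_eq_zero.1 (Cfsg.Agent.Lib.Isometry.Inner.eq_zero_of_classInner_self this)

theorem degree_eq {i j : ι} (h : ∀ d, Bad d → θ i d = θ j d) (h1 : θ i 1 = θ j 1)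
    (hne : Φ i ≠ Φ j) : (Φ i : H → ℂ) 1 = (Φ j : H → ℂ) 1 := by
  have := congrFun (R.indFun_sub_eq h hne) 1
  rw [indFun_one, Pi.sub_apply, h1, sub_self, mul_zero] at this
  exact sub_eq_zero.1 this.symm

/-- Two members in one constituent and one outside is impossible among agreeing members. -/
theorem eq_of_three {i j k : ι} (hik : ∀ d, Bad d → θ i d = θ k d)
    (hjk : ∀ d, Bad d → θ j d = θ k d) (he : Φ i = Φ j) (hne : Φ i ≠ Φ k) : i = j := by
  by_contra hij
  have h1 := R.indFun_sub_eq hik hne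
  have h2 := R.indFun_sub_eq hjk (he ▸ hne)
  rw [← he, ← h1] at h2
  have h3 := congrArg (res D) h2
  rw [R.res_indFun_sub hjk, R.res_indFun_sub hik] at h3
  have h4 := congrArg (fun f => Cfsg.classInner f (θ i)) h3
  simp only [classInner_sub_left, R.orth] at h4
  rw [if_neg (fun e : k = i => hne (congrArg Φ e.symm))] at h4
  norm_num at h4
  exact hij h4.symm

/-- Two parallel agreeing pairs are impossible. -/
theorem not_parallel {i j k l : ι} (hij : ∀ d, Bad d → θ i d = θ j d)
    (hkl : ∀ d, Bad d → θ k d = θ l d) (hne : Φ i ≠ Φ j) (hk : Φ k = Φ i) (hl : Φ l = Φ j)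
    (hik : i ≠ k) : False := by
  have hne' : Φ k ≠ Φ l := by rw [hk, hl]; exact hne
  have h1 := R.indFun_sub_eq hij hne
  have h2 := R.indFun_sub_eq hkl hne'
  rw [hk, hl, ← h1] at h2
  have h3 := congrArg (res D) h2
  rw [R.res_indFun_sub hkl, R.res_indFun_sub hij] at h3
  have h4 := congrArg (fun f => Cfsg.classInner f (θ i)) h3
  simp only [classInner_sub_left, R.orth] at h4
  rw [if_neg hik.symm, if_neg (fun e : l = i => hne (by rw [← hl, e])),
    if_neg (fun e : j = i => hne (congrArg Φ e.symm))] at h4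
  norm_num at h4

end Rigid

end Cfsg.Agent.Lib.BenderOne43
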