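import Mathlib
import Cfsg.Agent.Lib.Characters.Complete
import Cfsg.Agent.Lib.Characters.Transitive
import Cfsg.Agent.Lib.Characters.Kernel

/-!
# Orbit numbers of subgroups read from characters
-/

set_option autoImplicit false
set_option linter.style.haveILetI false

namespace Cfsg.Agent.Lib.BenderOne43

open scoped ComplexConjugate Classical
open MulAction
open Cfsg.Agent.Lib.Induced.Basic Cfsg.Agent.Lib.Characters.Basic
open Cfsg.Agent.Lib.Characters.Complete Cfsg.Agent.Lib.Characters.Transitive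

universe u v

variable {G : Type u} [Group G] [Fintype G]

/-- The average of a function over a subgroup. -/
noncomputable def avgOn (P : Subgroup G) (f : G → ℂ) : ℂ :=
  (Nat.card P : ℂ)⁻¹ * ∑ p : P, f p

theorem avgOn_eq_classInner (P : Subgroup G) (f : G → ℂ) :
    avgOn P f = Cfsg.classInner (fun p : P => f p) (fun _ => 1) := by
  simp [avgOn, Cfsg.classInner]

theorem avgOn_sum {ι : Type*} (P : Subgroup G) (s : Finset ι) (f : ι → G → ℂ) :
    avgOn P (∑ i ∈ s, f i) = ∑ i ∈ s, avgOn P (f i) := by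
  simp only [avgOn, Finset.sum_apply, ← Finset.mul_sum]
  rw [Finset.sum_comm]

theorem exists_avgOn_nat (P : Subgroup G) (χ : Cfsg.IrrCharacter G) :
    ∃ k : ℕ, avgOn P (χ : G → ℂ) = k := by
  rw [avgOn_eq_classInner]
  exact exists_classInner_nat (isCharacter_comp P.subtype (isCharacter_irr χ)) isCharacter_one

variable (X : Type v) [MulAction G X] [Finite X]

/-- The number of orbits of a subgroup. -/
noncomputable def orbNum (P : Subgroup G) : ℕ :=
  Nat.card (orbitRel.Quotient P X)

theorem avgOn_permChar (P : Subgroup G) : avgOn P (permChar X) = (orbNum X P : ℂ) := by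
  have h : ∀ p : P, permChar X (p : G) = permChar (G := P) X p := fun p => rfl
  rw [avgOn, Finset.sum_congr rfl fun p _ => h p, sum_permChar, orbNum, mul_comm (_ : ℂ)
    (Nat.card P : ℂ), ← mul_assoc, inv_mul_cancel₀ natCard_ne_zero, one_mul]

/-- Frobenius reciprocity for a permutation character. -/
theorem classInner_permChar_left [IsPretransitive G X] (x : X) {f : G → ℂ}
    (hf : Cfsg.IsClassFunction G f) :
    Cfsg.classInner f (permChar X) = avgOn (stabilizer G x) f := by
  have h : permChar X = Cfsg.indFun (stabilizer G x) (fun _ : stabilizer G x => (1 : ℂ)) := by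
    funext g
    exact congrFun (card_fixedBy_eq_indFun X x) g
  rw [h, ← classInner_conj_symm, frobenius_reciprocity _ _ hf, classInner_conj_symm,
    avgOn_eq_classInner]
  rfl

theorem rank_eq [IsPretransitive G X] (x : X) :
    Cfsg.classInner (permChar X : G → ℂ) (permChar X) = (orbNum X (stabilizer G x) : ℂ) := by
  have hcf : Cfsg.IsClassFunction G (permChar X : G → ℂ) := by
    rw [show (permChar X : G → ℂ) = Cfsg.indFun (stabilizer G x)
      (fun _ : stabilizer G x => (1 : ℂ)) from card_fixedBy_eq_indFun X x]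
    exact isClassFunction_indFun _ _
  rw [classInner_permChar_left X x hcf, avgOn_permChar]

/-- A smaller subgroup fixes at least as much. -/
theorem avgOn_mono {P P' : Subgroup G} (hle : P' ≤ P) (χ : Cfsg.IrrCharacter G) {k k' : ℕ}
    (hk : avgOn P (χ : G → ℂ) = k) (hk' : avgOn P' (χ : G → ℂ) = k') : k ≤ k' := by
  letI := Fintype.ofFinite (Cfsg.IrrCharacter P)
  set f : P → ℂ := fun p => (χ : G → ℂ) p
  have hf : Cfsg.IsCharacter P f := isCharacter_comp P.subtype (isCharacter_irr χ)
  have hdec := classFunction_eq_sum (isClassFunction_of_isCharacter hf)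
  choose a ha using fun ψ : Cfsg.IrrCharacter P => exists_classInner_nat hf (isCharacter_irr ψ)
  have hone : Cfsg.classInner f (oneChar P : P → ℂ) = k := by
    rw [← hk, avgOn_eq_classInner]
    rfl
  let ι' : P' →* P := Subgroup.inclusion hle
  have hres : (fun p : P' => (χ : G → ℂ) p) =
      ∑ ψ : Cfsg.IrrCharacter P, (a ψ : ℂ) • fun p : P' => (ψ : P → ℂ) (ι' p) := by
    funext p
    have := congrFun hdec (ι' p)
    simp only [Finset.sum_apply, Pi.smul_apply, smul_eq_mul] at this ⊢
    rw [show (χ : G → ℂ) (p : G) = f (ι' p) from rfl, this]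
    exact Finset.sum_congr rfl fun ψ _ => by rw [ha]
  choose b hb using fun ψ : Cfsg.IrrCharacter P => exists_classInner_nat
    (isCharacter_comp ι' (isCharacter_irr ψ)) (isCharacter_one (G := P'))
  have hsum : (k' : ℂ) = ∑ ψ : Cfsg.IrrCharacter P, (a ψ : ℂ) * (b ψ : ℂ) := by
    rw [← hk', avgOn_eq_classInner, hres, classInner_sum_left]
    refine Finset.sum_congr rfl fun ψ _ => ?_
    rw [classInner_smul_left, ← hb]
    rfl
  have hsum' : k' = ∑ ψ : Cfsg.IrrCharacter P, a ψ * b ψ := by exact_mod_cast hsum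
  have h1 : b (oneChar P) = 1 := by
    have := hb (oneChar P)
    rw [show (oneChar P : P → ℂ) ∘ ι' = (oneChar P' : P' → ℂ) from rfl,
      show (1 : P' → ℂ) = (oneChar P' : P' → ℂ) from rfl, classInner_self_irr] at this
    exact_mod_cast this.symm
  have h2 : a (oneChar P) = k := by exact_mod_cast (ha (oneChar P)).symm.trans hone
  rw [hsum']
  refine le_trans ?_ (Finset.single_le_sum (f := fun ψ => a ψ * b ψ) (fun _ _ => Nat.zero_le _)
    (Finset.mem_univ (oneChar P)))
  rw [h1, h2, mul_one]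

/-- A character trivial on a normal subgroup has the same average over `C` and `N C`. -/
theorem avgOn_sup_eq (C N : Subgroup G) [N.Normal] (χ : Cfsg.IrrCharacter G)
    (hN : ∀ m ∈ N, (χ : G → ℂ) m = (χ : G → ℂ) 1) :
    avgOn (C ⊔ N) (χ : G → ℂ) = avgOn C (χ : G → ℂ) := by
  set P := C ⊔ N
  let μ : C × N → P := fun cm => ⟨(cm.1 : G) * cm.2,
    mul_mem ((le_sup_left : C ≤ P) cm.1.2) ((le_sup_right : N ≤ P) cm.2.2)⟩
  have hsurj : ∀ p : P, ∃ cm, μ cm = p := by
    intro p
    have hp : (p : G) ∈ (C ⊔ N : Subgroup G) := p.2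
    rw [← SetLike.mem_coe, Subgroup.coe_mul_of_left_le_normalizer_right C N
      (fun c _ => by rw [Subgroup.normalizer_eq_top_iff.2 inferInstance]; trivial)] at hp
    obtain ⟨c, hc, m, hm, e⟩ := hp
    exact ⟨(⟨c, hc⟩, ⟨m, hm⟩), Subtype.ext e⟩
  have hfib : ∀ p : P, (Finset.univ.filter fun cm => μ cm = p).card = Nat.card ↥(C ⊓ N) := by
    intro p
    obtain ⟨⟨c0, m0⟩, hp⟩ := hsurj p
    rw [Nat.card_eq_fintype_card, ← Finset.card_univ]
    symm
    refine Finset.card_bij (fun z _ => ((c0 * ⟨(z : G), z.2.1⟩, (⟨(z : G), z.2.2⟩ : N)⁻¹ * m0) :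
      C × N)) ?_ ?_ ?_
    · intro z _
      simp only [Finset.mem_filter, Finset.mem_univ, true_and, ← hp]
      exact Subtype.ext (by simp [μ, mul_assoc])
    · intro z _ z' _ e
      exact Subtype.ext (congrArg Subtype.val (mul_left_cancel (congrArg Prod.fst e)) :)
    · intro cm hcm
      simp only [Finset.mem_filter, Finset.mem_univ, true_and, ← hp] at hcm
      have e : (cm.1 : G) * cm.2 = c0 * m0 := congrArg Subtype.val hcm
      have hmemC : (c0 : G)⁻¹ * cm.1 ∈ C := mul_mem (inv_mem c0.2) cm.1.2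
      have heq : (c0 : G)⁻¹ * cm.1 = m0 * (cm.2 : G)⁻¹ := by
        rw [eq_mul_inv_iff_mul_eq, mul_assoc, e, inv_mul_cancel_left]
      have hmemN : (c0 : G)⁻¹ * cm.1 ∈ N := heq ▸ mul_mem m0.2 (inv_mem cm.2.2)
      refine ⟨⟨_, hmemC, hmemN⟩, Finset.mem_univ _, ?_⟩
      refine Prod.ext (Subtype.ext (by simp)) (Subtype.ext ?_)
      show ((c0 : G)⁻¹ * cm.1)⁻¹ * (m0 : G) = cm.2
      rw [heq]
      group
  have hval : ∀ cm : C × N, (χ : G → ℂ) (μ cm : G) = (χ : G → ℂ) (cm.1 : G) := fun cm =>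
    (Cfsg.Agent.Lib.Characters.Kernel.apply_mul_of_apply_eq_one (isCharacter_irr χ)
      (hN _ cm.2.2) _).2
  have key : (Nat.card ↥(C ⊓ N) : ℂ) * ∑ p : P, (χ : G → ℂ) p =
      (Nat.card N : ℂ) * ∑ c : C, (χ : G → ℂ) c := by
    rw [Finset.mul_sum]
    have : ∀ p : P, (Nat.card ↥(C ⊓ N) : ℂ) * (χ : G → ℂ) p =
        ∑ cm ∈ Finset.univ.filter (fun cm => μ cm = p), (χ : G → ℂ) (μ cm : G) := by
      intro p
      rw [Finset.sum_congr rfl fun cm hcm => by rw [(Finset.mem_filter.1 hcm).2],
        Finset.sum_const, hfib, nsmul_eq_mul]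
    rw [Finset.sum_congr rfl fun p _ => this p, Finset.sum_fiberwise, Finset.sum_congr rfl
      fun cm _ => hval cm, Fintype.sum_prod_type, Finset.mul_sum]
    refine Finset.sum_congr rfl fun c _ => ?_
    show ∑ _m : N, (χ : G → ℂ) (c : G) = _
    rw [Finset.sum_const, Finset.card_univ, nsmul_eq_mul, Nat.card_eq_fintype_card]
  have hcard : Nat.card P * Nat.card ↥(C ⊓ N) = Nat.card C * Nat.card N := by
    rw [← Nat.card_prod C N, Nat.card_eq_fintype_card (α := C × N), ← Finset.card_univ,
      Finset.card_eq_sum_card_fiberwise (f := μ) (t := Finset.univ)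
        (fun _ _ => Finset.mem_univ _)]
    simp only [hfib, Finset.sum_const, smul_eq_mul, Finset.card_univ, Nat.card_eq_fintype_card]
  have hcard' : (Nat.card P : ℂ) * (Nat.card ↥(C ⊓ N) : ℂ) = Nat.card C * Nat.card N := by
    exact_mod_cast hcard
  have hC : (Nat.card C : ℂ) ≠ 0 := Nat.cast_ne_zero.2 Nat.card_pos.ne'
  have hP : (Nat.card P : ℂ) ≠ 0 := Nat.cast_ne_zero.2 Nat.card_pos.ne'
  have hI : (Nat.card ↥(C ⊓ N) : ℂ) ≠ 0 := Nat.cast_ne_zero.2 Nat.card_pos.ne'
  have hN' : (Nat.card N : ℂ) ≠ 0 := Nat.cast_ne_zero.2 Nat.card_pos.ne'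
  unfold avgOn
  field_simp
  apply mul_left_cancel₀ hI
  linear_combination (Nat.card C : ℂ) * key - (∑ c : C, (χ : G → ℂ) c) * hcard'

omit [Finite X] in
/-- Refinement of orbits. -/
noncomputable def orbMap {P P' : Subgroup G} (hle : P' ≤ P) :
    orbitRel.Quotient P' X → orbitRel.Quotient P X :=
  Quotient.map' id fun a b hab => by
    rw [orbitRel_apply] at hab ⊢
    obtain ⟨g, rfl⟩ := hab
    exact ⟨⟨g, hle g.2⟩, rfl⟩

omit [Fintype G] [Finite X] in
theorem orbMap_mk {P P' : Subgroup G} (hle : P' ≤ P) (x : X) :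
    orbMap X hle (Quotient.mk'' x) = Quotient.mk'' x := rfl

omit [Fintype G] [Finite X] in
theorem orbMap_surjective {P P' : Subgroup G} (hle : P' ≤ P) :
    Function.Surjective (orbMap X hle) := fun q => by
  induction q using Quotient.inductionOn' with
  | h x => exact ⟨Quotient.mk'' x, rfl⟩

omit [Fintype G] in
theorem mem_orbit_of_orbNum_le {P P' : Subgroup G} (hle : P' ≤ P)
    (hcard : orbNum X P' ≤ orbNum X P) {x y : X} (h : y ∈ orbit P x) : y ∈ orbit P' x := by
  have hinj := ((Nat.bijective_iff_surjective_and_card _).2 ⟨orbMap_surjective X hle,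
    le_antisymm hcard (Nat.card_le_card_of_surjective _ (orbMap_surjective X hle))⟩).1
  have : (Quotient.mk'' y : orbitRel.Quotient P X) = Quotient.mk'' x :=
    Quotient.sound' (orbitRel_apply.2 h)
  exact orbitRel_apply.1 (Quotient.exact' (hinj this : (Quotient.mk'' y :
    orbitRel.Quotient P' X) = Quotient.mk'' x))

end Cfsg.Agent.Lib.BenderOne43
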