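import Cfsg.Agent.Lib.Characters.Basic
import Mathlib

/-!
# Monomial characters of a split extension of an abelian group

`D = K Y` with `K` normal abelian and `K ∩ Y = 1`; `Y` permutes the dual group of `K`.  A stable
set `S` of the dual gives the character `theta S (k y) = ∑ λ(k)` over the members of `S` fixed by
`y`; orbits give orthonormal characters, and the whole dual gives the permutation character of `D`
on the cosets of `Y`.
-/

set_option autoImplicit false
set_option linter.style.haveILetI false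

namespace Cfsg.Agent.Lib.BenderOne43

open scoped ComplexConjugate Classical
open MulAction

universe u

variable {D : Type u} [Group D]

/-- `K` is a commutative normal subgroup with complement `Y`. -/
structure SplitData (K Y : Subgroup D) : Prop where
  normal : K.Normal
  comm : ∀ a ∈ K, ∀ b ∈ K, a * b = b * a
  bij : Function.Bijective fun p : K × Y => (p.1 : D) * p.2

variable {K Y : Subgroup D}

/-- The dual group. -/
abbrev Dual (K : Subgroup D) : Type u := ↥K →* ℂˣ

/-- Conjugation by an element of `Y` on the dual of `K`. -/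
@[reducible] noncomputable def dualAction [K.Normal] : MulAction Y (Dual K) where
  smul y l := l.comp (MulAut.conjNormal ((y : D)⁻¹) : MulAut K).toMonoidHom
  one_smul l := MonoidHom.ext fun k => by
    show l ((MulAut.conjNormal ((1 : Y) : D)⁻¹ : MulAut K) k) = l k
    rw [Subgroup.coe_one, inv_one, map_one]
    rfl
  mul_smul x y l := MonoidHom.ext fun k => by
    show l ((MulAut.conjNormal ((x * y : Y) : D)⁻¹ : MulAut K) k) =
      l ((MulAut.conjNormal (y : D)⁻¹ : MulAut K) ((MulAut.conjNormal (x : D)⁻¹ : MulAut K) k))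
    rw [Subgroup.coe_mul, mul_inv_rev, map_mul]
    rfl

/-- `y` fixes `l`. -/
def Fixes [K.Normal] (y : Y) (l : Dual K) : Prop :=
  ∀ k : K, l (MulAut.conjNormal ((y : D)⁻¹) k) = l k

theorem fixes_iff_smul [K.Normal] (y : Y) (l : Dual K) :
    Fixes y l ↔ (letI := dualAction (K := K) (Y := Y); y • l = l) :=
  ⟨fun h => MonoidHom.ext h, fun h k => DFunLike.congr_fun h k⟩

namespace SplitData

/-- The decomposition `d = k y`. -/
noncomputable def equiv (h : SplitData K Y) : K × Y ≃ D :=
  Equiv.ofBijective _ h.bij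

/-- The component in `K`. -/
noncomputable def kp (h : SplitData K Y) (d : D) : K :=
  (h.equiv.symm d).1

/-- The component in `Y`. -/
noncomputable def yp (h : SplitData K Y) (d : D) : Y :=
  (h.equiv.symm d).2

theorem kp_mul_yp (h : SplitData K Y) (d : D) : (h.kp d : D) * h.yp d = d :=
  h.equiv.apply_symm_apply d

theorem equiv_symm_mul (h : SplitData K Y) (k : K) (y : Y) :
    h.equiv.symm ((k : D) * y) = (k, y) :=
  h.equiv.symm_apply_eq.2 rfl

theorem kp_mul (h : SplitData K Y) (k : K) (y : Y) : h.kp ((k : D) * y) = k := by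
  rw [kp, h.equiv_symm_mul]

theorem yp_mul (h : SplitData K Y) (k : K) (y : Y) : h.yp ((k : D) * y) = y := by
  rw [yp, h.equiv_symm_mul]

theorem card_eq (h : SplitData K Y) : Nat.card D = Nat.card K * Nat.card Y := by
  rw [← Nat.card_congr h.equiv, Nat.card_prod]

theorem sum_eq [Fintype D] (h : SplitData K Y) (f : D → ℂ) :
    ∑ d, f d = ∑ y : Y, ∑ k : K, f ((k : D) * y) := by
  rw [← Fintype.sum_equiv h.equiv (fun p : K × Y => f ((p.1 : D) * p.2)) f fun _ => rfl,
    Fintype.sum_prod_type, Finset.sum_comm]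

/-- `K` as a commutative group. -/
@[reducible] def commGroup (h : SplitData K Y) : CommGroup K :=
  { (inferInstance : Group K) with
    mul_comm := fun a b => Subtype.ext (h.comm a a.2 b b.2) }

theorem finite_dual [Finite D] (h : SplitData K Y) : Finite (Dual K) := by
  letI := h.commGroup
  exact Nat.finite_of_card_ne_zero (by
    rw [CommGroup.card_monoidHom_of_hasEnoughRootsOfUnity]; exact Nat.card_pos.ne')

theorem exists_apply_ne_one [Finite D] (h : SplitData K Y) {k : K} (hk : k ≠ 1) :
    ∃ l : Dual K, l k ≠ 1 := by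
  letI := h.commGroup
  exact CommGroup.exists_apply_ne_one_of_hasEnoughRootsOfUnity K ℂ hk

end SplitData

/-- The character sum over a dual element. -/
theorem sum_dual [Fintype D] (l : Dual K) :
    ∑ k : K, (l k : ℂ) = if l = 1 then (Nat.card K : ℂ) else 0 := by
  have hiff : (Units.coeHom ℂ).comp l = 1 ↔ l = 1 :=
    ⟨fun e => MonoidHom.ext fun k => Units.ext (DFunLike.congr_fun e k), fun e => by subst e; rfl⟩
  have := sum_hom_units ((Units.coeHom ℂ).comp l)
  simp only [hiff] at this
  rw [← Nat.card_eq_fintype_card] at this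
  refine this.trans ?_
  split_ifs <;> simp

theorem conj_dual [Finite D] (l : Dual K) (k : K) : conj (l k : ℂ) = ((l k)⁻¹ : ℂˣ) := by
  have h : (l k : ℂ) ^ orderOf k = 1 := by
    rw [← Units.val_pow_eq_pow_val, ← map_pow, pow_orderOf_eq_one, map_one, Units.val_one]
  have h1 := Complex.norm_eq_one_of_pow_eq_one h (orderOf_pos k).ne'
  rw [Units.val_inv_eq_inv_val, Complex.inv_eq_conj h1]

theorem sum_mul_conj [Fintype D] (l m : Dual K) :
    ∑ k : K, (l k : ℂ) * conj (m k : ℂ) = if l = m then (Nat.card K : ℂ) else 0 := by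
  have hiff : l * m⁻¹ = 1 ↔ l = m :=
    ⟨fun e => MonoidHom.ext fun k => mul_inv_eq_one.1 (DFunLike.congr_fun e k),
      fun e => MonoidHom.ext fun k => by subst e; exact mul_inv_cancel _⟩
  have := sum_dual (l * m⁻¹)
  simp only [hiff] at this
  rw [← this]
  refine Finset.sum_congr rfl fun k _ => ?_
  rw [conj_dual, ← Units.val_mul]
  rfl

variable [K.Normal]

/-- A set of the dual stable under `Y`. -/
def Stable (Y : Subgroup D) (S : Set (Dual K)) : Prop :=
  ∀ (y : Y) (l : Dual K), l ∈ S → l.comp (MulAut.conjNormal ((y : D)⁻¹) : MulAut K).toMonoidHom ∈ S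

/-- The monomial character of a stable set. -/
noncomputable def theta (h : SplitData K Y) [Fintype (Dual K)] (S : Set (Dual K)) (d : D) : ℂ :=
  ∑ l : Dual K, if l ∈ S ∧ Fixes (h.yp d) l then (l (h.kp d) : ℂ) else 0

/-- The monomial representation on the functions on a stable set. -/
noncomputable def monoRep (h : SplitData K Y) {S : Set (Dual K)} (hS : Stable Y S) :
    Representation ℂ D (S → ℂ) where
  toFun d :=
    { toFun := fun f l => ((l.1 (h.kp d) : ℂˣ) : ℂ) * f ⟨_, hS (h.yp d)⁻¹ l.1 l.2⟩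
      map_add' := fun f g => funext fun l => by simp [mul_add]
      map_smul' := fun c f => funext fun l => by simp [mul_left_comm] }
  map_one' := by
    have h1 : ((1 : K) : D) * ((1 : Y) : D) = 1 := by simp
    refine LinearMap.ext fun f => funext fun l => ?_
    show ((l.1 (h.kp 1) : ℂˣ) : ℂ) * f ⟨_, hS (h.yp 1)⁻¹ l.1 l.2⟩ = f l
    rw [show h.kp 1 = 1 by rw [← h1, h.kp_mul], map_one, Units.val_one, one_mul]
    congr 1
    refine Subtype.ext (MonoidHom.ext fun k => ?_)
    show l.1 ((MulAut.conjNormal (((h.yp 1)⁻¹ : Y) : D)⁻¹ : MulAut K) k) = l.1 k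
    rw [show h.yp 1 = 1 by rw [← h1, h.yp_mul], inv_one, Subgroup.coe_one, inv_one, map_one]
    rfl
  map_mul' a b := by
    refine LinearMap.ext fun f => funext fun l => ?_
    set c : MulAut K := MulAut.conjNormal (h.yp a : D) with hc
    have hab : a * b = ((h.kp a * c (h.kp b) : K) : D) * ((h.yp a * h.yp b : Y) : D) := by
      conv_lhs => rw [← h.kp_mul_yp a, ← h.kp_mul_yp b]
      rw [Subgroup.coe_mul, Subgroup.coe_mul, hc, MulAut.conjNormal_apply]
      group
    have hk : h.kp (a * b) = h.kp a * c (h.kp b) := by rw [hab, h.kp_mul]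
    have hy : h.yp (a * b) = h.yp a * h.yp b := by rw [hab, h.yp_mul]
    show ((l.1 (h.kp (a * b)) : ℂˣ) : ℂ) * f ⟨_, hS (h.yp (a * b))⁻¹ l.1 l.2⟩ =
      ((l.1 (h.kp a) : ℂˣ) : ℂ) *
        (((l.1 ((MulAut.conjNormal (((h.yp a)⁻¹ : Y) : D)⁻¹ : MulAut K) (h.kp b)) : ℂˣ) : ℂ) *
          f ⟨_, hS (h.yp b)⁻¹ _ (hS (h.yp a)⁻¹ l.1 l.2)⟩)
    have hc' : (MulAut.conjNormal (((h.yp a)⁻¹ : Y) : D)⁻¹ : MulAut K) = c := by
      rw [hc, Subgroup.coe_inv, inv_inv]
    rw [hk, map_mul, Units.val_mul, mul_assoc]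
    congr 1
    congr 1
    · rw [hc']
    congr 1
    refine Subtype.ext (MonoidHom.ext fun k => ?_)
    show l.1 ((MulAut.conjNormal (((h.yp (a * b))⁻¹ : Y) : D)⁻¹ : MulAut K) k) =
      l.1 ((MulAut.conjNormal (((h.yp a)⁻¹ : Y) : D)⁻¹ : MulAut K)
        ((MulAut.conjNormal (((h.yp b)⁻¹ : Y) : D)⁻¹ : MulAut K) k))
    rw [hy]
    simp [map_mul]

theorem comp_inv_eq_iff {y : Y} {l : Dual K} :
    l.comp (MulAut.conjNormal (((y⁻¹ : Y) : D)⁻¹) : MulAut K).toMonoidHom = l ↔ Fixes y l := by
  letI := dualAction (K := K) (Y := Y)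
  rw [fixes_iff_smul]
  show y⁻¹ • l = l ↔ y • l = l
  rw [inv_smul_eq_iff, eq_comm]

variable [Fintype D] [Fintype (Dual K)]

theorem isCharacter_theta (h : SplitData K Y) {S : Set (Dual K)} (hS : Stable Y S) :
    Cfsg.IsCharacter D (theta h S) := by
  have : theta h S = (monoRep h hS).character := by
    funext d
    rw [Representation.character, LinearMap.trace_eq_matrix_trace ℂ (Pi.basisFun ℂ S),
      Matrix.trace]
    simp only [Matrix.diag, LinearMap.toMatrix_apply, Pi.basisFun_repr, Pi.basisFun_apply]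
    rw [theta, ← Finset.sum_filter]
    rw [← Finset.sum_filter_of_ne (p := fun l : S => Fixes (h.yp d) l.1)
      (f := fun l : S => monoRep h hS d (Pi.single l 1) l) ?_]
    · refine (Finset.sum_bij (fun l _ => (l.1 : Dual K)) ?_ ?_ ?_ ?_).symm
      · intro l hl
        simp only [Finset.mem_filter, Finset.mem_univ, true_and] at hl ⊢
        exact ⟨l.2, hl⟩
      · intro l _ m _ e
        exact Subtype.ext e
      · intro l hl
        simp only [Finset.mem_filter, Finset.mem_univ, true_and] at hl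
        exact ⟨⟨l, hl.1⟩, by simp [hl.2], rfl⟩
      · intro l hl
        simp only [Finset.mem_filter, Finset.mem_univ, true_and] at hl
        show ((l.1 (h.kp d) : ℂˣ) : ℂ) * (Pi.single l 1 : S → ℂ) (⟨_, hS (h.yp d)⁻¹ l.1 l.2⟩ : S) = _
        rw [show (⟨_, hS (h.yp d)⁻¹ l.1 l.2⟩ : S) = l from Subtype.ext (comp_inv_eq_iff.2 hl),
          Pi.single_eq_same, mul_one]
    · intro l _ hne
      by_contra hf
      refine hne ?_
      show ((l.1 (h.kp d) : ℂˣ) : ℂ) * (Pi.single l 1 : S → ℂ) (⟨_, hS (h.yp d)⁻¹ l.1 l.2⟩ : S) = 0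
      rw [Pi.single_eq_of_ne (fun e => hf (comp_inv_eq_iff.1 (congrArg Subtype.val e))),
        mul_zero]
  rw [this]
  exact Cfsg.Agent.Lib.Characters.Basic.isCharacter_character _

theorem classInner_theta (h : SplitData K Y) (S T : Set (Dual K)) :
    Cfsg.classInner (theta h S) (theta h T) =
      (Nat.card Y : ℂ)⁻¹ * ∑ y : Y, ∑ l : Dual K,
        if l ∈ S ∧ l ∈ T ∧ Fixes y l then 1 else 0 := by
  have hK : (Nat.card K : ℂ) ≠ 0 := Nat.cast_ne_zero.2 Nat.card_pos.ne'
  rw [Cfsg.classInner, h.sum_eq]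
  have key : ∀ y : Y, ∑ k : K, theta h S ((k : D) * y) * conj (theta h T ((k : D) * y)) =
      (Nat.card K : ℂ) * ∑ l : Dual K, if l ∈ S ∧ l ∈ T ∧ Fixes y l then 1 else 0 := by
    intro y
    simp only [theta, h.yp_mul, h.kp_mul, map_sum]
    simp only [Finset.sum_mul_sum]
    rw [Finset.sum_comm, Finset.mul_sum]
    refine Finset.sum_congr rfl fun l _ => ?_
    rw [Finset.sum_comm]
    by_cases hl : l ∈ S ∧ Fixes y l
    · simp only [if_pos hl]
      rw [Finset.sum_eq_single l]
      · by_cases hT : l ∈ T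
        · simp only [if_pos (show l ∈ T ∧ Fixes y l from ⟨hT, hl.2⟩)]
          rw [sum_mul_conj, if_pos rfl, if_pos ⟨hl.1, hT, hl.2⟩, mul_one]
        · simp [hT]
      · intro m _ hm
        by_cases hmT : m ∈ T ∧ Fixes y m
        · simp only [if_pos hmT]
          rw [sum_mul_conj, if_neg hm.symm]
        · simp [hmT]
      · simp
    · rw [if_neg (fun e : l ∈ S ∧ l ∈ T ∧ Fixes y l => hl ⟨e.1, e.2.2⟩), mul_zero]
      simp [hl]
  rw [Finset.sum_congr rfl fun y _ => key y, ← Finset.mul_sum, h.card_eq, Nat.cast_mul, mul_inv,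
    mul_comm (Nat.card K : ℂ)⁻¹, mul_assoc, ← mul_assoc (Nat.card K : ℂ)⁻¹, inv_mul_cancel₀ hK,
    one_mul]

omit [Fintype D] [Fintype (Dual K)] in
theorem stable_orbit (l : Dual K) :
    Stable Y (letI := dualAction (K := K) (Y := Y); orbit Y l) := by
  letI := dualAction (K := K) (Y := Y)
  rintro y m ⟨x, rfl⟩
  exact ⟨y * x, mul_smul y x l⟩

/-- Orbit characters are orthonormal. -/
theorem classInner_orbit (h : SplitData K Y) (l m : Dual K) :
    letI := dualAction (K := K) (Y := Y)
    Cfsg.classInner (theta h (orbit Y l)) (theta h (orbit Y m)) =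
      if orbit Y l = orbit Y m then 1 else 0 := by
  letI := dualAction (K := K) (Y := Y)
  rw [classInner_theta]
  split_ifs with he
  · rw [← he]
    have hstab : ∀ x ∈ orbit Y l,
        ∑ y : Y, (if Fixes y x then (1 : ℂ) else 0) = (Nat.card (stabilizer Y x) : ℂ) := by
      intro x _
      rw [← Finset.sum_filter, Finset.sum_const, nsmul_one, Nat.card_eq_fintype_card,
        Fintype.card_subtype]
      congr 2
      ext y
      simp [fixes_iff_smul, mem_stabilizer_iff]
    have hY : (Nat.card Y : ℂ) ≠ 0 := Nat.cast_ne_zero.2 Nat.card_pos.ne'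
    have : ∑ y : Y, ∑ x : Dual K, (if x ∈ orbit Y l ∧ x ∈ orbit Y l ∧ Fixes y x then (1 : ℂ) else 0)
        = Nat.card Y := by
      rw [Finset.sum_comm]
      have h2 : ∀ x : Dual K, ∑ y : Y,
          (if x ∈ orbit Y l ∧ x ∈ orbit Y l ∧ Fixes y x then (1 : ℂ) else 0) =
          if x ∈ orbit Y l then (Nat.card (stabilizer Y l) : ℂ) else 0 := by
        intro x
        split_ifs with hx
        · simp only [hx, true_and]
          rw [hstab x hx]
          obtain ⟨g, rfl⟩ := hx
          have e1 := Nat.card_congr (orbitProdStabilizerEquivGroup Y l)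
          have e2 := Nat.card_congr (orbitProdStabilizerEquivGroup Y (g • l))
          rw [orbit_eq_iff.2 (mem_orbit l g), ← e1, Nat.card_prod, Nat.card_prod] at e2
          haveI : Nonempty ↥(orbit Y l) := ⟨⟨l, mem_orbit_self l⟩⟩
          rw [Nat.mul_left_cancel (Nat.card_pos (α := orbit Y l)) e2]
        · simp [hx]
      rw [Finset.sum_congr rfl fun x _ => h2 x, ← Finset.sum_filter, Finset.sum_const,
        nsmul_eq_mul, ← Nat.cast_mul, ← Fintype.card_subtype, ← Nat.card_eq_fintype_card,
        ← Nat.card_congr (orbitProdStabilizerEquivGroup Y l), Nat.card_prod]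
    rw [this, inv_mul_cancel₀ hY]
  · have hd : ∀ x, ¬ (x ∈ orbit Y l ∧ x ∈ orbit Y m) := fun x hx =>
      he ((orbit_eq_iff.2 hx.1).symm.trans (orbit_eq_iff.2 hx.2))
    rw [Finset.sum_eq_zero, mul_zero]
    exact fun y _ => Finset.sum_eq_zero fun x _ => if_neg fun e => hd x ⟨e.1, e.2.1⟩

/-- The map `k ↦ k (y k y⁻¹)⁻¹`. -/
noncomputable def defect (h : SplitData K Y) (y : Y) : K →* K where
  toFun k := k * ((MulAut.conjNormal (y : D) : MulAut K) k)⁻¹
  map_one' := by simp
  map_mul' a b := by
    letI := h.commGroup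
    rw [map_mul, mul_inv]
    exact mul_mul_mul_comm a b _ _

omit [Fintype D] [Fintype (Dual K)] in
theorem fixes_iff_defect (h : SplitData K Y) (y : Y) (l : Dual K) :
    Fixes y l ↔ ∀ k, l (defect h y k) = 1 := by
  letI := dualAction (K := K) (Y := Y)
  rw [fixes_iff_smul, ← inv_smul_eq_iff (g := y) |>.trans eq_comm]
  refine ⟨fun e k => ?_, fun e => MonoidHom.ext fun k => ?_⟩
  · have hk := DFunLike.congr_fun e k
    show l (k * _) = 1
    rw [map_mul, map_inv, mul_inv_eq_one]
    refine Eq.trans hk.symm ?_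
    show l ((MulAut.conjNormal (((y⁻¹ : Y) : D)⁻¹) : MulAut K) k) = _
    rw [Subgroup.coe_inv, inv_inv]
  · have hk : l (k * ((MulAut.conjNormal (y : D) : MulAut K) k)⁻¹) = 1 := e k
    rw [map_mul, map_inv, mul_inv_eq_one] at hk
    show l ((MulAut.conjNormal (((y⁻¹ : Y) : D)⁻¹) : MulAut K) k) = l k
    rw [Subgroup.coe_inv, inv_inv]
    exact hk.symm

/-- The characters trivial on the image of `defect`. -/
theorem theta_univ (h : SplitData K Y) (k : K) (y : Y) :
    theta h Set.univ ((k : D) * y) = (Nat.card {x : K // defect h y x = k} : ℂ) := by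
  letI := h.commGroup
  set R := (defect h y).range
  let e : {l : Dual K // Fixes y l} ≃ (K ⧸ R →* ℂˣ) :=
    { toFun := fun l => QuotientGroup.lift R l.1 (by
        rintro _ ⟨x, rfl⟩
        exact (fixes_iff_defect h y l.1).1 l.2 x)
      invFun := fun m => ⟨m.comp (QuotientGroup.mk' R), (fixes_iff_defect h y _).2 fun x => by
        show m (QuotientGroup.mk' R (defect h y x)) = 1
        rw [QuotientGroup.mk'_apply,
          (QuotientGroup.eq_one_iff (N := R) (defect h y x)).2 ⟨x, rfl⟩, map_one]⟩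
      left_inv := fun l => Subtype.ext (MonoidHom.ext fun x => rfl)
      right_inv := fun m => MonoidHom.ext fun x => QuotientGroup.induction_on x fun _ => rfl }
  have hcard : Nat.card {l : Dual K // Fixes y l} = R.index := by
    rw [Nat.card_congr e, CommGroup.card_monoidHom_of_hasEnoughRootsOfUnity, R.index_eq_card]
  have hsum : theta h Set.univ ((k : D) * y) = ∑ l : {l : Dual K // Fixes y l}, (l.1 k : ℂ) := by
    rw [theta, h.kp_mul, h.yp_mul]
    simp only [Set.mem_univ, true_and]
    rw [← Finset.sum_filter]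
    exact (Finset.sum_subtype _ (fun l => by simp) _)
  rw [hsum]
  by_cases hk : k ∈ R
  · obtain ⟨x0, rfl⟩ := hk
    have h1 : ∀ l : {l : Dual K // Fixes y l}, (l.1 (defect h y x0) : ℂ) = 1 := fun l => by
      rw [(fixes_iff_defect h y l.1).1 l.2 x0, Units.val_one]
    rw [Finset.sum_congr rfl fun l _ => h1 l, Finset.sum_const, nsmul_one, Finset.card_univ,
      ← Nat.card_eq_fintype_card, hcard]
    have hfib : Nat.card {x : K // defect h y x = defect h y x0} =
        Nat.card (defect h y).ker := Nat.card_congr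
      { toFun := fun x => ⟨x.1 * x0⁻¹, by
          rw [MonoidHom.mem_ker, map_mul, map_inv, x.2, mul_inv_cancel]⟩
        invFun := fun x => ⟨x.1 * x0, by rw [map_mul, MonoidHom.mem_ker.1 x.2, one_mul]⟩
        left_inv := fun x => Subtype.ext (by simp)
        right_inv := fun x => Subtype.ext (by simp) }
    have hker : Nat.card (defect h y).ker = R.index := by
      have h3 := (defect h y).ker.card_mul_index
      rw [Subgroup.index_ker] at h3
      have h4 := R.card_mul_index
      exact Nat.mul_right_cancel (Nat.card_pos (α := R))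
        (h3.trans (h4.symm.trans (mul_comm _ _)))
    rw [hfib, hker]
  · haveI : IsEmpty {x : K // defect h y x = k} := ⟨fun x => hk ⟨x.1, x.2⟩⟩
    rw [Nat.card_of_isEmpty, Nat.cast_zero]
    obtain ⟨m, hm⟩ := CommGroup.exists_apply_ne_one_of_hasEnoughRootsOfUnity (K ⧸ R) ℂ
      (a := (k : K ⧸ R)) fun e => hk ((QuotientGroup.eq_one_iff k).1 e)
    set m0 := e.symm m
    have hm0 : (m0.1 k : ℂ) ≠ 1 := fun e' => hm (Units.ext (e'.trans Units.val_one.symm))
    have hmul : ∀ l : {l : Dual K // Fixes y l}, Fixes y (m0.1 * l.1) := fun l x => by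
      rw [MonoidHom.mul_apply, MonoidHom.mul_apply, m0.2 x, l.2 x]
    let σ : {l : Dual K // Fixes y l} → {l : Dual K // Fixes y l} := fun l => ⟨_, hmul l⟩
    have hσ : Function.Bijective σ := Finite.injective_iff_bijective.1 fun a b ab =>
      Subtype.ext (mul_left_cancel (congrArg Subtype.val ab))
    have hshift := Fintype.sum_bijective σ hσ
      (fun l : {l : Dual K // Fixes y l} => ((σ l).1 k : ℂ)) (fun l => (l.1 k : ℂ)) fun _ => rfl
    have : (m0.1 k : ℂ) * ∑ l : {l : Dual K // Fixes y l}, (l.1 k : ℂ) =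
        ∑ l : {l : Dual K // Fixes y l}, (l.1 k : ℂ) := by
      conv_rhs => rw [← hshift]
      rw [Finset.mul_sum]
      rfl
    exact (mul_left_eq_self₀.1 this).resolve_left hm0

end Cfsg.Agent.Lib.BenderOne43
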