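import Mathlib
import Cfsg.Agent.Lib.BenderOne43.Monomial

/-!
# The two types of monomial constituents

`D = K Y`, `y₀ ∈ Y` generates a normal subgroup `N`; all non-trivial elements of `N` have the same
centraliser in `K` and the other elements of `Y` fix no non-trivial element of `K`.  Then an orbit
of `Y` on the non-trivial dual of `K` consists of characters fixed by `N` (type `X`, stabiliser
`N`) or is regular (type `R`).
-/

set_option autoImplicit false
set_option linter.style.haveILetI false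

namespace Cfsg.Agent.Lib.BenderOne43

open scoped Classical
open MulAction

universe u

variable {D : Type u} [Group D] {K Y : Subgroup D}

/-- Hypotheses on the centralisers in `K`. -/
structure TwoTypes (h : SplitData K Y) [K.Normal] (y₀ : Y) : Prop where
  conj_mem : ∀ y : Y, y * y₀ * y⁻¹ ∈ Subgroup.zpowers y₀
  same : ∀ y ∈ Subgroup.zpowers y₀, y ≠ 1 → ∀ k, defect h y k = 1 → defect h y₀ k = 1
  fpf : ∀ y, y ∉ Subgroup.zpowers y₀ → ∀ k, defect h y k = 1 → k = 1

attribute [local instance] dualAction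

variable [K.Normal]

theorem fixes_iff_mem_stabilizer (y : Y) (l : Dual K) : Fixes y l ↔ y ∈ stabilizer Y l :=
  (fixes_iff_smul y l).trans mem_stabilizer_iff.symm

theorem fixes_zpowers {y₀ : Y} {l : Dual K} (hl : Fixes y₀ l) {y : Y}
    (hy : y ∈ Subgroup.zpowers y₀) : Fixes y l :=
  (fixes_iff_mem_stabilizer y l).2
    (Subgroup.zpowers_le.2 ((fixes_iff_mem_stabilizer y₀ l).1 hl) hy)

theorem fixes_one (y : Y) : Fixes y (1 : Dual K) := fun _ => rfl

/-- The index set: the orbits of `Y` on the dual group. -/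
abbrev Idx (K Y : Subgroup D) [K.Normal] : Type u :=
  orbitRel.Quotient Y (Dual K)

/-- The orbit of a member of the index set. -/
noncomputable def orbSet (i : Idx K Y) : Set (Dual K) :=
  i.orbit

/-- The index of the trivial character. -/
noncomputable def idx₀ : Idx K Y :=
  Quotient.mk'' 1

/-- The characters of the orbits. -/
noncomputable def th (h : SplitData K Y) [Fintype (Dual K)] (i : Idx K Y) : D → ℂ :=
  theta h (orbSet i)

/-- Orbits of characters fixed by `y₀`. -/
def IsX (y₀ : Y) (i : Idx K Y) : Prop :=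
  i ≠ idx₀ ∧ ∀ l ∈ orbSet i, Fixes y₀ l

/-- Orbits of characters not fixed by `y₀`. -/
def IsR (y₀ : Y) (i : Idx K Y) : Prop :=
  i ≠ idx₀ ∧ ¬ ∀ l ∈ orbSet i, Fixes y₀ l

theorem mem_orbSet_iff {l : Dual K} {i : Idx K Y} :
    l ∈ orbSet i ↔ (Quotient.mk'' l : Idx K Y) = i :=
  MulAction.orbitRel.Quotient.mem_orbit

theorem orbSet_eq {l : Dual K} {i : Idx K Y} (hl : l ∈ orbSet i) : orbSet i = orbit Y l := by
  rw [← mem_orbSet_iff.1 hl]
  rfl

theorem exists_mem_orbSet (i : Idx K Y) : ∃ l, l ∈ orbSet i :=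
  Quotient.inductionOn' i fun l => ⟨l, mem_orbSet_iff.2 rfl⟩

theorem mem_idx₀_iff {l : Dual K} : l ∈ orbSet (idx₀ : Idx K Y) ↔ l = 1 := by
  refine ⟨fun hl => ?_, fun hl => hl ▸ mem_orbSet_iff.2 rfl⟩
  rw [orbSet_eq (mem_orbSet_iff.2 rfl : (1 : Dual K) ∈ orbSet (idx₀ : Idx K Y))] at hl
  obtain ⟨y, rfl⟩ := hl
  exact (fixes_iff_smul y 1).1 (fixes_one y)

theorem stable_orbSet (i : Idx K Y) : Stable Y (orbSet i) := by
  obtain ⟨l, hl⟩ := exists_mem_orbSet i
  rw [orbSet_eq hl]
  exact stable_orbit l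

variable [Fintype D] [Fintype (Dual K)] (h : SplitData K Y)

theorem isCharacter_th (i : Idx K Y) : Cfsg.IsCharacter D (th h i) :=
  isCharacter_theta h (stable_orbSet i)

theorem th_orth (i j : Idx K Y) :
    Cfsg.classInner (th h i) (th h j) = if i = j then 1 else 0 := by
  obtain ⟨l, hl⟩ := exists_mem_orbSet i
  obtain ⟨m, hm⟩ := exists_mem_orbSet j
  rw [th, th, orbSet_eq hl, orbSet_eq hm, classInner_orbit h l m]
  by_cases e : i = j
  · subst e
    rw [if_pos rfl, if_pos ((orbSet_eq hl).symm.trans (orbSet_eq hm))]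
  · rw [if_neg e, if_neg]
    intro e'
    refine e ?_
    rw [← mem_orbSet_iff.1 hl]
    exact mem_orbSet_iff.1 (by rw [orbSet_eq hm, ← e']; exact mem_orbit_self l)

theorem theta_univ_eq_sum : theta h (Set.univ : Set (Dual K)) = ∑ i : Idx K Y, th h i := by
  funext d
  rw [Finset.sum_apply]
  simp only [th, theta]
  rw [Finset.sum_comm]
  refine Finset.sum_congr rfl fun l _ => ?_
  rw [Finset.sum_eq_single (Quotient.mk'' l : Idx K Y)]
  · have : l ∈ orbSet (Quotient.mk'' l : Idx K Y) := mem_orbSet_iff.2 rfl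
    simp [this]
  · intro i _ hi
    rw [if_neg fun e => hi (mem_orbSet_iff.1 e.1).symm]
  · simp

/-- Values on `Y`. -/
theorem th_apply_right (i : Idx K Y) (y : Y) :
    th h i (y : D) = (Nat.card {l : Dual K // l ∈ orbSet i ∧ Fixes y l} : ℂ) := by
  have e : (y : D) = ((1 : K) : D) * y := by simp
  rw [th, theta, e, h.kp_mul, h.yp_mul, Nat.card_eq_fintype_card, Fintype.card_subtype,
    ← Finset.sum_filter]
  simp

theorem th_one (i : Idx K Y) : th h i 1 = (Nat.card ↥(orbSet i) : ℂ) := by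
  have := th_apply_right h i (1 : Y)
  rw [Subgroup.coe_one] at this
  rw [this]
  congr 1
  exact Nat.card_congr (Equiv.subtypeEquivRight fun l => and_iff_left
    ((fixes_iff_mem_stabilizer (1 : Y) l).2 (one_mem _)))

theorem th_idx₀ : th h (idx₀ : Idx K Y) = fun _ => 1 := by
  funext d
  rw [th, theta, Finset.sum_eq_single (1 : Dual K)]
  · rw [if_pos ⟨mem_idx₀_iff.2 rfl, fixes_one _⟩]
    simp
  · intro l _ hl
    rw [if_neg fun e => hl (mem_idx₀_iff.1 e.1)]
  · simp

theorem card_fixes (y : Y) :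
    Nat.card {l : Dual K // Fixes y l} = Nat.card {k : K // defect h y k = 1} := by
  have h1 := theta_univ h 1 y
  rw [theta, h.kp_mul, h.yp_mul] at h1
  simp only [Set.mem_univ, true_and, map_one, Units.val_one, Finset.sum_boole] at h1
  rw [← Fintype.card_subtype, ← Nat.card_eq_fintype_card] at h1
  exact_mod_cast h1

variable {h} {y₀ : Y} (T : TwoTypes h y₀)
include T

theorem fixes_y₀_of_fixes {y : Y} (hy : y ∈ Subgroup.zpowers y₀) (hy1 : y ≠ 1) {l : Dual K}
    (hl : Fixes y l) : Fixes y₀ l := by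
  have hle : Nat.card {l : Dual K // Fixes y l} ≤ Nat.card {l : Dual K // Fixes y₀ l} := by
    rw [card_fixes h, card_fixes h]
    exact Nat.card_le_card_of_injective
      (fun k => (⟨k.1, T.same y hy hy1 k.1 k.2⟩ : {k : K // defect h y₀ k = 1}))
      fun a b e => Subtype.ext (congrArg Subtype.val e :)
  set ι' : {l : Dual K // Fixes y₀ l} → {l : Dual K // Fixes y l} :=
    fun m => ⟨m.1, fixes_zpowers m.2 hy⟩
  have hι : Function.Injective ι' := fun a b e => Subtype.ext (congrArg Subtype.val e :)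
  obtain ⟨m, hm⟩ := ((Nat.bijective_iff_injective_and_card ι').2
    ⟨hι, le_antisymm (Nat.card_le_card_of_injective ι' hι) hle⟩).2 ⟨l, hl⟩
  have e : m.1 = l := congrArg Subtype.val hm
  exact e ▸ m.2

theorem eq_one_of_fixes {y : Y} (hy : y ∉ Subgroup.zpowers y₀) {l : Dual K} (hl : Fixes y l) :
    l = 1 := by
  haveI : Subsingleton {k : K // defect h y k = 1} :=
    ⟨fun a b => Subtype.ext ((T.fpf y hy _ a.2).trans (T.fpf y hy _ b.2).symm)⟩
  have h1 : Nat.card {l : Dual K // Fixes y l} ≤ 1 := by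
    rw [card_fixes h]
    exact Finite.card_le_one_iff_subsingleton.2 inferInstance
  haveI := Finite.card_le_one_iff_subsingleton.1 h1
  exact congrArg Subtype.val
    (Subsingleton.elim (⟨l, hl⟩ : {l : Dual K // Fixes y l}) ⟨1, fixes_one y⟩)

omit [Fintype D] [Fintype (Dual K)] in
/-- Being fixed by `y₀` is invariant under `Y`. -/
theorem fixes_smul {l : Dual K} (hl : Fixes y₀ l) (y : Y) : Fixes y₀ (y • l) := by
  obtain ⟨n, hn⟩ := Subgroup.mem_zpowers_iff.1 (T.conj_mem y⁻¹)
  have hmem : y⁻¹ * y₀ * y⁻¹⁻¹ ∈ stabilizer Y l := by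
    rw [← hn]
    exact zpow_mem ((fixes_iff_mem_stabilizer y₀ l).1 hl) n
  rw [fixes_iff_smul]
  have h2 : (y⁻¹ * y₀ * y⁻¹⁻¹) • l = l := hmem
  rw [inv_inv, mul_smul, mul_smul, inv_smul_eq_iff] at h2
  exact h2

omit [Fintype D] [Fintype (Dual K)] in
theorem fixes_of_isR {i : Idx K Y} (hi : IsR y₀ i) {l : Dual K} (hl : l ∈ orbSet i) :
    ¬ Fixes y₀ l := fun hf => hi.2 fun m hm => by
  rw [orbSet_eq hl] at hm
  obtain ⟨y, rfl⟩ := hm
  exact fixes_smul T hf y

/-- The stabiliser of a member of an orbit of type `X`. -/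
theorem stabilizer_of_isX {i : Idx K Y} (hi : IsX y₀ i) {l : Dual K} (hl : l ∈ orbSet i) :
    stabilizer Y l = Subgroup.zpowers y₀ := by
  refine le_antisymm (fun y hy => ?_) (fun y hy => ?_)
  · by_contra hy'
    have := eq_one_of_fixes T hy' ((fixes_iff_mem_stabilizer y l).2 hy)
    exact hi.1 ((mem_orbSet_iff.1 hl).symm.trans (this ▸ rfl))
  · exact (fixes_iff_mem_stabilizer y l).1 (fixes_zpowers (hi.2 l hl) hy)

theorem stabilizer_of_isR {i : Idx K Y} (hi : IsR y₀ i) {l : Dual K} (hl : l ∈ orbSet i) :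
    stabilizer Y l = ⊥ := by
  refine (Subgroup.eq_bot_iff_forall _).2 fun y hy => ?_
  by_contra hy1
  have hf := (fixes_iff_mem_stabilizer y l).2 hy
  by_cases hy' : y ∈ Subgroup.zpowers y₀
  · exact fixes_of_isR T hi hl (fixes_y₀_of_fixes T hy' hy1 hf)
  · exact hi.1 ((mem_orbSet_iff.1 hl).symm.trans (eq_one_of_fixes T hy' hf ▸ rfl))

omit T in
theorem card_orbSet_eq_index {i : Idx K Y} {l : Dual K} (hl : l ∈ orbSet i) :
    Nat.card ↥(orbSet i) = (stabilizer Y l).index := by
  rw [orbSet_eq hl, index_stabilizer, Nat.card_coe_set_eq]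

theorem card_orbSet_of_isX {i : Idx K Y} (hi : IsX y₀ i) :
    Nat.card ↥(orbSet i) = (Subgroup.zpowers y₀).index := by
  obtain ⟨l, hl⟩ := exists_mem_orbSet i
  rw [card_orbSet_eq_index hl, stabilizer_of_isX T hi hl]

theorem card_orbSet_of_isR {i : Idx K Y} (hi : IsR y₀ i) :
    Nat.card ↥(orbSet i) = Nat.card Y := by
  obtain ⟨l, hl⟩ := exists_mem_orbSet i
  rw [card_orbSet_eq_index hl, stabilizer_of_isR T hi hl, Subgroup.index_bot]

/-- Type `X` on `Y`. -/
theorem th_X_apply {i : Idx K Y} (hi : IsX y₀ i) (y : Y) :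
    th h i (y : D) =
      if y ∈ Subgroup.zpowers y₀ then ((Subgroup.zpowers y₀).index : ℂ) else 0 := by
  rw [th_apply_right]
  split_ifs with hy
  · rw [Nat.card_congr (Equiv.subtypeEquivRight fun l => and_iff_left_of_imp fun hl =>
      fixes_zpowers (hi.2 l hl) hy), ← card_orbSet_of_isX T hi]
  · haveI : IsEmpty {l : Dual K // l ∈ orbSet i ∧ Fixes y l} := ⟨fun l => by
      have := stabilizer_of_isX T hi l.2.1
      exact hy (this ▸ (fixes_iff_mem_stabilizer y l.1).1 l.2.2)⟩
    rw [Nat.card_of_isEmpty, Nat.cast_zero]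

/-- Type `R` on `Y`. -/
theorem th_R_apply {i : Idx K Y} (hi : IsR y₀ i) (y : Y) :
    th h i (y : D) = if y = 1 then (Nat.card Y : ℂ) else 0 := by
  split_ifs with hy
  · rw [hy, Subgroup.coe_one, th_one, card_orbSet_of_isR T hi]
  · haveI : IsEmpty {l : Dual K // l ∈ orbSet i ∧ Fixes y l} := ⟨fun l => by
      have := stabilizer_of_isR T hi l.2.1
      exact hy (Subgroup.mem_bot.1 (this ▸ (fixes_iff_mem_stabilizer y l.1).1 l.2.2))⟩
    rw [th_apply_right, Nat.card_of_isEmpty, Nat.cast_zero]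

/-- On the image of `defect y₀` a character of type `X` has its degree as value. -/
theorem th_X_range {i : Idx K Y} (hi : IsX y₀ i) (k : K) :
    th h i ((defect h y₀ k : K) : D) = th h i 1 := by
  have e : ((defect h y₀ k : K) : D) = ((defect h y₀ k : K) : D) * ((1 : Y) : D) := by simp
  have e1 : (1 : D) = ((1 : K) : D) * ((1 : Y) : D) := by simp
  rw [th, theta, theta, e, e1, h.kp_mul, h.kp_mul, h.yp_mul, h.yp_mul]
  refine Finset.sum_congr rfl fun l _ => ?_
  split_ifs with hl
  · rw [(fixes_iff_defect h y₀ l).1 (hi.2 l hl.1) k, map_one]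
  · rfl

/-- Values of the permutation character. -/
theorem count_one : (Nat.card K : ℂ) =
    1 + (Subgroup.zpowers y₀).index * (Nat.card {i : Idx K Y // IsX y₀ i} : ℂ) +
      Nat.card Y * (Nat.card {i : Idx K Y // IsR y₀ i} : ℂ) := by
  have h1 := congrFun (theta_univ_eq_sum h) (((1 : K) : D) * ((1 : Y) : D))
  rw [theta_univ h 1 1, Finset.sum_apply] at h1
  have hall : Nat.card {x : K // defect h (1 : Y) x = 1} = Nat.card K :=
    Nat.card_congr (Equiv.subtypeUnivEquiv fun x => by simp [defect])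
  rw [hall, ← Finset.add_sum_erase _ _ (Finset.mem_univ idx₀), th_idx₀] at h1
  simp only [Subgroup.coe_one, mul_one] at h1
  rw [← Finset.sum_filter_add_sum_filter_not (Finset.univ.erase idx₀)
    (fun i : Idx K Y => ∀ l ∈ orbSet i, Fixes y₀ l)] at h1
  rw [Finset.sum_congr rfl fun i hi => show th h i 1 = ((Subgroup.zpowers y₀).index : ℂ) by
      rw [th_one, card_orbSet_of_isX T ⟨(Finset.mem_erase.1 (Finset.mem_filter.1 hi).1).1,
        (Finset.mem_filter.1 hi).2⟩],
    Finset.sum_congr rfl fun i hi => show th h i 1 = (Nat.card Y : ℂ) by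
      rw [th_one, card_orbSet_of_isR T ⟨(Finset.mem_erase.1 (Finset.mem_filter.1 hi).1).1,
        (Finset.mem_filter.1 hi).2⟩],
    Finset.sum_const, Finset.sum_const, nsmul_eq_mul, nsmul_eq_mul] at h1
  rw [h1, Nat.card_eq_fintype_card (α := {i : Idx K Y // IsX y₀ i}),
    Nat.card_eq_fintype_card (α := {i : Idx K Y // IsR y₀ i}), Fintype.card_subtype,
    Fintype.card_subtype]
  have hX : (Finset.univ.filter fun i : Idx K Y => IsX y₀ i) =
      (Finset.univ.erase idx₀).filter fun i => ∀ l ∈ orbSet i, Fixes y₀ l := by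
    ext i
    simp only [Finset.mem_filter, Finset.mem_erase, Finset.mem_univ, true_and, and_true]
    exact Iff.rfl
  have hR : (Finset.univ.filter fun i : Idx K Y => IsR y₀ i) =
      (Finset.univ.erase idx₀).filter fun i => ¬ ∀ l ∈ orbSet i, Fixes y₀ l := by
    ext i
    simp only [Finset.mem_filter, Finset.mem_erase, Finset.mem_univ, true_and, and_true]
    exact Iff.rfl
  rw [hX, hR]
  ring

theorem count_y₀ : (Nat.card {k : K // defect h y₀ k = 1} : ℂ) =
    1 + (Subgroup.zpowers y₀).index * (Nat.card {i : Idx K Y // IsX y₀ i} : ℂ) := by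
  by_cases hy : y₀ = 1
  · have hR : IsEmpty {i : Idx K Y // IsR y₀ i} := ⟨fun i => i.2.2 fun l _ => by
      rw [hy]; exact (fixes_iff_mem_stabilizer (1 : Y) l).2 (one_mem _)⟩
    have := count_one T
    rw [Nat.card_of_isEmpty (α := {i : Idx K Y // IsR y₀ i}), Nat.cast_zero, mul_zero, add_zero]
      at this
    rw [← this]
    congr 1
    exact Nat.card_congr (Equiv.subtypeUnivEquiv fun x => by simp [hy, defect])
  have h1 := congrFun (theta_univ_eq_sum h) (((1 : K) : D) * (y₀ : D))
  rw [theta_univ h 1 y₀, Finset.sum_apply, ← Finset.add_sum_erase _ _ (Finset.mem_univ idx₀),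
    th_idx₀] at h1
  simp only [Subgroup.coe_one, one_mul] at h1
  rw [← Finset.sum_filter_add_sum_filter_not (Finset.univ.erase idx₀)
    (fun i : Idx K Y => ∀ l ∈ orbSet i, Fixes y₀ l)] at h1
  rw [Finset.sum_congr rfl fun i hi => show th h i (y₀ : D) = ((Subgroup.zpowers y₀).index : ℂ) by
      rw [th_X_apply T ⟨(Finset.mem_erase.1 (Finset.mem_filter.1 hi).1).1,
        (Finset.mem_filter.1 hi).2⟩, if_pos (Subgroup.mem_zpowers y₀)],
    Finset.sum_congr (f := fun i => th h i (y₀ : D)) rfl fun i hi =>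
      show th h i (y₀ : D) = 0 by
      rw [th_R_apply T ⟨(Finset.mem_erase.1 (Finset.mem_filter.1 hi).1).1,
        (Finset.mem_filter.1 hi).2⟩, if_neg hy],
    Finset.sum_const, Finset.sum_const_zero, nsmul_eq_mul, add_zero] at h1
  rw [h1, Nat.card_eq_fintype_card (α := {i : Idx K Y // IsX y₀ i}), Fintype.card_subtype]
  have hX : (Finset.univ.filter fun i : Idx K Y => IsX y₀ i) =
      (Finset.univ.erase idx₀).filter fun i => ∀ l ∈ orbSet i, Fixes y₀ l := by
    ext i
    simp only [Finset.mem_filter, Finset.mem_erase, Finset.mem_univ, true_and, and_true]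
    exact Iff.rfl
  rw [hX]
  ring

/-- In a group of odd order no type has exactly one orbit. -/
theorem card_isX_ne_one (hodd : Odd (Nat.card D)) :
    Nat.card {i : Idx K Y // IsX y₀ i} ≠ 1 := by
  intro e
  have h1 := count_y₀ T
  rw [e, Nat.cast_one, mul_one] at h1
  have h2 : Nat.card {k : K // defect h y₀ k = 1} = 1 + (Subgroup.zpowers y₀).index := by
    exact_mod_cast h1
  have hK : Odd (Nat.card ↥(defect h y₀).ker) :=
    hodd.of_dvd_nat ((Subgroup.card_subgroup_dvd_card _).trans (Subgroup.card_subgroup_dvd_card K))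
  have hY : Odd (Subgroup.zpowers y₀).index :=
    hodd.of_dvd_nat ((Subgroup.index_dvd_card _).trans (Subgroup.card_subgroup_dvd_card Y))
  have h3 : Nat.card ↥(defect h y₀).ker = 1 + (Subgroup.zpowers y₀).index := h2
  rw [Nat.odd_iff] at hK hY
  omega

theorem card_isR_ne_one (hodd : Odd (Nat.card D)) :
    Nat.card {i : Idx K Y // IsR y₀ i} ≠ 1 := by
  intro e
  have h1 := count_one T
  rw [← count_y₀ T, e, Nat.cast_one, mul_one] at h1
  have h2 : Nat.card K = Nat.card {k : K // defect h y₀ k = 1} + Nat.card Y := by exact_mod_cast h1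
  have hK : Odd (Nat.card K) := hodd.of_dvd_nat (Subgroup.card_subgroup_dvd_card K)
  have hM : Odd (Nat.card ↥(defect h y₀).ker) :=
    hK.of_dvd_nat (Subgroup.card_subgroup_dvd_card _)
  have hY : Odd (Nat.card Y) := hodd.of_dvd_nat (Subgroup.card_subgroup_dvd_card Y)
  have h3 : Nat.card K = Nat.card ↥(defect h y₀).ker + Nat.card Y := h2
  rw [Nat.odd_iff] at hK hY hM
  omega

/-- Two orbits of the same type agree on `Y`. -/
theorem th_agree {i j : Idx K Y} (hij : IsX y₀ i ∧ IsX y₀ j ∨ IsR y₀ i ∧ IsR y₀ j) (y : Y) :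
    th h i (y : D) = th h j (y : D) := by
  rcases hij with ⟨hi, hj⟩ | ⟨hi, hj⟩
  · rw [th_X_apply T hi, th_X_apply T hj]
  · rw [th_R_apply T hi, th_R_apply T hj]

end Cfsg.Agent.Lib.BenderOne43
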