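import Mathlib
import Cfsg.Agent.Lib.BenderOne43.Types
import Cfsg.Agent.Lib.BenderOne43.Constituents
import Cfsg.Agent.Lib.BenderOne43.Rank

/-!
# A point stabiliser and its involutions

Node C2 of Bender's theorem: `H` has one class of involutions, `D = K Y` acts transitively on it
with `Y = C_D(t)`, and `K` is abelian and regular.  See `notes/bender_nodeC2_helper43.md`, N4
(iii).  Here: the permutation character restricted to `D` is the sum of the orbit characters.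
-/

set_option autoImplicit false
set_option linter.style.haveILetI false

namespace Cfsg.Agent.Lib.BenderOne43

open scoped Classical
open MulAction
open Cfsg.Agent.Lib.Characters.Basic Cfsg.Agent.Lib.Characters.Transitive

universe u

variable {H : Type u} [Group H]

/-- The hypotheses of the block argument. -/
structure BlockHyp (t : H) (D K Y : Subgroup H) (y₀ : H) : Prop where
  invol : orderOf t = 2
  odd : Odd (Nat.card D)
  K_le : K ≤ D
  Y_le : Y ≤ D
  cent : ∀ d ∈ D, d ∈ Y ↔ d * t = t * d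
  normal : ∀ d ∈ D, ∀ k ∈ K, d * k * d⁻¹ ∈ K
  comm : ∀ a ∈ K, ∀ b ∈ K, a * b = b * a
  decomp : ∀ d ∈ D, ∃ k ∈ K, ∃ y ∈ Y, d = k * y
  disj : K ⊓ Y = ⊥
  cover : ∀ v : H, orderOf v = 2 → ∃ k ∈ K, v = k * t * k⁻¹
  y₀_mem : y₀ ∈ Y
  y₀_conj : ∀ y ∈ Y, y * y₀ * y⁻¹ ∈ Subgroup.zpowers y₀
  same : ∀ y ∈ Subgroup.zpowers y₀, y ≠ 1 → ∀ k ∈ K, y * k = k * y → y₀ * k = k * y₀
  fpf : ∀ y ∈ Y, y ∉ Subgroup.zpowers y₀ → ∀ k ∈ K, y * k = k * y → k = 1
  ti : ∀ h d : H, d ∈ D → h * d * h⁻¹ ∈ D → h ∈ D ∨ ∃ k ∈ K, k * d * k⁻¹ ∈ Y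
  some_comm : ∃ k ∈ K, k ≠ 1 ∧ Commute t (k * t * k⁻¹)
  block : y₀ ≠ 1 → ∃ j ∈ K, j * (y₀ * j * y₀⁻¹)⁻¹ ≠ 1 ∧
    Commute t (j * (y₀ * j * y₀⁻¹)⁻¹ * t * (j * (y₀ * j * y₀⁻¹)⁻¹)⁻¹)

/-- The involutions. -/
def Invs (H : Type u) [Group H] : Type u :=
  {v : H // orderOf v = 2}

instance : MulAction H (Invs H) where
  smul g v := ⟨g * v.1 * g⁻¹, ((MulAut.conj g).orderOf_eq v.1).trans v.2⟩
  one_smul v := Subtype.ext (show (1 : H) * v.1 * (1 : H)⁻¹ = v.1 by group)
  mul_smul g g' v := Subtype.ext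
    (show g * g' * v.1 * (g * g')⁻¹ = g * (g' * v.1 * g'⁻¹) * g⁻¹ by group)

instance [Finite H] : Finite (Invs H) :=
  Subtype.finite

theorem smul_val (g : H) (v : Invs H) : (g • v).1 = g * v.1 * g⁻¹ := rfl

namespace BlockHyp

variable {t : H} {D K Y : Subgroup H} {y₀ : H} (B : BlockHyp t D K Y y₀)
include B

/-- `t` as an involution. -/
def base : Invs H :=
  ⟨t, B.invol⟩

theorem normal' : (K.subgroupOf D).Normal :=
  ⟨fun k hk d => Subgroup.mem_subgroupOf.2 (B.normal d d.2 k (Subgroup.mem_subgroupOf.1 hk))⟩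

theorem split : SplitData (K.subgroupOf D) (Y.subgroupOf D) := by
  refine ⟨B.normal', fun a ha b hb => Subtype.ext (B.comm a ha b hb), ⟨?_, ?_⟩⟩
  · intro p p' e
    have e' : ((p.1 : D) : H) * ((p.2 : D) : H) = ((p'.1 : D) : H) * ((p'.2 : D) : H) :=
      congrArg (fun x : D => (x : H)) e
    have hmem : ((p'.1 : D) : H)⁻¹ * ((p.1 : D) : H) ∈ K ⊓ Y := by
      refine ⟨K.mul_mem (K.inv_mem p'.1.2) p.1.2, ?_⟩
      rw [show ((p'.1 : D) : H)⁻¹ * ((p.1 : D) : H) = ((p'.2 : D) : H) * ((p.2 : D) : H)⁻¹ by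
        rw [eq_mul_inv_iff_mul_eq, mul_assoc, e', inv_mul_cancel_left]]
      exact Y.mul_mem p'.2.2 (Y.inv_mem p.2.2)
    rw [B.disj, Subgroup.mem_bot, inv_mul_eq_one] at hmem
    rw [← hmem] at e'
    exact Prod.ext (Subtype.ext (Subtype.ext hmem.symm))
      (Subtype.ext (Subtype.ext (mul_left_cancel e')))
  · intro d
    obtain ⟨k, hk, y, hy, e⟩ := B.decomp d d.2
    exact ⟨(⟨⟨k, B.K_le hk⟩, hk⟩, ⟨⟨y, B.Y_le hy⟩, hy⟩), Subtype.ext e.symm⟩

/-- `y₀` in the subgroup `Y` of `D`. -/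
def gen : Y.subgroupOf D :=
  ⟨⟨y₀, B.Y_le B.y₀_mem⟩, B.y₀_mem⟩

theorem mem_zpowers_gen (y : Y.subgroupOf D) :
    y ∈ Subgroup.zpowers B.gen ↔ ((y : D) : H) ∈ Subgroup.zpowers y₀ := by
  simp only [Subgroup.mem_zpowers_iff]
  refine exists_congr fun n => ⟨fun e => ?_, fun e => Subtype.ext (Subtype.ext ?_)⟩
  · rw [← e]
    simp [gen]
  · simpa [gen] using e

omit B in
theorem defect_val [(K.subgroupOf D).Normal] (h : SplitData (K.subgroupOf D) (Y.subgroupOf D))
    (y : Y.subgroupOf D) (k : K.subgroupOf D) :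
    ((defect h y k : D) : H) =
      ((k : D) : H) * (((y : D) : H) * ((k : D) : H) * ((y : D) : H)⁻¹)⁻¹ := by
  simp [defect]

omit B in
theorem defect_eq_one_iff [(K.subgroupOf D).Normal]
    (h : SplitData (K.subgroupOf D) (Y.subgroupOf D)) (y : Y.subgroupOf D)
    (k : K.subgroupOf D) :
    defect h y k = 1 ↔ ((y : D) : H) * ((k : D) : H) = ((k : D) : H) * ((y : D) : H) := by
  rw [Subtype.ext_iff, Subtype.ext_iff, defect_val]
  simp only [OneMemClass.coe_one, mul_inv_eq_one]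
  rw [eq_mul_inv_iff_mul_eq]
  exact eq_comm

theorem twoTypes : haveI := B.normal'; TwoTypes B.split B.gen := by
  haveI := B.normal'
  refine ⟨fun y => ?_, fun y hy hy1 k hk => ?_, fun y hy k hk => ?_⟩
  · rw [mem_zpowers_gen]
    simpa [gen] using B.y₀_conj _ y.2
  · rw [defect_eq_one_iff] at hk ⊢
    exact B.same _ ((B.mem_zpowers_gen y).1 hy)
      (fun e => hy1 (Subtype.ext (Subtype.ext e))) _ k.2 hk
  · rw [defect_eq_one_iff] at hk
    exact Subtype.ext (Subtype.ext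
      (B.fpf _ y.2 (fun e => hy ((B.mem_zpowers_gen y).2 e)) _ k.2 hk))

theorem t_not_mem : t ∉ D := fun h => by
  have := B.odd.of_dvd_nat (Subgroup.orderOf_dvd_natCard _ h)
  rw [B.invol] at this
  exact absurd this (by decide)

theorem isPretransitive : IsPretransitive H (Invs H) := by
  refine ⟨fun v w => ?_⟩
  obtain ⟨k, -, hk⟩ := B.cover v.1 v.2
  obtain ⟨l, -, hl⟩ := B.cover w.1 w.2
  exact ⟨l * k⁻¹, Subtype.ext (by rw [smul_val, hk, hl]; group)⟩

/-- The involutions correspond to the elements of `K`. -/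
theorem param_bijective :
    Function.Bijective fun k : K.subgroupOf D => ((k : D) : H) • B.base := by
  refine ⟨fun k k' e => ?_, fun v => ?_⟩
  · have e' : ((k : D) : H) * t * ((k : D) : H)⁻¹ = ((k' : D) : H) * t * ((k' : D) : H)⁻¹ :=
      congrArg Subtype.val e
    have hc : ((k' : D) : H)⁻¹ * ((k : D) : H) * t = t * (((k' : D) : H)⁻¹ * ((k : D) : H)) := by
      rw [mul_inv_eq_iff_eq_mul] at e'
      rw [mul_assoc, e']
      group
    have hK : ((k' : D) : H)⁻¹ * ((k : D) : H) ∈ K := K.mul_mem (K.inv_mem k'.2) k.2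
    have hmem : ((k' : D) : H)⁻¹ * ((k : D) : H) ∈ K ⊓ Y :=
      ⟨hK, (B.cent _ (B.K_le hK)).2 hc⟩
    rw [B.disj, Subgroup.mem_bot, inv_mul_eq_one] at hmem
    exact Subtype.ext (Subtype.ext hmem.symm)
  · obtain ⟨k, hk, e⟩ := B.cover v.1 v.2
    exact ⟨⟨⟨k, B.K_le hk⟩, hk⟩, Subtype.ext e.symm⟩

variable [Fintype H]

/-- The permutation character of `D` on the involutions. -/
theorem permChar_eq [Fintype D] [Fintype (Dual (K.subgroupOf D))] (d : D) :
    haveI := B.normal'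
    permChar (Invs H) (d : H) = theta B.split (Set.univ : Set (Dual (K.subgroupOf D))) d := by
  haveI := B.normal'
  set h := B.split
  conv_rhs => rw [← h.kp_mul_yp d, theta_univ]
  have hd : ((h.kp d : D) : H) * ((h.yp d : D) : H) = (d : H) :=
    congrArg (fun x : D => (x : H)) (h.kp_mul_yp d)
  have hyc : ((h.yp d : D) : H) * t = t * ((h.yp d : D) : H) :=
    (B.cent _ (h.yp d : D).2).1 (h.yp d).2
  rw [permChar]
  congr 1
  refine (Nat.card_congr ?_).symm
  refine (Equiv.ofBijective _ B.param_bijective).subtypeEquiv fun x => ?_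
  show defect h (h.yp d) x = h.kp d ↔ (d : H) • (((x : D) : H) • B.base) = ((x : D) : H) • B.base
  set yx : K.subgroupOf D := (MulAut.conjNormal (h.yp d : D) : MulAut (K.subgroupOf D)) x
  have hyx : ((h.kp d * yx : K.subgroupOf D) : D) = (h.kp d : D) * (yx : D) := rfl
  have key : (d : H) • (((x : D) : H) • B.base) =
      (((h.kp d * yx : K.subgroupOf D) : D) : H) • B.base := by
    refine Subtype.ext ?_
    simp only [smul_val, base, hyx, Subgroup.coe_mul, yx, MulAut.conjNormal_apply,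
      Subgroup.coe_inv]
    rw [← hd]
    calc ((h.kp d : D) : H) * ((h.yp d : D) : H) * (((x : D) : H) * t * ((x : D) : H)⁻¹) *
          (((h.kp d : D) : H) * ((h.yp d : D) : H))⁻¹
        = ((h.kp d : D) : H) * (((h.yp d : D) : H) * ((x : D) : H)) * t *
            (((h.yp d : D) : H) * ((x : D) : H))⁻¹ * ((h.kp d : D) : H)⁻¹ := by group
      _ = ((h.kp d : D) : H) * (((h.yp d : D) : H) * ((x : D) : H) * ((h.yp d : D) : H)⁻¹) *
            (((h.yp d : D) : H) * t * ((h.yp d : D) : H)⁻¹) *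
            (((h.kp d : D) : H) *
              (((h.yp d : D) : H) * ((x : D) : H) * ((h.yp d : D) : H)⁻¹))⁻¹ := by group
      _ = _ := by rw [mul_inv_eq_iff_eq_mul.2 hyc]; rfl
  rw [key]
  refine Iff.trans ?_ (B.param_bijective.1.eq_iff (a := h.kp d * yx) (b := x)).symm
  show x * yx⁻¹ = h.kp d ↔ _
  rw [mul_inv_eq_iff_eq_mul, eq_comm]

end BlockHyp

end Cfsg.Agent.Lib.BenderOne43
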