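import Mathlib
import Cfsg.Agent.Lib.BenderOne43.Setting

/-!
# Three ways to conclude that the involutions commute
-/

set_option autoImplicit false
set_option linter.style.haveILetI false

namespace Cfsg.Agent.Lib.BenderOne43

open scoped Classical Pointwise
open MulAction

universe u

variable {H : Type u} [Group H] [Finite H]

/-- A normal `2`-subgroup with a non-trivial element makes a single class of involutions commute. -/
theorem commute_of_normal_two {t : H}
    (hcover : ∀ v : H, orderOf v = 2 → ∃ k, v = k * t * k⁻¹) {S : Subgroup H} [S.Normal]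
    (hS : IsPGroup 2 S) (hne : S ≠ ⊥) :
    ∀ v w : H, orderOf v = 2 → orderOf w = 2 → Commute v w := by
  haveI : Nontrivial S := (Subgroup.nontrivial_iff_ne_bot S).2 hne
  haveI := hS.center_nontrivial
  have hC : IsPGroup 2 (Subgroup.center S) := hS.to_subgroup _
  obtain ⟨n, hn⟩ := IsPGroup.iff_card.1 hC
  have hdvd : 2 ∣ Nat.card (Subgroup.center S) := by
    rcases n with _ | n
    · exact absurd hn (by have := Finite.one_lt_card (α := Subgroup.center S); omega)
    · exact hn ▸ dvd_pow_self 2 n.succ_ne_zero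
  obtain ⟨z, hz⟩ := exists_prime_orderOf_dvd_card' 2 hdvd
  have hzo : orderOf ((z : S) : H) = 2 := by
    rw [Subgroup.orderOf_coe, Subgroup.orderOf_coe, hz]
  obtain ⟨k₀, hk₀⟩ := hcover _ hzo
  -- every involution is a central element of `S`
  have hmain : ∀ v : H, orderOf v = 2 → v ∈ S ∧ ∀ s ∈ S, s * v = v * s := by
    intro v hv
    obtain ⟨k, hk⟩ := hcover v hv
    have e : v = (k * k₀⁻¹) * ((z : S) : H) * (k * k₀⁻¹)⁻¹ := by rw [hk, hk₀]; group
    refine ⟨e ▸ Subgroup.Normal.conj_mem inferInstance _ (z : S).2 _, fun s hs => ?_⟩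
    have hs' : (k * k₀⁻¹)⁻¹ * s * (k * k₀⁻¹) ∈ S := by
      have := Subgroup.Normal.conj_mem (inferInstance : S.Normal) s hs (k * k₀⁻¹)⁻¹
      simpa using this
    have hc : ((k * k₀⁻¹)⁻¹ * s * (k * k₀⁻¹)) * ((z : S) : H) =
        ((z : S) : H) * ((k * k₀⁻¹)⁻¹ * s * (k * k₀⁻¹)) :=
      congrArg (fun x : S => (x : H)) (Subgroup.mem_center_iff.1 z.2 ⟨_, hs'⟩)
    rw [e]
    calc s * ((k * k₀⁻¹) * ((z : S) : H) * (k * k₀⁻¹)⁻¹)
        = (k * k₀⁻¹) * (((k * k₀⁻¹)⁻¹ * s * (k * k₀⁻¹)) * ((z : S) : H)) * (k * k₀⁻¹)⁻¹ := by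
          group
      _ = (k * k₀⁻¹) * (((z : S) : H) * ((k * k₀⁻¹)⁻¹ * s * (k * k₀⁻¹))) * (k * k₀⁻¹)⁻¹ := by
          rw [hc]
      _ = _ := by group
  exact fun v w hv hw => (hmain w hw).2 v (hmain v hv).1

omit [Finite H] in
theorem isPGroup_two_of_sq {S : Subgroup H} (h : ∀ s ∈ S, s * s = 1) : IsPGroup 2 S :=
  fun s => ⟨1, Subtype.ext (by rw [pow_one, SubmonoidClass.coe_pow, pow_two]; exact h _ s.2)⟩

namespace BlockHyp

variable {t : H} {D K Y : Subgroup H} {y₀ : H} (B : BlockHyp t D K Y y₀)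
include B

/-- The centraliser of `t` as a stabiliser. -/
abbrev cen : Subgroup H :=
  stabilizer H B.base

theorem mem_cen {g : H} : g ∈ B.cen ↔ g * t = t * g := by
  rw [mem_stabilizer_iff]
  refine ⟨fun e => ?_, fun e => Subtype.ext ?_⟩
  · exact mul_inv_eq_iff_eq_mul.1 (congrArg Subtype.val e : g * t * g⁻¹ = t)
  · exact mul_inv_eq_iff_eq_mul.2 e

theorem Y_le_cen : Y ≤ B.cen := fun y hy => B.mem_cen.2 ((B.cent y (B.Y_le hy)).1 hy)

theorem t_mem_cen : t ∈ B.cen := B.mem_cen.2 rfl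

theorem commute_all (h : ∀ s : Invs H, Commute t s.1) :
    ∀ v w : H, orderOf v = 2 → orderOf w = 2 → Commute v w := by
  intro v w hv hw
  obtain ⟨k, -, rfl⟩ := B.cover v hv
  have h1 : Commute t (k⁻¹ * w * k) := h ⟨k⁻¹ * w * k, by
    have := (MulAut.conj k⁻¹).orderOf_eq w
    simp only [MulAut.conj_apply, inv_inv] at this
    rw [this, hw]⟩
  show k * t * k⁻¹ * w = w * (k * t * k⁻¹)
  calc k * t * k⁻¹ * w = k * (t * (k⁻¹ * w * k)) * k⁻¹ := by group
    _ = k * ((k⁻¹ * w * k) * t) * k⁻¹ := by rw [h1.eq]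
    _ = _ := by group

/-- An element of `Y` moving `s` as `t` does fixes it. -/
theorem commute_of_mem_orbit {s : Invs H} (h : t • s ∈ orbit Y s) : Commute t s.1 := by
  obtain ⟨y, hy⟩ := h
  change (y : H) • s = t • s at hy
  have hyt : (y : H) * t = t * (y : H) := (B.cent _ (B.Y_le y.2)).1 y.2
  have htt : t * t = 1 := by
    rw [← pow_two]; exact B.invol ▸ pow_orderOf_eq_one t
  have h2 : ((y : H) ^ 2) • s = s := by
    rw [pow_two, mul_smul, hy, ← mul_smul, hyt, mul_smul, hy, ← mul_smul, htt, one_smul]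
  obtain ⟨n, hn⟩ := B.odd.of_dvd_nat (Subgroup.orderOf_dvd_natCard _ (B.Y_le y.2))
  have h3 : ((y : H) ^ (2 * (n + 1))) • s = s := by
    rw [pow_mul]
    have : ∀ m : ℕ, (((y : H) ^ 2) ^ m) • s = s := fun m => by
      induction m with
      | zero => rw [pow_zero, one_smul]
      | succ m ih => rw [pow_succ, mul_smul, h2, ih]
    exact this (n + 1)
  have h4 : (y : H) ^ (2 * (n + 1)) = y := by
    rw [show 2 * (n + 1) = orderOf (y : H) + 1 by omega, pow_succ, pow_orderOf_eq_one, one_mul]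
  rw [h4, hy] at h3
  have h5 : t * s.1 * t⁻¹ = s.1 := congrArg Subtype.val h3
  exact mul_inv_eq_iff_eq_mul.1 h5

theorem commute_of_orbit_cen {u s : Invs H} (hu : Commute t u.1) (h : s ∈ orbit B.cen u) :
    Commute t s.1 := by
  obtain ⟨c, rfl⟩ := h
  show t * ((c : H) * u.1 * (c : H)⁻¹) = (c : H) * u.1 * (c : H)⁻¹ * t
  have hc : (c : H) * t = t * (c : H) := B.mem_cen.1 c.2
  calc t * ((c : H) * u.1 * (c : H)⁻¹) = (t * (c : H)) * u.1 * (c : H)⁻¹ := by group
    _ = (c : H) * (t * u.1) * (c : H)⁻¹ := by rw [← hc]; group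
    _ = (c : H) * (u.1 * t) * (c : H)⁻¹ := by rw [hu.eq]
    _ = (c : H) * u.1 * (t * (c : H)⁻¹) := by group
    _ = (c : H) * u.1 * ((c : H)⁻¹ * t) := by
      rw [show t * (c : H)⁻¹ = (c : H)⁻¹ * t by
        rw [eq_inv_mul_iff_mul_eq, ← mul_assoc, hc, mul_inv_cancel_right]]
    _ = _ := by group

omit [Finite H] in
theorem eq_base_of_orbit_cen {s : Invs H} (h : s ∈ orbit B.cen B.base) : s = B.base := by
  obtain ⟨c, rfl⟩ := h
  exact c.2

theorem smul_base_ne {k : H} (hk : k ∈ K) (hk1 : k ≠ 1) : k • B.base ≠ B.base := fun e => hk1 <| by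
  have hY : k ∈ Y := (B.cent _ (B.K_le hk)).2 (B.mem_cen.1 e)
  have : k ∈ K ⊓ Y := ⟨hk, hY⟩
  rwa [B.disj, Subgroup.mem_bot] at this

/-- The centraliser has at most two orbits. -/
theorem finish_two (h : Nat.card (orbitRel.Quotient B.cen (Invs H)) ≤ 2) :
    ∀ v w : H, orderOf v = 2 → orderOf w = 2 → Commute v w := by
  refine B.commute_all fun s => ?_
  obtain ⟨k, hk, hk1, hkc⟩ := B.some_comm
  by_cases hs : s = B.base
  · subst hs
    exact Commute.refl t
  by_contra hns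
  let q : Invs H → orbitRel.Quotient B.cen (Invs H) := Quotient.mk''
  have h01 : q B.base ≠ q (k • B.base) := fun e => B.smul_base_ne hk hk1
    (B.eq_base_of_orbit_cen (orbitRel_apply.1 (Quotient.exact' e.symm)))
  have h02 : q B.base ≠ q s := fun e => hs
    (B.eq_base_of_orbit_cen (orbitRel_apply.1 (Quotient.exact' e.symm)))
  have h12 : q (k • B.base) ≠ q s := fun e => hns
    (B.commute_of_orbit_cen (u := k • B.base) hkc (orbitRel_apply.1 (Quotient.exact' e.symm)))
  haveI := Fintype.ofFinite (orbitRel.Quotient B.cen (Invs H))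
  have : ({q B.base, q (k • B.base), q s} : Finset _).card ≤ 2 :=
    (Finset.card_le_univ _).trans (by rwa [← Nat.card_eq_fintype_card])
  rw [Finset.card_eq_three.2 ⟨_, _, _, h01, h02, h12, rfl⟩] at this
  omega

/-- An orbit of a normal subgroup, containing more than `t`, commutes with `t`. -/
theorem finish_block (N : Subgroup H) [N.Normal] (hbig : ∃ s ∈ orbit N B.base, s ≠ B.base)
    (hA : ∀ s ∈ orbit N B.base, Commute t s.1) :
    ∀ v w : H, orderOf v = 2 → orderOf w = 2 → Commute v w := by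
  have hAA : ∀ a ∈ orbit N B.base, ∀ b ∈ orbit N B.base, Commute a.1 b.1 := by
    rintro _ ⟨m, rfl⟩ b hb
    have hb' : (m : H)⁻¹ • b ∈ orbit N B.base := by
      obtain ⟨m', rfl⟩ := hb
      exact ⟨m⁻¹ * m', mul_smul m⁻¹ m' B.base⟩
    have h1 : t * ((m : H)⁻¹ * b.1 * (m : H)⁻¹⁻¹) = (m : H)⁻¹ * b.1 * (m : H)⁻¹⁻¹ * t :=
      (hA _ hb').eq
    show (m : H) * t * (m : H)⁻¹ * b.1 = b.1 * ((m : H) * t * (m : H)⁻¹)
    calc (m : H) * t * (m : H)⁻¹ * b.1
        = (m : H) * (t * ((m : H)⁻¹ * b.1 * (m : H)⁻¹⁻¹)) * (m : H)⁻¹ := by group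
      _ = (m : H) * ((m : H)⁻¹ * b.1 * (m : H)⁻¹⁻¹ * t) * (m : H)⁻¹ := by rw [h1]
      _ = _ := by group
  set E : Subgroup H := Subgroup.closure
    {x | ∃ a ∈ orbit N B.base, ∃ b ∈ orbit N B.base, x = a.1 * b.1} with hE
  have hsq : ∀ a : Invs H, a.1 * a.1 = 1 := fun a => by
    have := pow_orderOf_eq_one a.1
    rwa [a.2, pow_two] at this
  have hEN : E ≤ N := by
    rw [hE, Subgroup.closure_le]
    rintro _ ⟨a, ⟨m, rfl⟩, b, ⟨m', rfl⟩, rfl⟩
    show (m : H) * t * (m : H)⁻¹ * ((m' : H) * t * (m' : H)⁻¹) ∈ N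
    have e : (m : H) * t * (m : H)⁻¹ * ((m' : H) * t * (m' : H)⁻¹) =
        (m : H) * (t * ((m : H)⁻¹ * (m' : H)) * t⁻¹) * (m' : H)⁻¹ := by
      rw [show t⁻¹ = t from inv_eq_of_mul_eq_one_right (hsq B.base)]
      group
    rw [e]
    exact mul_mem (mul_mem m.2 (Subgroup.Normal.conj_mem inferInstance _
      (mul_mem (inv_mem m.2) m'.2) t)) (inv_mem m'.2)
  have hEcomm : ∀ x ∈ E, ∀ y ∈ E, x * y = y * x := by
    have hgen : ∀ x ∈ {x | ∃ a ∈ orbit N B.base, ∃ b ∈ orbit N B.base, x = a.1 * b.1},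
        ∀ y ∈ {x | ∃ a ∈ orbit N B.base, ∃ b ∈ orbit N B.base, x = a.1 * b.1}, x * y = y * x := by
      rintro _ ⟨a, ha, b, hb, rfl⟩ _ ⟨c, hc, d, hd, rfl⟩
      exact ((hAA a ha c hc).mul_right (hAA a ha d hd)).mul_left
        ((hAA b hb c hc).mul_right (hAA b hb d hd))
    intro x hx y hy
    haveI : IsMulCommutative (Subgroup.closure
        {x | ∃ a ∈ orbit N B.base, ∃ b ∈ orbit N B.base, x = a.1 * b.1}) :=
      Subgroup.isMulCommutative_closure hgen
    exact congrArg (fun z : E => (z : H)) (mul_comm' (⟨x, hx⟩ : E) ⟨y, hy⟩)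
  have hEsq : ∀ x ∈ E, x * x = 1 := by
    intro x hx
    induction hx using Subgroup.closure_induction with
    | mem x hx =>
      obtain ⟨a, ha, b, hb, rfl⟩ := hx
      rw [(hAA b hb a ha).mul_mul_mul_comm, hsq, hsq, one_mul]
    | one => rw [one_mul]
    | mul x y hx hy ihx ihy =>
      rw [(show Commute y x from hEcomm y hy x hx).mul_mul_mul_comm, ihx, ihy, one_mul]
    | inv x _ ihx => rw [← mul_inv_rev, ihx, inv_one]
  have hnorm : ∀ n ∈ N, ∀ x ∈ E, n * x * n⁻¹ ∈ E := by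
    intro n hn x hx
    induction hx using Subgroup.closure_induction with
    | mem x hx =>
      obtain ⟨a, ha, b, hb, rfl⟩ := hx
      refine Subgroup.subset_closure
        ⟨(⟨n, hn⟩ : N) • a, mem_orbit_of_mem_orbit _ ha, (⟨n, hn⟩ : N) • b,
          mem_orbit_of_mem_orbit _ hb, ?_⟩
      show n * (a.1 * b.1) * n⁻¹ = n * a.1 * n⁻¹ * (n * b.1 * n⁻¹)
      group
    | one => rw [mul_one, mul_inv_cancel]; exact one_mem _
    | mul x y _ _ ihx ihy =>
      rw [show n * (x * y) * n⁻¹ = (n * x * n⁻¹) * (n * y * n⁻¹) by group]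
      exact mul_mem ihx ihy
    | inv x _ ihx =>
      rw [show n * x⁻¹ * n⁻¹ = (n * x * n⁻¹)⁻¹ by group]
      exact inv_mem ihx
  -- the conjugates of `E` generate a normal `2`-subgroup
  set conjE : H → Subgroup H := fun g => E.map (MulAut.conj g).toMonoidHom
  have hcN : ∀ g, conjE g ≤ N := by
    rintro g _ ⟨x, hx, rfl⟩
    exact Subgroup.Normal.conj_mem inferInstance x (hEN hx) g
  have hcnorm : ∀ g, N ≤ Subgroup.normalizer (conjE g : Set H) := by
    intro g n hn
    have key : ∀ n ∈ N, ∀ z ∈ conjE g, n * z * n⁻¹ ∈ conjE g := by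
      rintro n hn _ ⟨x, hx, rfl⟩
      have hn' : g⁻¹ * n * g ∈ N := by
        simpa using Subgroup.Normal.conj_mem (inferInstance : N.Normal) n hn g⁻¹
      exact ⟨(g⁻¹ * n * g) * x * (g⁻¹ * n * g)⁻¹, hnorm _ hn' x hx, by
        simp [MulAut.conj_apply]; group⟩
    rw [Subgroup.mem_normalizer_iff]
    refine fun z => ⟨key n hn z, fun hz => ?_⟩
    have := key n⁻¹ (inv_mem hn) _ hz
    simpa [mul_assoc] using this
  haveI := Fintype.ofFinite H
  set S : Subgroup H := Finset.univ.sup conjE with hS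
  have hSp : ∀ s : Finset H, IsPGroup 2 ↥(s.sup conjE) ∧ s.sup conjE ≤ N := by
    intro s
    induction s using Finset.induction_on with
    | empty => exact ⟨IsPGroup.of_bot, bot_le⟩
    | insert g s _ ih =>
      rw [Finset.sup_insert, sup_comm]
      refine ⟨ih.1.to_sup_of_normal_right' (isPGroup_two_of_sq ?_) (ih.2.trans (hcnorm g)),
        sup_le ih.2 (hcN g)⟩
      rintro _ ⟨x, hx, rfl⟩
      rw [← map_mul, hEsq x hx, map_one]
  haveI hnormal : S.Normal := by
    refine ⟨fun x hx g => ?_⟩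
    have hle : S.map (MulAut.conj g).toMonoidHom ≤ S := by
      rw [hS, Finset.sup_eq_iSup, Subgroup.map_iSup]
      refine iSup_le fun h => ?_
      rw [Subgroup.map_iSup]
      refine iSup_le fun _ => ?_
      refine le_trans ?_ (le_iSup₂ (f := fun a (_ : a ∈ Finset.univ) => conjE a) (g * h)
        (Finset.mem_univ _))
      rw [Subgroup.map_map]
      refine le_of_eq ?_
      congr 1
      ext z
      simp [mul_assoc]
    exact hle ⟨x, hx, rfl⟩
  refine commute_of_normal_two (t := t) (fun v hv => ?_) (hSp Finset.univ).1 ?_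
  · obtain ⟨k, -, e⟩ := B.cover v hv
    exact ⟨k, e⟩
  · obtain ⟨s, hs, hne⟩ := hbig
    intro hbot
    have hmem : t * s.1 ∈ E := Subgroup.subset_closure ⟨B.base, mem_orbit_self _, s, hs, rfl⟩
    have hmemS : t * s.1 ∈ S := by
      refine (Finset.le_sup (f := conjE) (Finset.mem_univ (1 : H))) ?_
      exact ⟨_, hmem, by simp⟩
    replace hmemS : t * s.1 = 1 := Subgroup.mem_bot.1 (hbot.le hmemS)
    refine hne (Subtype.ext ?_)
    have : t⁻¹ = s.1 := inv_eq_of_mul_eq_one_right hmemS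
    rw [← this]
    exact inv_eq_of_mul_eq_one_right (hsq B.base)

end BlockHyp

end Cfsg.Agent.Lib.BenderOne43
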