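import Mathlib
import Cfsg.Agent.Lib.BenderOne43.Finish

/-!
# All involutions of the point stabiliser commute

The case analysis of N4 (iii) of `notes/bender_nodeC2_helper43.md`.
-/

set_option autoImplicit false
set_option linter.style.haveILetI false
set_option maxHeartbeats 1000000

namespace Cfsg.Agent.Lib.BenderOne43

open scoped Classical
open MulAction
open Cfsg.Agent.Lib.Induced.Basic Cfsg.Agent.Lib.Characters.Basic
open Cfsg.Agent.Lib.Characters.Transitive

universe u

attribute [local instance] dualAction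

/-- A rigid system in which members of a class agree: each class is constant or injective. -/
theorem Rigid.const_or_inj {H : Type u} [Group H] [Fintype H] {D : Subgroup H} [Fintype D]
    {ι : Type*} {θ : ι → D → ℂ} {Φ : ι → Cfsg.IrrCharacter H} {Bad : D → Prop}
    (R : Rigid D θ Φ Bad) {P : ι → Prop}
    (hP : ∀ i j, P i → P j → ∀ d, Bad d → θ i d = θ j d) :
    (∀ i j, P i → P j → Φ i = Φ j) ∨ (∀ i j, P i → P j → Φ i = Φ j → i = j) := by
  by_cases h : ∀ i j, P i → P j → Φ i = Φ j → i = j
  · exact Or.inr h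
  push Not at h
  obtain ⟨i, j, hi, hj, hij, hne⟩ := h
  refine Or.inl fun a b ha hb => ?_
  have key : ∀ k, P k → Φ k = Φ i := fun k hk => by
    by_contra hk'
    exact hne (R.eq_of_three (hP i k hi hk) (hP j k hj hk) hij (Ne.symm hk'))
  rw [key a ha, key b hb]

/-- A class in separate constituents shares none with another class. -/
theorem Rigid.not_shared {H : Type u} [Group H] [Fintype H] {D : Subgroup H} [Fintype D]
    {ι : Type*} [Fintype ι] {θ : ι → D → ℂ} {Φ : ι → Cfsg.IrrCharacter H} {Bad : D → Prop}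
    (R : Rigid D θ Φ Bad) {P Q : ι → Prop} {dg : ι → ℕ}
    (hP : ∀ i j, P i → P j → ∀ d, Bad d → θ i d = θ j d)
    (hQ : ∀ i j, Q i → Q j → ∀ d, Bad d → θ i d = θ j d)
    (hP1 : ∀ i j, P i → P j → θ i 1 = θ j 1)
    (hdg : ∀ i, 0 < dg i) (hdgP : ∀ i j, P i → P j → dg i = dg j)
    (hdeg : ∀ i, (Φ i : H → ℂ) 1 = ((∑ k ∈ Finset.univ.filter (fun k => Φ k = Φ i), dg k : ℕ) : ℂ))
    (hcov : ∀ i p, P p → Φ i = Φ p → P i ∨ Q i)
    (hPQ : ∀ i, P i → ¬ Q i)
    (hinj : ∀ i j, P i → P j → Φ i = Φ j → i = j) {p p' r : ι} (hp : P p) (hp' : P p')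
    (hne : p ≠ p') (hr : Q r) (hpr : Φ r = Φ p) : False := by
  have hΦ : Φ p ≠ Φ p' := fun e => hne (hinj p p' hp hp' e)
  have h1 := R.degree_eq (hP p p' hp hp') (hP1 p p' hp hp') hΦ
  rw [hdeg, hdeg] at h1
  have h2 : (∑ k ∈ Finset.univ.filter (fun k => Φ k = Φ p), dg k) =
      ∑ k ∈ Finset.univ.filter (fun k => Φ k = Φ p'), dg k := by exact_mod_cast h1
  have hfib : Finset.univ.filter (fun k => Φ k = Φ p') = {p'} := by
    ext k
    simp only [Finset.mem_filter, Finset.mem_univ, true_and, Finset.mem_singleton]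
    refine ⟨fun hk => ?_, fun hk => by rw [hk]⟩
    rcases hcov k p' hp' hk with hkP | hkQ
    · exact hinj k p' hkP hp' hk
    · exfalso
      exact R.not_parallel (hP p p' hp hp') (hQ r k hr hkQ) hΦ hpr hk
        (fun e : p = r => hPQ p hp (e.symm ▸ hr))
  rw [hfib, Finset.sum_singleton] at h2
  have hsub : ({p, r} : Finset ι) ⊆ Finset.univ.filter (fun k => Φ k = Φ p) := by
    intro k hk
    simp only [Finset.mem_insert, Finset.mem_singleton] at hk
    rcases hk with rfl | rfl <;> simp [hpr]
  have h3 := Finset.sum_le_sum_of_subset (f := dg) hsub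
  rw [Finset.sum_pair (fun e : p = r => hPQ p hp (e.symm ▸ hr)), h2] at h3
  have := hdgP p p' hp hp'
  have := hdg r
  omega

namespace BlockHyp

variable {H : Type u} [Group H] [Fintype H] {t : H} {D K Y : Subgroup H} {y₀ : H}
  (B : BlockHyp t D K Y y₀)
include B

/-- **All involutions commute.** -/
theorem commute_involutions : ∀ v w : H, orderOf v = 2 → orderOf w = 2 → Commute v w := by
  haveI := B.normal'
  haveI := B.isPretransitive
  haveI : Nonempty (Invs H) := ⟨B.base⟩
  letI := Fintype.ofFinite D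
  haveI := B.split.finite_dual
  letI := Fintype.ofFinite (Dual (K.subgroupOf D))
  set h := B.split with hh
  have T := B.twoTypes
  set N₀ := Subgroup.zpowers B.gen with hN₀
  set i₀ : Idx (K.subgroupOf D) (Y.subgroupOf D) := idx₀ with hi₀
  set π : H → ℂ := permChar (Invs H) with hπdef
  -- the sum decomposition
  have hcharπ : Cfsg.IsCharacter H π := by
    rw [hπdef, show (permChar (Invs H) : H → ℂ) = _ from card_fixedBy_eq_indFun (Invs H) B.base]
    exact Cfsg.Agent.Lib.Induced.Character.isCharacter_indFun _ isCharacter_one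
  have S : SumData D π (th h (Y := Y.subgroupOf D)) := by
    refine ⟨hcharπ, isCharacter_th h, fun i j => by convert th_orth h i j, ?_⟩
    funext d
    show permChar (Invs H) (d : H) = _
    rw [B.permChar_eq d, theta_univ_eq_sum]
  obtain ⟨Φ, hπ, hres, hco⟩ := S.exists_constituents
  set I := Finset.univ.image Φ with hI
  let Bad : D → Prop := fun d => ∃ k ∈ K, k * (d : H) * k⁻¹ ∈ Y
  have R : Rigid D (th h) Φ Bad :=
    ⟨fun g d hd => B.ti g d d.2 hd,
      fun i => isClassFunction_of_isCharacter (isCharacter_th h i),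
      fun i j => by convert th_orth h i j, hco⟩
  set isX := IsX (K := K.subgroupOf D) B.gen with hisX
  set isR := IsR (K := K.subgroupOf D) B.gen with hisR
  have hagree : ∀ i j, isX i ∧ isX j ∨ isR i ∧ isR j → ∀ d, Bad d → th h i d = th h j d := by
    rintro i j hij d ⟨k, hk, hkd⟩
    let c : D := ⟨k, B.K_le hk⟩
    have e : ∀ i, th h i (c * d * c⁻¹) = th h i d := fun i =>
      isClassFunction_of_isCharacter (isCharacter_th h i) d c
    rw [← e i, ← e j]
    exact th_agree T hij ⟨c * d * c⁻¹, hkd⟩
  have hagree1 : ∀ i j, isX i ∧ isX j ∨ isR i ∧ isR j → th h i 1 = th h j 1 := fun i j hij =>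
    th_agree T hij (1 : Y.subgroupOf D)
  -- degrees
  set dg : Idx (K.subgroupOf D) (Y.subgroupOf D) → ℕ := fun i => Nat.card ↥(orbSet i) with hdgdef
  have hdg : ∀ i, 0 < dg i := fun i => by
    obtain ⟨l, hl⟩ := exists_mem_orbSet i
    haveI : Nonempty ↥(orbSet i) := ⟨⟨l, hl⟩⟩
    exact Nat.card_pos
  have hdeg : ∀ i, (Φ i : H → ℂ) 1 =
      ((∑ k ∈ Finset.univ.filter (fun k => Φ k = Φ i), dg k : ℕ) : ℂ) := by
    intro i
    have := congrFun (hres (Φ i) (Finset.mem_image_of_mem _ (Finset.mem_univ i))) 1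
    rw [Finset.sum_apply] at this
    rw [Nat.cast_sum]
    refine (this.trans (Finset.sum_congr rfl fun k _ => th_one h k))
  have hdgX : ∀ i, isX i → dg i = N₀.index := fun i hi => card_orbSet_of_isX T hi
  have htri : ∀ i, i = i₀ ∨ isX i ∨ isR i := fun i => by
    by_cases h0 : i = i₀
    · exact Or.inl h0
    by_cases hf : ∀ l ∈ orbSet i, Fixes B.gen l
    · exact Or.inr (Or.inl ⟨h0, hf⟩)
    · exact Or.inr (Or.inr ⟨h0, hf⟩)
  have hXR : ∀ i, isX i → ¬ isR i := fun i hX hR => hR.2 hX.2
  -- the trivial constituent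
  have hπinner : ∀ χ : Cfsg.IrrCharacter H,
      Cfsg.classInner π (χ : H → ℂ) = if χ ∈ I then 1 else 0 := fun χ => by
    rw [hπ, classInner_sum_left]
    simp [classInner_irr]
  have hone : Φ i₀ = oneChar H := by
    have h1 := hπinner (oneChar H)
    rw [show ((oneChar H : Cfsg.IrrCharacter H) : H → ℂ) = (fun _ => 1) from rfl,
      hπdef, classInner_permChar_one] at h1
    split_ifs at h1 with hm
    · obtain ⟨i, -, hi⟩ := Finset.mem_image.1 hm
      have h2 := hco i₀ i
      rw [hi, show res D ((oneChar H : Cfsg.IrrCharacter H) : H → ℂ) = th h i₀ from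
        (th_idx₀ h).symm, th_orth, if_pos rfl] at h2
      split_ifs at h2 with h3
      · exact h3
      · exact absurd h2 one_ne_zero
    · exact absurd h1 one_ne_zero
  have hΦ0 : ∀ i, Φ i = Φ i₀ → i = i₀ := by
    intro i hi
    have h2 := hco i i₀
    rw [hone, show res D ((oneChar H : Cfsg.IrrCharacter H) : H → ℂ) = th h i₀ from
      (th_idx₀ h).symm, th_orth, ← hone, if_pos hi] at h2
    split_ifs at h2 with h3
    · exact h3.symm
    · exact absurd h2 zero_ne_one
  -- orbit numbers
  have hrank : orbNum (Invs H) B.cen = I.card := by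
    have h1 := rank_eq (G := H) (Invs H) B.base
    rw [show (permChar (Invs H) : H → ℂ) = π from rfl, hπ, classInner_sum_left] at h1
    simp only [classInner_sum_right, classInner_irr] at h1
    rw [Finset.sum_congr rfl fun a ha => Finset.sum_ite_eq I a (fun _ => (1 : ℂ))] at h1
    simp only [Finset.sum_ite_mem, Finset.inter_self, Finset.sum_const, nsmul_one] at h1
    exact_mod_cast h1.symm
  have hYrank : orbNum (Invs H) Y = Fintype.card (Idx (K.subgroupOf D) (Y.subgroupOf D)) := by
    haveI : IsPretransitive D (Invs H) := by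
      refine ⟨fun v w => ?_⟩
      obtain ⟨k, hk, e⟩ := B.cover v.1 v.2
      obtain ⟨l, hl, e'⟩ := B.cover w.1 w.2
      refine ⟨⟨l * k⁻¹, mul_mem (B.K_le hl) (inv_mem (B.K_le hk))⟩, Subtype.ext ?_⟩
      show (l * k⁻¹) * v.1 * (l * k⁻¹)⁻¹ = w.1
      rw [e, e']; group
    have hresπ : res D π = (permChar (Invs H) : D → ℂ) := rfl
    have h1 : Cfsg.classInner (res D π) (res D π) =
        (Fintype.card (Idx (K.subgroupOf D) (Y.subgroupOf D)) : ℂ) := by
      rw [S.res_eq, classInner_sum_left]
      simp [classInner_sum_right, th_orth]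
    have h2 : Cfsg.classInner (res D π) (res D π) =
        avgOn (stabilizer D B.base) (res D π) := by
      conv_lhs => arg 2; rw [hresπ]
      exact classInner_permChar_left (G := D) (Invs H) B.base
        (isClassFunction_of_isCharacter (isCharacter_res hcharπ))
    let e : stabilizer D B.base ≃ Y :=
      { toFun := fun d => ⟨(d.1 : H), (B.cent _ d.1.2).2 (B.mem_cen.1 d.2)⟩
        invFun := fun y => ⟨⟨y.1, B.Y_le y.2⟩, B.Y_le_cen y.2⟩
        left_inv := fun d => rfl
        right_inv := fun y => rfl }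
    have h3 : avgOn (stabilizer D B.base) (res D π) = avgOn Y π := by
      rw [avgOn, avgOn, Nat.card_congr e]
      congr 1
      exact Fintype.sum_equiv e _ _ fun d => rfl
    rw [h1, h3, hπdef, avgOn_permChar] at h2
    exact_mod_cast h2.symm
  by_cases hinj : Function.Injective Φ
  · -- every member alone
    refine B.commute_all fun s => B.commute_of_mem_orbit ?_
    refine mem_orbit_of_orbNum_le (Invs H) B.Y_le_cen ?_ ⟨⟨t, B.t_mem_cen⟩, rfl⟩
    rw [hYrank, hrank, hI, Finset.card_image_of_injective _ hinj, Finset.card_univ]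
  by_cases hall : ∀ i j, i ≠ i₀ → j ≠ i₀ → Φ i = Φ j
  · -- one constituent
    refine B.finish_two ?_
    show orbNum (Invs H) B.cen ≤ 2
    rw [hrank, hI]
    by_cases hex : ∃ i, i ≠ i₀
    · obtain ⟨i, hi⟩ := hex
      refine (Finset.card_le_card (t := {Φ i₀, Φ i}) fun χ hχ => ?_).trans Finset.card_le_two
      obtain ⟨j, -, rfl⟩ := Finset.mem_image.1 hχ
      by_cases hj : j = i₀
      · simp [hj]
      · simp [hall j i hj hi]
    · push Not at hex
      refine (Finset.card_le_card (t := {Φ i₀}) fun χ hχ => ?_).trans (by simp)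
      obtain ⟨j, -, rfl⟩ := Finset.mem_image.1 hχ
      simp [hex j]
  have hcX := R.const_or_inj (P := isX) fun i j hi hj => hagree i j (Or.inl ⟨hi, hj⟩)
  have hcR := R.const_or_inj (P := isR) fun i j hi hj => hagree i j (Or.inr ⟨hi, hj⟩)
  have hdgR : ∀ i j, isR i → isR j → dg i = dg j := fun i j hi hj =>
    (card_orbSet_of_isR T hi).trans (card_orbSet_of_isR T hj).symm
  have hcov : ∀ i p, p ≠ i₀ → Φ i = Φ p → isX i ∨ isR i := fun i p hp e =>
    (htri i).resolve_left fun e0 => hp (hΦ0 p (by rw [← e, e0]))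
  -- the two types share no constituent
  have hsep : ∀ x r, isX x → isR r → Φ x ≠ Φ r := by
    intro x r hx hr he
    refine hall ?_
    by_cases hX : ∀ i j, isX i → isX j → Φ i = Φ j
    · by_cases hR : ∀ i j, isR i → isR j → Φ i = Φ j
      · intro i j hi hj
        have key : ∀ i, i ≠ i₀ → Φ i = Φ x := fun i hi => by
          rcases (htri i).resolve_left hi with h' | h'
          · exact hX i x h' hx
          · exact (hR i r h' hr).trans he.symm
        rw [key i hi, key j hj]
      · exfalso
        push Not at hR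
        obtain ⟨a, b, ha, hb, hab⟩ := hR
        obtain ⟨r', hr', hne⟩ : ∃ r', isR r' ∧ r ≠ r' := by
          by_cases e : r = a
          · exact ⟨b, hb, fun e' => hab (by rw [← e, ← e'])⟩
          · exact ⟨a, ha, e⟩
        exact R.not_shared (P := isR) (Q := isX) (dg := dg)
          (fun i j hi hj => hagree i j (Or.inr ⟨hi, hj⟩))
          (fun i j hi hj => hagree i j (Or.inl ⟨hi, hj⟩))
          (fun i j hi hj => hagree1 i j (Or.inr ⟨hi, hj⟩)) hdg hdgR hdeg
          (fun i p hp e => (hcov i p hp.1 e).symm) (fun i hi hi' => hXR i hi' hi)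
          (hcR.resolve_left fun hR' => hab (hR' a b ha hb)) hr hr' hne hx he
    · exfalso
      push Not at hX
      obtain ⟨a, b, ha, hb, hab⟩ := hX
      obtain ⟨x', hx', hne⟩ : ∃ x', isX x' ∧ x ≠ x' := by
        by_cases e : x = a
        · exact ⟨b, hb, fun e' => hab (by rw [← e, ← e'])⟩
        · exact ⟨a, ha, e⟩
      exact R.not_shared (P := isX) (Q := isR) (dg := dg)
        (fun i j hi hj => hagree i j (Or.inl ⟨hi, hj⟩))
        (fun i j hi hj => hagree i j (Or.inr ⟨hi, hj⟩))
        (fun i j hi hj => hagree1 i j (Or.inl ⟨hi, hj⟩)) hdg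
        (fun i j hi hj => (hdgX i hi).trans (hdgX j hj).symm) hdeg
        (fun i p hp e => hcov i p hp.1 e) hXR
        (hcX.resolve_left fun hX' => hab (hX' a b ha hb)) hx hx' hne hr he.symm
  -- some regular member exists
  obtain ⟨r₀, hr₀⟩ : ∃ r, isR r := by
    by_contra hno
    push Not at hno
    have hX : ∀ i, i ≠ i₀ → isX i := fun i hi =>
      ((htri i).resolve_left hi).resolve_right (hno i)
    rcases hcX with hc | hc
    · exact hall fun i j hi hj => hc i j (hX i hi) (hX j hj)
    · refine hinj fun i j e => ?_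
      by_cases hi : i = i₀
      · rw [hi] at e ⊢; exact (hΦ0 j e.symm).symm
      · exact hc i j (hX i hi) (hX j fun hj => hi (hΦ0 i (hj ▸ e))) e
  have hy₀ : y₀ ≠ 1 := fun e => hr₀.2 fun l _ => by
    have : B.gen = 1 := Subtype.ext (Subtype.ext e)
    rw [this]
    exact (fixes_iff_mem_stabilizer (1 : Y.subgroupOf D) l).2 (one_mem _)
  -- the kernel of the constituents of type `X`
  set XI := (Finset.univ.filter fun i => isX i).image Φ with hXI
  set M₀ : Subgroup H :=
    ⨅ χ ∈ XI, Cfsg.Agent.Lib.Characters.Kernel.charKer (isCharacter_irr χ) with hM₀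
  haveI hM₀n : M₀.Normal := ⟨fun g hg c => by
    simp only [hM₀, Subgroup.mem_iInf] at hg ⊢
    exact fun χ hχ =>
      (Cfsg.Agent.Lib.Characters.Kernel.charKer_normal (isCharacter_irr χ)).conj_mem g (hg χ hχ) c⟩
  have hM₀ker : ∀ χ ∈ XI, ∀ m ∈ M₀, (χ : H → ℂ) m = (χ : H → ℂ) 1 := fun χ hχ m hm => by
    simp only [hM₀, Subgroup.mem_iInf] at hm
    exact (Cfsg.Agent.Lib.Characters.Kernel.mem_charKer (isCharacter_irr χ) m).1 (hm χ hχ)
  have hXI_sub : XI ⊆ I := Finset.image_subset_image (Finset.filter_subset _ _)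
  have hXI_fib : ∀ χ ∈ XI, ∀ i, Φ i = χ → isX i := by
    intro χ hχ i hi
    obtain ⟨x, hx, rfl⟩ := Finset.mem_image.1 hχ
    have hx' : isX x := (Finset.mem_filter.1 hx).2
    exact (hcov i x hx'.1 hi).resolve_right fun hr => hsep x i hx' hr hi.symm
  let Rk := (defect h B.gen).range
  have hRkM : ∀ r : K.subgroupOf D, r ∈ Rk → ((r : D) : H) ∈ M₀ := by
    rintro _ ⟨k, rfl⟩
    simp only [hM₀, Subgroup.mem_iInf]
    intro χ hχ
    rw [Cfsg.Agent.Lib.Characters.Kernel.mem_charKer]
    have h1 := hres χ (hXI_sub hχ)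
    have e1 := congrFun h1 (defect h B.gen k : D)
    have e2 := congrFun h1 1
    rw [Finset.sum_apply] at e1 e2
    rw [show (χ : H → ℂ) ((defect h B.gen k : D) : H) = res D (χ : H → ℂ) (defect h B.gen k : D)
      from rfl, e1, show (χ : H → ℂ) 1 = res D (χ : H → ℂ) 1 from rfl, e2]
    exact Finset.sum_congr rfl fun i hi =>
      th_X_range T (hXI_fib χ hχ i (Finset.mem_filter.1 hi).2) k
  -- the orbits of the kernel are the cosets of the image of `defect`
  set M := Nat.card ↥(defect h B.gen).ker with hM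
  let blk : K.subgroupOf D ⧸ Rk → orbitRel.Quotient M₀ (Invs H) :=
    Quotient.lift (fun k => Quotient.mk'' (((k : D) : H) • B.base)) fun a b hab => by
      have hmem : a⁻¹ * b ∈ Rk := (QuotientGroup.leftRel_apply).1 hab
      refine (Quotient.sound' ?_).symm
      show ((b : D) : H) • B.base ∈ orbit M₀ (((a : D) : H) • B.base)
      refine ⟨⟨_, hRkM _ hmem⟩, ?_⟩
      show (((a⁻¹ * b : K.subgroupOf D) : D) : H) • ((a : D) : H) • B.base =
        ((b : D) : H) • B.base
      rw [← mul_smul]
      congr 1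
      have hc := B.comm _ (a⁻¹ * b : K.subgroupOf D).2 _ a.2
      calc (((a⁻¹ * b : K.subgroupOf D) : D) : H) * ((a : D) : H)
          = ((a : D) : H) * (((a⁻¹ * b : K.subgroupOf D) : D) : H) := hc
        _ = ((b : D) : H) := by simp
  have hblk : Function.Surjective blk := fun z => by
    induction z using Quotient.inductionOn' with
    | h v =>
      obtain ⟨k, hk⟩ := B.param_bijective.2 v
      exact ⟨QuotientGroup.mk k, congrArg Quotient.mk'' hk⟩
  have hidx : Nat.card (K.subgroupOf D ⧸ Rk) = M := by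
    rw [← Subgroup.index_eq_card]
    have h3 := (defect h B.gen).ker.card_mul_index
    rw [Subgroup.index_ker] at h3
    exact Nat.mul_left_cancel (Nat.card_pos (α := Rk))
      ((Rk.card_mul_index).trans (h3.symm.trans (mul_comm _ _)))
  have havgC : ∀ χ ∈ I, avgOn B.cen (χ : H → ℂ) = 1 := by
    intro χ hχ
    rw [← classInner_permChar_left (Invs H) B.base (isClassFunction_irr χ),
      ← classInner_conj_symm, show (permChar (Invs H) : H → ℂ) = π from rfl, hπinner, if_pos hχ,
      map_one]
  have hone_mem : oneChar H ∈ I := hone ▸ Finset.mem_image_of_mem _ (Finset.mem_univ i₀)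
  have hone_XI : oneChar H ∉ XI := fun hm => (hXI_fib _ hm i₀ hone).1 rfl
  choose a ha using fun (P : Subgroup H) (χ : Cfsg.IrrCharacter H) => exists_avgOn_nat P χ
  have hsum : ∀ P : Subgroup H, orbNum (Invs H) P =
      1 + ∑ χ ∈ XI, a P χ + ∑ χ ∈ I.erase (oneChar H) \ XI, a P χ := by
    intro P
    have e := avgOn_permChar (Invs H) P
    rw [show (permChar (Invs H) : H → ℂ) = π from rfl, hπ, avgOn_sum,
      Finset.sum_congr rfl fun χ _ => ha P χ, ← Nat.cast_sum, Nat.cast_inj] at e
    have ha1 : a P (oneChar H) = 1 := by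
      have := ha P (oneChar H)
      rw [avgOn_eq_classInner, show (fun p : P => (oneChar H : H → ℂ) p) =
        (oneChar P : P → ℂ) from rfl, show (fun _ : P => (1 : ℂ)) = (oneChar P : P → ℂ) from rfl,
        classInner_self_irr] at this
      exact_mod_cast this.symm
    have hsubE : XI ⊆ I.erase (oneChar H) := fun χ hχ =>
      Finset.mem_erase.2 ⟨fun e => hone_XI (e ▸ hχ), hXI_sub hχ⟩
    rw [← e, ← Finset.add_sum_erase I _ hone_mem, ha1, ← Finset.sum_sdiff hsubE]
    ring
  have hfull : ∀ χ ∈ XI, avgOn M₀ (χ : H → ℂ) = (χ : H → ℂ) 1 := by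
    intro χ hχ
    rw [avgOn, Finset.sum_congr rfl fun (m : M₀) _ => hM₀ker χ hχ m m.2, Finset.sum_const,
      Finset.card_univ, nsmul_eq_mul, ← Nat.card_eq_fintype_card, ← mul_assoc,
      inv_mul_cancel₀ (subgroup_card_ne_zero M₀), one_mul]
  have hXdeg : (∑ χ ∈ XI, a M₀ χ) =
      N₀.index * (Finset.univ.filter fun i => isX i).card := by
    have e1 : ∀ χ ∈ XI, a M₀ χ = ∑ k ∈ Finset.univ.filter (fun k => Φ k = χ), dg k := by
      intro χ hχ
      obtain ⟨x, -, rfl⟩ := Finset.mem_image.1 hχ
      have := (ha M₀ (Φ x)).symm.trans ((hfull _ hχ).trans (hdeg x))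
      exact_mod_cast this
    rw [Finset.sum_congr rfl e1, mul_comm, ← smul_eq_mul, ← Finset.sum_const,
      ← Finset.sum_fiberwise_of_maps_to (g := Φ) (t := XI)
        (fun i hi => Finset.mem_image_of_mem Φ hi)]
    refine Finset.sum_congr rfl fun χ hχ => ?_
    rw [Finset.filter_filter]
    refine Finset.sum_congr ?_ fun i hi => ?_
    · ext i
      simp only [Finset.mem_filter, Finset.mem_univ, true_and]
      exact ⟨fun e => ⟨hXI_fib χ hχ i e, e⟩, fun e => e.2⟩
    · exact hdgX i (Finset.mem_filter.1 hi).2.1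
  have hMval : M = 1 + N₀.index * (Finset.univ.filter fun i => isX i).card := by
    have := count_y₀ T
    rw [Nat.card_eq_fintype_card (α := {i // IsX B.gen i}), Fintype.card_subtype] at this
    exact_mod_cast this
  have hM₀orb : orbNum (Invs H) M₀ = M ∧ ∀ χ ∈ I.erase (oneChar H) \ XI, a M₀ χ = 0 := by
    have hle : orbNum (Invs H) M₀ ≤ M := hidx ▸ Nat.card_le_card_of_surjective blk hblk
    have e := hsum M₀
    rw [hXdeg] at e
    exact ⟨by omega, fun χ hχ => Finset.sum_eq_zero_iff.1 (by omega) χ hχ⟩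
  have hblk_bij : Function.Bijective blk :=
    (Nat.bijective_iff_surjective_and_card _).2 ⟨hblk, hidx.trans hM₀orb.1.symm⟩
  -- the larger group
  set P : Subgroup H := B.cen ⊔ M₀ with hP
  have hPsum : orbNum (Invs H) P = 1 + XI.card := by
    have e := hsum P
    have e1 : ∀ χ ∈ XI, a P χ = 1 := fun χ hχ => by
      have := (ha P χ).symm.trans
        ((avgOn_sup_eq B.cen M₀ χ (hM₀ker χ hχ)).trans (havgC χ (hXI_sub hχ)))
      exact_mod_cast this
    have e2 : ∀ χ ∈ I.erase (oneChar H) \ XI, a P χ = 0 := fun χ hχ =>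
      Nat.le_zero.1 ((avgOn_mono (le_sup_right : M₀ ≤ P) χ (ha P χ) (ha M₀ χ)).trans
        (le_of_eq (hM₀orb.2 χ hχ)))
    rw [e, Finset.sum_congr rfl e1, Finset.sum_congr rfl e2, Finset.sum_const_zero, add_zero,
      Finset.card_eq_sum_ones]
  have hPmem : ∀ p ∈ P, ∃ c ∈ B.cen, ∃ m ∈ M₀, p = c * m := by
    intro p hp
    rw [hP, ← SetLike.mem_coe, Subgroup.coe_mul_of_left_le_normalizer_right _ _
      (fun c _ => by rw [Subgroup.normalizer_eq_top_iff.2 hM₀n]; trivial)] at hp
    obtain ⟨c, hc, m, hm, e⟩ := hp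
    exact ⟨c, hc, m, hm, e.symm⟩
  have hPbase : ∀ s ∈ orbit P B.base, s ∈ orbit M₀ B.base := by
    rintro _ ⟨p, rfl⟩
    obtain ⟨c, hc, m, hm, e⟩ := hPmem p p.2
    refine ⟨⟨c * m * c⁻¹, hM₀n.conj_mem m hm c⟩, ?_⟩
    show (c * m * c⁻¹) • B.base = (p : H) • B.base
    rw [e, mul_smul (c * m) c⁻¹, inv_smul_eq_iff.2 (show B.base = c • B.base from hc.symm)]
  let qC : Invs H → orbitRel.Quotient B.cen (Invs H) := Quotient.mk''
  let qP : Invs H → orbitRel.Quotient P (Invs H) := Quotient.mk''
  let g := orbMap (Invs H) (le_sup_left : B.cen ≤ P)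
  letI := Fintype.ofFinite (orbitRel.Quotient B.cen (Invs H))
  letI := Fintype.ofFinite (orbitRel.Quotient P (Invs H))
  obtain ⟨j, hj, hk1, hkc⟩ := B.block hy₀
  set k' : K.subgroupOf D := defect h B.gen ⟨⟨j, B.K_le hj⟩, hj⟩ with hk'
  have hk'val : ((k' : D) : H) = j * (y₀ * j * y₀⁻¹)⁻¹ := by
    rw [hk', defect_val]
    rfl
  set u₁ : Invs H := ((k' : D) : H) • B.base with hu₁
  have hu₁A : u₁ ∈ orbit M₀ B.base := ⟨⟨_, hRkM k' ⟨_, rfl⟩⟩, rfl⟩
  have hu₁ne : u₁ ≠ B.base := B.smul_base_ne k'.2 fun e => hk1 (hk'val ▸ e)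
  have hu₁c : Commute t u₁.1 := by
    show Commute t (((k' : D) : H) * t * ((k' : D) : H)⁻¹)
    rw [hk'val]
    exact hkc
  refine B.finish_block M₀ ⟨u₁, hu₁A, hu₁ne⟩ fun s hs => ?_
  by_cases hR : ∀ i j, isR i → isR j → Φ i = Φ j
  · -- the regular members in one constituent: two orbits of the centraliser inside the block
    have hIcard : I.card ≤ 2 + XI.card := by
      refine (Finset.card_le_card (t := {Φ i₀, Φ r₀} ∪ XI) fun χ hχ => ?_).trans
        ((Finset.card_union_le _ _).trans (Nat.add_le_add_right Finset.card_le_two _))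
      obtain ⟨i, -, rfl⟩ := Finset.mem_image.1 hχ
      rcases htri i with h' | h' | h'
      · simp [h']
      · exact Finset.mem_union_right _
          (Finset.mem_image_of_mem _ (Finset.mem_filter.2 ⟨Finset.mem_univ _, h'⟩))
      · simp [hR i r₀ h' hr₀]
    by_contra hns
    have h01 : qC B.base ≠ qC u₁ := fun e => hu₁ne
      (B.eq_base_of_orbit_cen (orbitRel_apply.1 (Quotient.exact' e.symm)))
    have hsne : s ≠ B.base := fun e => hns (e ▸ Commute.refl t)
    have h02 : qC B.base ≠ qC s := fun e => hsne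
      (B.eq_base_of_orbit_cen (orbitRel_apply.1 (Quotient.exact' e.symm)))
    have h12 : qC u₁ ≠ qC s := fun e => hns
      (B.commute_of_orbit_cen hu₁c (orbitRel_apply.1 (Quotient.exact' e.symm)))
    have hg : ∀ x ∈ orbit M₀ B.base, g (qC x) = qP B.base := fun x hx => by
      show qP x = qP B.base
      obtain ⟨m, rfl⟩ := hx
      exact Quotient.sound' (orbitRel_apply.2 ⟨⟨(m : H), (le_sup_right : M₀ ≤ P) m.2⟩, rfl⟩)
    set U := (Finset.univ.erase (qC u₁)).erase (qC s) with hU
    have hUs : Finset.univ ⊆ U.image g := fun z _ => by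
      obtain ⟨w, rfl⟩ := orbMap_surjective (Invs H) (le_sup_left : B.cen ≤ P) z
      by_cases hw : w = qC u₁ ∨ w = qC s
      · refine Finset.mem_image.2 ⟨qC B.base, by simp [hU, h01, h02], ?_⟩
        rcases hw with rfl | rfl
        · show g _ = g _
          rw [hg _ (mem_orbit_self _), hg _ hu₁A]
        · show g _ = g _
          rw [hg _ (mem_orbit_self _), hg _ hs]
      · push Not at hw
        exact Finset.mem_image.2 ⟨w, by simp [hU, hw.1, hw.2], rfl⟩
    have h1 := (Finset.card_le_card hUs).trans Finset.card_image_le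
    rw [hU, Finset.card_erase_of_mem (Finset.mem_erase.2 ⟨h12.symm, Finset.mem_univ _⟩),
      Finset.card_erase_of_mem (Finset.mem_univ _), Finset.card_univ, Finset.card_univ,
      ← Nat.card_eq_fintype_card, ← Nat.card_eq_fintype_card] at h1
    change orbNum (Invs H) P ≤ orbNum (Invs H) B.cen - 1 - 1 at h1
    rw [hPsum, hrank] at h1
    omega
  -- the regular members separated, type `X` in one constituent
  have hRinj := hcR.resolve_left hR
  have hXc : ∀ i j, isX i → isX j → Φ i = Φ j := by
    rcases hcX with hc | hc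
    · exact hc
    exfalso
    refine hinj fun i j e => ?_
    by_cases hi : i = i₀
    · rw [hi] at e ⊢; exact (hΦ0 j e.symm).symm
    rcases (htri i).resolve_left hi with h' | h'
    · rcases (hcov j i hi e.symm) with h'' | h''
      · exact hc i j h' h'' e
      · exact absurd e (hsep i j h' h'')
    · rcases (hcov j i hi e.symm) with h'' | h''
      · exact absurd e.symm (hsep j i h'' h')
      · exact hRinj i j h' h'' e
  set Xs := Finset.univ.filter fun i => isX i with hXs
  set Rs := Finset.univ.filter fun i => isR i with hRs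
  have hsplit : (Finset.univ : Finset (Idx (K.subgroupOf D) (Y.subgroupOf D))) =
      insert i₀ (Xs ∪ Rs) := by
    ext i
    simp only [Finset.mem_univ, true_iff, Finset.mem_insert, Finset.mem_union, hXs, hRs,
      Finset.mem_filter, true_and]
    exact htri i
  have hι : Fintype.card (Idx (K.subgroupOf D) (Y.subgroupOf D)) = 1 + Xs.card + Rs.card := by
    rw [← Finset.card_univ, hsplit, Finset.card_insert_of_notMem, Finset.card_union_of_disjoint]
    · ring
    · exact Finset.disjoint_filter.2 fun i _ h' h'' => hXR i h' h''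
    · simp [hXs, hRs, IsX, IsR, hisX, hisR, hi₀]
  have hXs1 : Xs.Nonempty := by
    by_contra hne
    rw [Finset.not_nonempty_iff_eq_empty] at hne
    refine hinj fun i j e => ?_
    by_cases hi : i = i₀
    · rw [hi] at e ⊢; exact (hΦ0 j e.symm).symm
    have hno : ∀ i, ¬ isX i := fun i hX =>
      Finset.eq_empty_iff_forall_notMem.1 hne i (Finset.mem_filter.2 ⟨Finset.mem_univ _, hX⟩)
    exact hRinj i j ((hcov i i hi rfl).resolve_left (hno i))
      ((hcov j i hi e.symm).resolve_left (hno j)) e
  have hXIcard : XI.card = 1 := le_antisymm (Finset.card_le_one.2 fun χ hχ ψ hψ => by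
      obtain ⟨x, hx, rfl⟩ := Finset.mem_image.1 hχ
      obtain ⟨x', hx', rfl⟩ := Finset.mem_image.1 hψ
      exact hXc x x' (Finset.mem_filter.1 hx).2 (Finset.mem_filter.1 hx').2)
    (hXs1.image Φ).card_pos
  have hIcard : I.card = 2 + Rs.card := by
    obtain ⟨x, hx⟩ := hXs1
    have hx' : isX x := (Finset.mem_filter.1 hx).2
    have himg : Xs.image Φ = {Φ x} := by
      ext χ
      simp only [Finset.mem_image, Finset.mem_singleton]
      exact ⟨fun ⟨y, hy, e⟩ => e ▸ hXc y x (Finset.mem_filter.1 hy).2 hx',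
        fun e => ⟨x, hx, e.symm⟩⟩
    have hIe : I = insert (Φ i₀) ({Φ x} ∪ Rs.image Φ) := by
      rw [hI, hsplit, Finset.image_insert, Finset.image_union, himg]
    rw [hIe, Finset.card_insert_of_notMem, Finset.card_union_of_disjoint, Finset.card_singleton,
      Finset.card_image_of_injOn]
    · ring
    · exact fun i hi i' hi' e => hRinj i i' (Finset.mem_filter.1 hi).2 (Finset.mem_filter.1 hi').2 e
    · rw [Finset.disjoint_singleton_left, Finset.mem_image]
      rintro ⟨r, hr, e⟩
      exact hsep x r hx' (Finset.mem_filter.1 hr).2 e.symm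
    · simp only [Finset.mem_union, Finset.mem_singleton, Finset.mem_image]
      rintro (e | ⟨r, hr, e⟩)
      · exact hx'.1 (hΦ0 x e.symm)
      · exact (Finset.mem_filter.1 hr).2.1 (hΦ0 r e)
  -- two orbits of `P`, so a centraliser orbit outside meets every other block
  have hP2 : orbNum (Invs H) P = 2 := by rw [hPsum, hXIcard]
  let qY : Invs H → orbitRel.Quotient Y (Invs H) := Quotient.mk''
  let qM : Invs H → orbitRel.Quotient M₀ (Invs H) := Quotient.mk''
  let f := orbMap (Invs H) B.Y_le_cen
  letI := Fintype.ofFinite (orbitRel.Quotient Y (Invs H))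
  letI := Fintype.ofFinite (orbitRel.Quotient M₀ (Invs H))
  have hW : ∀ n ∈ Subgroup.zpowers y₀, ∀ v : Invs H, n • v ∈ orbit M₀ v := by
    let W : Subgroup H :=
      { carrier := {n | ∀ v : Invs H, n • v ∈ orbit M₀ v}
        one_mem' := fun v => ⟨1, rfl⟩
        mul_mem' := fun {n n'} hn hn' v => by
          rw [mul_smul]
          have := hn (n' • v)
          rw [orbit_eq_iff.2 (hn' v)] at this
          exact this
        inv_mem' := fun {n} hn v => by
          have := hn (n⁻¹ • v)
          rw [smul_inv_smul] at this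
          exact orbit_eq_iff.1 (orbit_eq_iff.2 this).symm }
    refine fun n hn => (Subgroup.zpowers_le.2 (?_ : y₀ ∈ W)) hn
    intro v
    obtain ⟨k, rfl⟩ := B.param_bijective.2 v
    refine ⟨⟨(((defect h B.gen k)⁻¹ : K.subgroupOf D) : D), hRkM _ (inv_mem ⟨k, rfl⟩)⟩, ?_⟩
    have hy₀t : y₀ • B.base = B.base := B.Y_le_cen B.y₀_mem
    show ((((defect h B.gen k)⁻¹ : K.subgroupOf D) : D) : H) • ((k : D) : H) • B.base =
      y₀ • ((k : D) : H) • B.base
    conv_rhs => rw [← mul_smul, show y₀ * ((k : D) : H) =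
      (y₀ * ((k : D) : H) * y₀⁻¹) * y₀ by group, mul_smul, hy₀t]
    rw [← mul_smul]
    congr 1
    rw [Subgroup.coe_inv, Subgroup.coe_inv, defect_val]
    simp [gen, mul_assoc]
  have hMcard : (Finset.univ.erase (qM B.base)).card = N₀.index * Xs.card := by
    rw [Finset.card_erase_of_mem (Finset.mem_univ _), Finset.card_univ, ← Nat.card_eq_fintype_card]
    show orbNum (Invs H) M₀ - 1 = _
    rw [hM₀orb.1, hMval]
    omega
  have hout : ∀ z : orbitRel.Quotient B.cen (Invs H), g z ≠ qP B.base →
      Xs.card ≤ (Finset.univ.filter fun w => f w = z).card := by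
    intro z hz
    induction z using Quotient.inductionOn' with
    | h v =>
      have hpre : ∀ b ∈ Finset.univ.erase (qM B.base),
          ∃ w : Invs H, qC w = qC v ∧ qM w = b := by
        intro b hb
        induction b using Quotient.inductionOn' with
        | h w =>
          have hw : qP w ≠ qP B.base := fun e => (Finset.mem_erase.1 hb).1
            (Quotient.sound' (orbitRel_apply.2 (hPbase w (orbitRel_apply.1 (Quotient.exact' e)))))
          have hvw : qP w = qP v := by
            by_contra hne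
            have : ({qP B.base, qP w, qP v} : Finset _).card ≤ 2 := (Finset.card_le_univ _).trans
              (le_of_eq (by rw [← Nat.card_eq_fintype_card]; exact hP2))
            rw [Finset.card_eq_three.2 ⟨qP B.base, qP w, qP v, hw.symm,
              (Ne.symm hz : qP B.base ≠ qP v), hne, rfl⟩] at this
            omega
          obtain ⟨p, hp⟩ := orbitRel_apply.1 (Quotient.exact' hvw)
          obtain ⟨c, hc, m, hm, e⟩ := hPmem p p.2
          refine ⟨c • v, Quotient.sound' (orbitRel_apply.2 ⟨⟨c, hc⟩, rfl⟩),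
            Quotient.sound' (orbitRel_apply.2 ⟨⟨(c * m * c⁻¹)⁻¹,
              inv_mem (hM₀n.conj_mem m hm c)⟩, ?_⟩)⟩
          show (c * m * c⁻¹)⁻¹ • w = c • v
          rw [← hp, inv_smul_eq_iff]
          show (p : H) • v = _
          rw [e, ← mul_smul]
          congr 1
          group
      choose w hwC hwM using hpre
      let φ : {b // b ∈ Finset.univ.erase (qM B.base)} → orbitRel.Quotient Y (Invs H) :=
        fun b => qY (w b.1 b.2)
      have hmaps : ∀ b, φ b ∈ Finset.univ.filter fun x => f x = qC v := fun b =>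
        Finset.mem_filter.2 ⟨Finset.mem_univ _, hwC b.1 b.2⟩
      have hfib : ∀ x ∈ Finset.univ.filter (fun x => f x = qC v),
          (Finset.univ.filter fun b => φ b = x).card ≤ N₀.index := by
        intro x _
        induction x using Quotient.inductionOn' with
        | h x₀ =>
          let ν : Y.subgroupOf D ⧸ N₀ → orbitRel.Quotient M₀ (Invs H) :=
            Quotient.lift (fun y => qM (((y : D) : H) • x₀)) fun y y' hyy => by
              have hn : y⁻¹ * y' ∈ N₀ := QuotientGroup.leftRel_apply.1 hyy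
              have hn' := hW _ ((B.mem_zpowers_gen _).1 hn) x₀
              obtain ⟨⟨m, hm⟩, hm'⟩ := hn'
              refine (Quotient.sound' (orbitRel_apply.2
                ⟨⟨((y : D) : H) * m * ((y : D) : H)⁻¹, hM₀n.conj_mem m hm _⟩, ?_⟩)).symm
              show (((y : D) : H) * m * ((y : D) : H)⁻¹) • ((y : D) : H) • x₀ =
                ((y' : D) : H) • x₀
              rw [← mul_smul, inv_mul_cancel_right, mul_smul]
              change m • x₀ = _ at hm'
              rw [hm', ← mul_smul]
              simp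
          rw [Subgroup.index_eq_card, Nat.card_eq_fintype_card, ← Finset.card_univ]
          refine (Finset.card_le_card_of_injOn (fun b => b.1) ?_ ?_).trans
            (Finset.card_image_le (f := ν))
          · intro b hb
            have hb' : qY (w b.1 b.2) = qY x₀ := (Finset.mem_filter.1 hb).2
            obtain ⟨y, hy⟩ := orbitRel_apply.1 (Quotient.exact' hb')
            refine Finset.mem_coe.2 (Finset.mem_image.2
              ⟨QuotientGroup.mk (⟨⟨y.1, B.Y_le y.2⟩, y.2⟩ : Y.subgroupOf D),
                Finset.mem_univ _, ?_⟩)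
            show qM ((y : H) • x₀) = b.1
            rw [show (y : H) • x₀ = w b.1 b.2 from hy, hwM]
          · exact fun b _ b' _ e => Subtype.ext e
      have h1 := Finset.card_le_mul_card_image (s := Finset.univ)
        (f := φ) N₀.index (fun x hx => hfib x (by
          obtain ⟨b, -, rfl⟩ := Finset.mem_image.1 hx
          exact hmaps b))
      rw [Finset.card_univ, Fintype.card_coe, hMcard] at h1
      refine Nat.le_of_mul_le_mul_left (h1.trans (Nat.mul_le_mul_left _ (Finset.card_le_card ?_)))
        (Nat.pos_of_ne_zero Subgroup.index_ne_zero_of_finite)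
      intro x hx
      obtain ⟨b, -, rfl⟩ := Finset.mem_image.1 hx
      exact hmaps b
  -- inside the block the orbits of `Y` and of the centraliser coincide
  have hcnt : ∑ z : orbitRel.Quotient B.cen (Invs H), (Finset.univ.filter fun w => f w = z).card =
      1 + Xs.card + Rs.card := by
    rw [← hι, ← hYrank, orbNum, Nat.card_eq_fintype_card, ← Finset.card_univ]
    exact (Finset.card_eq_sum_card_fiberwise fun _ _ => Finset.mem_univ _).symm
  have hpos : ∀ z, 1 ≤ (Finset.univ.filter fun w => f w = z).card := fun z => by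
    obtain ⟨w, hw⟩ := orbMap_surjective (Invs H) B.Y_le_cen z
    exact Finset.card_pos.2 ⟨w, by simp [f, hw]⟩
  obtain ⟨zout, hzout⟩ : ∃ z : orbitRel.Quotient B.cen (Invs H), g z ≠ qP B.base := by
    by_contra hno
    push Not at hno
    have : orbNum (Invs H) P ≤ 1 := by
      rw [orbNum, Finite.card_le_one_iff_subsingleton]
      refine ⟨fun x y => ?_⟩
      obtain ⟨x', rfl⟩ := orbMap_surjective (Invs H) (le_sup_left : B.cen ≤ P) x
      obtain ⟨y', rfl⟩ := orbMap_surjective (Invs H) (le_sup_left : B.cen ≤ P) y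
      exact (hno x').trans (hno y').symm
    omega
  have hsA : g (qC s) = qP B.base := by
    obtain ⟨m, rfl⟩ := hs
    exact Quotient.sound' (orbitRel_apply.2 ⟨⟨(m : H), (le_sup_right : M₀ ≤ P) m.2⟩, rfl⟩)
  have hsz : qC s ≠ zout := fun e => hzout (e ▸ hsA)
  have hbound : (Finset.univ.filter fun w => f w = qC s).card ≤ 1 := by
    by_contra hgt
    push Not at hgt
    have hle : ∑ z : orbitRel.Quotient B.cen (Invs H),
        (1 + (if z = qC s then 1 else 0) + (if z = zout then Xs.card - 1 else 0)) ≤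
        ∑ z : orbitRel.Quotient B.cen (Invs H), (Finset.univ.filter fun w => f w = z).card := by
      refine Finset.sum_le_sum fun z _ => ?_
      by_cases h1 : z = qC s
      · subst h1
        rw [if_pos rfl, if_neg hsz]
        omega
      by_cases h2 : z = zout
      · subst h2
        rw [if_neg h1, if_pos rfl]
        have := hout _ hzout
        have := hpos z
        omega
      · rw [if_neg h1, if_neg h2]
        exact hpos z
    rw [hcnt, Finset.sum_add_distrib, Finset.sum_add_distrib, Finset.sum_ite_eq',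
      Finset.sum_ite_eq', if_pos (Finset.mem_univ _), if_pos (Finset.mem_univ _),
      Finset.sum_const, Finset.card_univ, smul_eq_mul, mul_one, ← Nat.card_eq_fintype_card] at hle
    change orbNum (Invs H) B.cen + 1 + (Xs.card - 1) ≤ _ at hle
    rw [hrank, hIcard] at hle
    have := hXs1.card_pos
    omega
  refine B.commute_of_mem_orbit ?_
  have hts : qC (t • s) = qC s := Quotient.sound' (orbitRel_apply.2 ⟨⟨t, B.t_mem_cen⟩, rfl⟩)
  exact orbitRel_apply.1 (Quotient.exact' (Finset.card_le_one.1 hbound (qY (t • s))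
    (Finset.mem_filter.2 ⟨Finset.mem_univ _, hts⟩) (qY s)
    (Finset.mem_filter.2 ⟨Finset.mem_univ _, rfl⟩)))

end BlockHyp

end Cfsg.Agent.Lib.BenderOne43
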