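import Mathlib
import Cfsg.Agent.Lib.BenderOne43.Commute
import Cfsg.Agent.Lib.BenderOne8.Single.Interface

/-!
# Node C2, case `F(D) ∩ Y = 1`: the involutions commute

In shape `A` the group `D ∩ L` is `K Y` with `K` abelian and `Y` fixed point free on it of order
prime to `m`; some involution at `a` has `Y` as its stabiliser, and the block argument applies
with `y₀ = 1`.
-/

set_option autoImplicit false
set_option linter.style.haveILetI false

namespace Cfsg.Agent.Lib.BenderOne43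

open scoped Classical
open MulAction Cfsg.Agent.Lib.Involutions.Basic
open Cfsg.Agent.Lib.BenderOne20 Cfsg.Agent.Lib.BenderOne8

universe u

/-- An element of `K Y` outside `K` is conjugate into `Y`. -/
theorem exists_conj_mem_of_fpf {G : Type u} [Group G] [Finite G] {K Y : Subgroup G}
    (hn : ∀ y ∈ Y, ∀ k ∈ K, y * k * y⁻¹ ∈ K) (hc : ∀ k ∈ K, ∀ k' ∈ K, k * k' = k' * k)
    {y : G} (hy : y ∈ Y) (hfree : ∀ k ∈ K, y * k = k * y → k = 1) {k : G} (hk : k ∈ K) :
    ∃ j ∈ K, j * (k * y) * j⁻¹ ∈ Y := by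
  let f : K → K := fun j => ⟨j.1 * (y * j.1⁻¹ * y⁻¹),
    mul_mem j.2 (hn y hy _ (inv_mem j.2))⟩
  have hinj : Function.Injective f := by
    intro i j e
    have e' : i.1 * (y * i.1⁻¹ * y⁻¹) = j.1 * (y * j.1⁻¹ * y⁻¹) := congrArg Subtype.val e
    have h1 : (i.1 * (y * i.1⁻¹ * y⁻¹)) * (y * j.1 * y⁻¹) = j.1 := by rw [e']; group
    have h2 : y * (i.1⁻¹ * j.1) = (i.1⁻¹ * j.1) * y := by
      calc y * (i.1⁻¹ * j.1)
          = i.1⁻¹ * ((i.1 * (y * i.1⁻¹ * y⁻¹)) * (y * j.1 * y⁻¹)) * y := by group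
        _ = i.1⁻¹ * j.1 * y := by rw [h1]
    exact Subtype.ext (inv_mul_eq_one.1 (hfree _ (mul_mem (inv_mem i.2) j.2) h2))
  obtain ⟨j, hj⟩ := (Finite.injective_iff_surjective.1 hinj) ⟨k⁻¹, inv_mem hk⟩
  have hj' : j.1 * (y * j.1⁻¹ * y⁻¹) = k⁻¹ := congrArg Subtype.val hj
  refine ⟨j.1, j.2, ?_⟩
  have hcc := hc j.1 j.2 k hk
  have : j.1 * (k * y) * j.1⁻¹ = y := by
    calc j.1 * (k * y) * j.1⁻¹ = (j.1 * k) * y * j.1⁻¹ := by group
      _ = (k * j.1) * y * j.1⁻¹ := by rw [hcc]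
      _ = k * (j.1 * (y * j.1⁻¹ * y⁻¹)) * y := by group
      _ = y := by rw [hj', mul_inv_cancel, one_mul]
  rw [this]
  exact hy

/-- In a regular orbit of an abelian `K`, a group normalising `K` of order prime to `|K|` fixes a
point. -/
theorem exists_fixed_of_coprime {G : Type u} [Group G] [Finite G] {X : Type*} [MulAction G X]
    {K Y : Subgroup G} (hn : ∀ y ∈ Y, ∀ k ∈ K, y * k * y⁻¹ ∈ K)
    (hc : ∀ k ∈ K, ∀ k' ∈ K, k * k' = k' * k) (hcop : (Nat.card Y).Coprime (Nat.card K)) {x : X}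
    (hreg : ∀ k ∈ K, k • x = x → k = 1) (horb : ∀ y ∈ Y, ∃ k ∈ K, y • x = k • x) :
    ∃ k ∈ K, ∀ y ∈ Y, y • (k • x) = k • x := by
  letI : CommGroup K :=
    { (inferInstance : Group K) with mul_comm := fun a b => Subtype.ext (hc a a.2 b b.2) }
  letI := Fintype.ofFinite Y
  have hex : ∀ y : Y, ∃ k : K, (y : G) • x = (k : G) • x := fun y => by
    obtain ⟨k, hk, e⟩ := horb y y.2
    exact ⟨⟨k, hk⟩, e⟩
  choose κ hκ using hex
  let φ : Y → K →* K := fun y =>
    { toFun := fun k => ⟨y * k * (y : G)⁻¹, hn y y.2 k k.2⟩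
      map_one' := Subtype.ext (show (y : G) * 1 * (y : G)⁻¹ = 1 by group)
      map_mul' := fun a b => Subtype.ext (show (y : G) * (a * b) * (y : G)⁻¹ =
        (y : G) * a * (y : G)⁻¹ * ((y : G) * b * (y : G)⁻¹) by group) }
  have hsm : ∀ (y : Y) (k : K),
      (y : G) • (k : G) • x = ((φ y k * κ y : K) : G) • x := fun y k => by
    have e : (y : G) • (k : G) • x = ((y : G) * k * (y : G)⁻¹) • (y : G) • x := by
      rw [← mul_smul, ← mul_smul, inv_mul_cancel_right]
    rw [e, hκ, Subgroup.coe_mul, ← mul_smul]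
    rfl
  have huniq : ∀ k k' : K, (k : G) • x = (k' : G) • x → k = k' := fun k k' e => by
    have h1 : ((k'⁻¹ * k : K) : G) • x = x := by
      rw [Subgroup.coe_mul, mul_smul, e, Subgroup.coe_inv, inv_smul_smul]
    exact (inv_mul_eq_one.1 (Subtype.ext (hreg _ (k'⁻¹ * k : K).2 h1) : k'⁻¹ * k = 1)).symm
  have hcoc : ∀ y y' : Y, κ (y * y') = φ y (κ y') * κ y := fun y y' => huniq _ _ (by
    rw [← hκ, Subgroup.coe_mul, mul_smul, hκ, hsm])
  set k₀ : K := ∏ y' : Y, κ y' with hk₀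
  have hprod : ∀ y : Y, k₀ = φ y k₀ * κ y ^ Nat.card Y := fun y => by
    calc k₀ = ∏ y' : Y, κ (y * y') := (Equiv.prod_comp (Equiv.mulLeft y) κ).symm
      _ = ∏ y' : Y, φ y (κ y') * κ y := Finset.prod_congr rfl fun y' _ => hcoc y y'
      _ = _ := by
        rw [Finset.prod_mul_distrib, ← map_prod, Finset.prod_const, Finset.card_univ,
          Nat.card_eq_fintype_card]
  refine ⟨((powCoprime (Nat.Coprime.symm hcop)).symm k₀ : K), Subtype.coe_prop _, fun y hy => ?_⟩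
  set k₁ := (powCoprime (Nat.Coprime.symm hcop)).symm k₀ with hk₁
  have hpow : k₁ ^ Nat.card Y = k₀ := by
    exact (powCoprime (G := K) (Nat.Coprime.symm hcop)).apply_symm_apply k₀
  have key : φ ⟨y, hy⟩ k₁ * κ ⟨y, hy⟩ = k₁ := by
    refine (powCoprime (Nat.Coprime.symm hcop)).injective ?_
    simp only [powCoprime, Equiv.coe_fn_mk]
    rw [mul_pow, ← map_pow, hpow]
    exact (hprod ⟨y, hy⟩).symm
  have := hsm ⟨y, hy⟩ k₁
  rw [key] at this
  exact this

variable {G Ω : Type u} [Group G] [MulAction G Ω] [Finite G]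

/-- **Case `F(D) ∩ Y = 1`.** -/
theorem propEndA : BenderOne8.Single.PropEndA.{u} := by
  intro G Ω _ _ _ a b hctx hab u K Y hS
  set L := Single.invGp G a with hL
  set DL := Single.dL G a b with hDL
  have hKD : K ≤ DL := hS.le
  have hYD : Y ≤ DL := le_sup_right.trans hS.sup.le
  have hDab : ∀ d ∈ DL, d ∈ pairStab G a b := fun d hd => hd.2
  have hJL : ∀ s ∈ invAt G a, s ∈ L := fun s hs => Subgroup.subset_closure hs
  have hLa : L ≤ stabilizer G a := (Subgroup.closure_le _).2 fun s hs => hs.2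
  have hconjJ : ∀ g ∈ stabilizer G a, ∀ s ∈ invAt G a, g * s * g⁻¹ ∈ invAt G a :=
    fun g hg s hs => by
      have := OneFix.conj_mem_invAt (g := g) hs
      rwa [(hg : g • a = a)] at this
  obtain ⟨s₀, hs₀⟩ := hctx.fix.exists_invAt a
  haveI : Nonempty ↥(invAt G a) := ⟨⟨s₀, hs₀⟩⟩
  set m := Nat.card (invAt G a) with hm
  have hnormY : ∀ y ∈ Y, ∀ k ∈ K, y * k * y⁻¹ ∈ K := fun y hy k hk =>
    hS.normal y (hYD hy) k hk
  have hdec : ∀ d ∈ DL, ∃ k ∈ K, ∃ y ∈ Y, d = k * y := by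
    intro d hd
    rw [show DL = K ⊔ Y from hS.sup.symm, ← SetLike.mem_coe,
      Subgroup.coe_mul_of_right_le_normalizer_left K Y (fun y hy => by
        rw [Subgroup.mem_normalizer_iff]
        refine fun k => ⟨hnormY y hy k, fun hk => ?_⟩
        have := hnormY y⁻¹ (inv_mem hy) _ hk
        simpa [mul_assoc] using this)] at hd
    obtain ⟨k, hk, y, hy, e⟩ := hd
    exact ⟨k, hk, y, hy, e.symm⟩
  -- `|K| = m`
  have hKle : Nat.card K ≤ m := by
    rw [hm, hctx.fix.card_invAt a b, ← hctx.fix.card_swapSet hab.symm]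
    refine Nat.card_le_card_of_injective (fun k : K => (⟨k.1 * u * k.1⁻¹, ?_⟩ : swapSet G a b)) ?_
    · refine ⟨(orderOf_conj_eq _ _).trans hS.swap.1, ?_⟩
      obtain ⟨hka, hkb⟩ := hDab k (hKD k.2)
      rw [mul_smul, mul_smul, inv_smul_eq_iff.2 (hka : k.1 • a = a).symm, hS.swap.2]
      exact hkb
    · intro i j e
      have e' : i.1 * u * i.1⁻¹ = j.1 * u * j.1⁻¹ := congrArg Subtype.val e
      have h1 : (j.1⁻¹ * i.1) * u = u * (j.1⁻¹ * i.1) := by
        calc j.1⁻¹ * i.1 * u = j.1⁻¹ * (i.1 * u * i.1⁻¹) * i.1 := by group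
          _ = j.1⁻¹ * (j.1 * u * j.1⁻¹) * i.1 := by rw [e']
          _ = _ := by group
      have hY' : j.1⁻¹ * i.1 ∈ Y := hS.hY ▸ Subgroup.mem_inf.2 ⟨mul_mem (inv_mem (hKD j.2)) (hKD i.2),
        Subgroup.mem_centralizer_singleton_iff.2 h1⟩
      have hmem : j.1⁻¹ * i.1 ∈ K ⊓ Y := Subgroup.mem_inf.2 ⟨mul_mem (inv_mem j.2) i.2, hY'⟩
      rw [hS.inf, Subgroup.mem_bot, inv_mul_eq_one] at hmem
      exact Subtype.ext hmem.symm
  have hcardDL : Nat.card DL = Nat.card K * Nat.card Y := by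
    rw [← Nat.card_prod]
    refine (Nat.card_congr (Equiv.ofBijective
      (fun p : K × Y => (⟨p.1.1 * p.2.1, mul_mem (hKD p.1.2) (hYD p.2.2)⟩ : DL)) ⟨?_, ?_⟩)).symm
    · intro p p' e
      have e' : p.1.1 * p.2.1 = p'.1.1 * p'.2.1 := congrArg Subtype.val e
      have hmem : p'.1.1⁻¹ * p.1.1 ∈ K ⊓ Y := Subgroup.mem_inf.2 ⟨mul_mem (inv_mem p'.1.2) p.1.2, by
        rw [show p'.1.1⁻¹ * p.1.1 = p'.2.1 * p.2.1⁻¹ by
          rw [eq_mul_inv_iff_mul_eq, mul_assoc, e', inv_mul_cancel_left]]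
        exact mul_mem p'.2.2 (inv_mem p.2.2)⟩
      rw [hS.inf, Subgroup.mem_bot, inv_mul_eq_one] at hmem
      rw [← hmem] at e'
      exact Prod.ext (Subtype.ext hmem.symm) (Subtype.ext (mul_left_cancel e'))
    · intro d
      obtain ⟨k, hk, y, hy, e⟩ := hdec d d.2
      exact ⟨(⟨k, hk⟩, ⟨y, hy⟩), Subtype.ext e.symm⟩
  have horbit : Nat.card DL = m * Nat.card ↥(DL ⊓ Subgroup.centralizer {s₀}) := by
    refine OneFix.card_eq_orbit_mul DL hs₀ ?_ fun s hs => hS.trans s₀ hs₀ s hs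
    exact fun d hd s hs => hconjJ d (hLa hd.1) s hs
  have hKm : Nat.card K = m := by
    refine le_antisymm hKle (Nat.le_of_dvd Nat.card_pos ?_)
    exact (Nat.Coprime.symm hS.coprime).dvd_of_dvd_mul_right
      (Dvd.intro _ (horbit.symm.trans hcardDL))
  -- a stabiliser containing `Y`
  have hreg : ∀ s ∈ invAt G a, ∀ k ∈ K, k * s * k⁻¹ = s → k = 1 := by
    intro s hs k hk e
    set C := DL ⊓ Subgroup.centralizer {s}
    have hC : Nat.card DL = m * Nat.card C :=
      OneFix.card_eq_orbit_mul DL hs (fun d hd s hs => hconjJ d (hLa hd.1) s hs)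
        fun s' hs' => hS.trans s hs s' hs'
    rw [hcardDL, hKm] at hC
    have hCY : Nat.card C = Nat.card Y := (Nat.eq_of_mul_eq_mul_left Nat.card_pos hC).symm
    have h1 : orderOf k ∣ Nat.card C := Subgroup.orderOf_dvd_natCard C ⟨hKD hk,
      Subgroup.mem_centralizer_singleton_iff.2 (mul_inv_eq_iff_eq_mul.1 e)⟩
    have h2 : orderOf k ∣ m := hKm ▸ Subgroup.orderOf_dvd_natCard K hk
    rw [hCY] at h1
    exact orderOf_eq_one_iff.1 (Nat.eq_one_of_dvd_coprimes hS.coprime h1 h2)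
  have hsurj : ∀ s ∈ invAt G a, ∀ s' ∈ invAt G a, ∃ k ∈ K, s' = k * s * k⁻¹ := by
    intro s hs s' hs'
    let f : K → invAt G a := fun k => ⟨k.1 * s * k.1⁻¹, hconjJ k (hLa (hKD k.2).1) s hs⟩
    have hf : Function.Injective f := fun i j e => by
      have e' : i.1 * s * i.1⁻¹ = j.1 * s * j.1⁻¹ := congrArg Subtype.val e
      refine Subtype.ext (inv_mul_eq_one.1 (hreg s hs _ (mul_mem (inv_mem j.2) i.2) ?_)).symm
      calc j.1⁻¹ * i.1 * s * (j.1⁻¹ * i.1)⁻¹ = j.1⁻¹ * (i.1 * s * i.1⁻¹) * j.1 := by group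
        _ = s := by rw [e']; group
    obtain ⟨k, hk⟩ := ((Nat.bijective_iff_injective_and_card f).2 ⟨hf, hKm⟩).2 ⟨s', hs'⟩
    exact ⟨k, k.2, (congrArg Subtype.val hk).symm⟩
  obtain ⟨t, ht, htY⟩ : ∃ t ∈ invAt G a, ∀ y ∈ Y, y * t * y⁻¹ = t := by
    letI : MulAction G G := MulAction.compHom G (MulAut.conj : G →* MulAut G)
    obtain ⟨k, hk, hk'⟩ := exists_fixed_of_coprime (X := G) (K := K) (Y := Y) (x := s₀)
      hnormY hS.comm (by rw [hKm]; exact hS.coprime) (fun k hk e => hreg s₀ hs₀ k hk e)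
      (fun y hy => hsurj s₀ hs₀ _ (hconjJ y (hLa (hYD hy).1) s₀ hs₀))
    exact ⟨_, hconjJ k (hLa (hKD hk).1) s₀ hs₀, fun y hy => hk' y hy⟩
  -- the block argument inside `L`
  have hinv : ∀ v : L, orderOf v = 2 → (v : G) ∈ invAt G a := fun v hv =>
    ⟨(Subgroup.orderOf_coe v).trans hv, hLa v.2⟩
  have B : BlockHyp (⟨t, hJL t ht⟩ : L) (DL.subgroupOf L) (K.subgroupOf L) (Y.subgroupOf L)
      (1 : L) := by
    refine
      { invol := by rw [← Subgroup.orderOf_coe]; exact ht.1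
        odd := ?_
        K_le := fun k hk => hKD hk
        Y_le := fun y hy => hYD hy
        cent := fun d hd => ⟨fun hy => ?_, fun hc => ?_⟩
        normal := fun d hd k hk => hS.normal d hd k hk
        comm := fun k hk k' hk' => Subtype.ext (hS.comm k hk k' hk')
        decomp := fun d hd => ?_
        disj := ?_
        cover := fun v hv => ?_
        y₀_mem := one_mem _
        y₀_conj := fun y _ => by rw [mul_one, mul_inv_cancel]; exact one_mem _
        same := fun y hy hy1 => ?_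
        fpf := fun y hy hy1 k hk e => ?_
        ti := fun h d hd hhd => ?_
        some_comm := ?_
        block := fun h => absurd rfl h }
    · rw [Nat.card_congr (Subgroup.subgroupOfEquivOfLe (inf_le_left : DL ≤ L)).toEquiv]
      exact (hctx.fix.odd_pairStab hab.symm).of_dvd_nat (Subgroup.card_dvd_of_le inf_le_right)
    · exact Subtype.ext (mul_inv_eq_iff_eq_mul.1 (htY d hy))
    · obtain ⟨k, hk, y, hy, e⟩ := hdec d hd
      have hc' : (d : G) * t = t * d := congrArg Subtype.val hc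
      have h1 : k * t * k⁻¹ = t := by
        calc k * t * k⁻¹ = k * (y * t * y⁻¹) * k⁻¹ := by rw [htY y hy]
          _ = (k * y) * t * (k * y)⁻¹ := by group
          _ = t := by rw [← e, hc', mul_inv_cancel_right]
      rw [hreg t ht k hk h1, one_mul] at e
      show (d : G) ∈ Y
      rw [e]; exact hy
    · obtain ⟨k, hk, y, hy, e⟩ := hdec d hd
      exact ⟨⟨k, (hKD hk).1⟩, hk, ⟨y, (hYD hy).1⟩, hy, Subtype.ext e⟩
    · rw [eq_bot_iff]
      intro x hx
      have : (x : G) ∈ K ⊓ Y := ⟨hx.1, hx.2⟩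
      rw [hS.inf, Subgroup.mem_bot] at this
      exact Subtype.ext this
    · obtain ⟨k, hk, e⟩ := hsurj t ht v (hinv v hv)
      exact ⟨⟨k, (hKD hk).1⟩, hk, Subtype.ext e⟩
    · rw [Subgroup.zpowers_one_eq_bot, Subgroup.mem_bot] at hy
      exact absurd hy hy1
    · refine Subtype.ext (hS.free y hy (fun h => hy1 ?_) k hk (congrArg Subtype.val e))
      rw [show y = 1 from Subtype.ext h]
      exact one_mem _
    · obtain ⟨k, hk, y, hy, e⟩ := hdec d hd
      by_cases hy1 : y = 1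
      · by_cases hk1 : k = 1
        · refine Or.inr ⟨1, one_mem _, ?_⟩
          show ((1 : L) * d * (1 : L)⁻¹ : L) ∈ Y.subgroupOf L
          rw [one_mul, inv_one, mul_one, Subgroup.mem_subgroupOf, e, hk1, hy1, one_mul]
          exact one_mem _
        · refine Or.inl ?_
          rw [hy1, mul_one] at e
          have hfx : (h : G)⁻¹ • b = b := by
            obtain ⟨hea, heb⟩ := hDab _ hhd
            have h2 : ((h : G) * d * (h : G)⁻¹) • b = b := heb
            rw [mul_smul, mul_smul, ← eq_inv_smul_iff, e] at h2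
            rcases eq_or_eq_of_inverted hctx.fix hctx.propF hab.symm hS.swap
              (hDab k (hKD hk)) hk1 (hS.inverts k hk) h2 with h1 | h1
            · exfalso
              refine hab ?_
              rw [inv_smul_eq_iff, (hLa h.2 : (h : G) • a = a)] at h1
              exact h1
            · exact h1
          refine ⟨h.2, hLa h.2, ?_⟩
          rw [inv_smul_eq_iff] at hfx
          exact hfx.symm
      · obtain ⟨j, hj, hjy⟩ := exists_conj_mem_of_fpf hnormY hS.comm hy (hS.free y hy hy1) hk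
        refine Or.inr ⟨⟨j, (hKD hj).1⟩, hj, ?_⟩
        show j * (d : G) * j⁻¹ ∈ Y
        rw [e]; exact hjy
    · obtain ⟨s, hs, s', hs', hne, hss⟩ := hctx.four a
      obtain ⟨k, hk, e⟩ := hsurj t ht s hs
      obtain ⟨k', hk', e'⟩ := hsurj t ht s' hs'
      refine ⟨⟨k⁻¹ * k', mul_mem (inv_mem (hKD hk).1) (hKD hk').1⟩,
        mul_mem (inv_mem hk) hk', fun h => hne ?_, Subtype.ext ?_⟩
      · rw [e, e', inv_mul_eq_one.1 (congrArg Subtype.val h)]
      · show t * ((k⁻¹ * k') * t * (k⁻¹ * k')⁻¹) = (k⁻¹ * k') * t * (k⁻¹ * k')⁻¹ * t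
        calc t * ((k⁻¹ * k') * t * (k⁻¹ * k')⁻¹)
            = k⁻¹ * ((k * t * k⁻¹) * (k' * t * k'⁻¹)) * k := by group
          _ = k⁻¹ * ((k' * t * k'⁻¹) * (k * t * k⁻¹)) * k := by rw [← e, ← e', hss]
          _ = _ := by group
  letI := Fintype.ofFinite L
  intro s hs s' hs'
  exact congrArg Subtype.val (B.commute_involutions ⟨s, hJL s hs⟩ ⟨s', hJL s' hs'⟩
    (by rw [← Subgroup.orderOf_coe]; exact hs.1) (by rw [← Subgroup.orderOf_coe]; exact hs'.1)).eq

end Cfsg.Agent.Lib.BenderOne43
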