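import Mathlib

/-!
# The transfer at an element of minimal order

If the transfer contributions of the proper powers of `g` vanish, the transfer at `g` is the
product over the cosets fixed by `g`; and such a product is computed from the fixed points of a
further `q`-element leaving the contributions invariant.
-/

set_option autoImplicit false
set_option linter.style.haveILetI false

namespace Cfsg.Agent.Lib.BenderOne43

open scoped Classical
open MulAction

/-- The transfer at `g` when the contributions of the non-trivial orbits vanish. -/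
theorem transfer_eq_prod_fixed {L A : Type*} [Group L] [Finite L] [CommGroup A] {H : Subgroup L}
    (φ : H →* A) (g : L) [Fintype {c : L ⧸ H // g • c = c}]
    (hpow : ∀ (h : L) (l : ℕ), 1 < l → l ∣ orderOf g → ∀ hm : h⁻¹ * g ^ l * h ∈ H,
      φ ⟨h⁻¹ * g ^ l * h, hm⟩ = 1)
    (F : {c : L ⧸ H // g • c = c} → A)
    (hF : ∀ (c : {c : L ⧸ H // g • c = c}) (hm : c.1.out⁻¹ * g * c.1.out ∈ H),
      φ ⟨c.1.out⁻¹ * g * c.1.out, hm⟩ = F c) :
    MonoidHom.transfer φ g = ∏ c, F c := by
  letI : Fintype (Quotient (orbitRel (Subgroup.zpowers g) (L ⧸ H))) := Fintype.ofFinite _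
  set f : Quotient (orbitRel (Subgroup.zpowers g) (L ⧸ H)) → A := fun o =>
    φ ⟨o.out.out⁻¹ * g ^ Function.minimalPeriod (g • ·) o.out * o.out.out,
      QuotientGroup.out_conj_pow_minimalPeriod_mem H g o.out⟩ with hf
  have htr : MonoidHom.transfer φ g = ∏ o, f o :=
    MonoidHom.transfer_eq_prod_quotient_orbitRel_zpowers_quot φ g
  have hpos : ∀ c : L ⧸ H, 0 < Function.minimalPeriod (g • ·) c := fun c =>
    Function.IsPeriodicPt.minimalPeriod_pos (orderOf_pos g) (show (g • ·)^[orderOf g] c = c by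
      simp [smul_iterate, pow_orderOf_eq_one])
  have hdvd : ∀ c : L ⧸ H, Function.minimalPeriod (g • ·) c ∣ orderOf g := fun c =>
    Function.IsPeriodicPt.minimalPeriod_dvd (show (g • ·)^[orderOf g] c = c by
      simp [smul_iterate, pow_orderOf_eq_one])
  have hmk : ∀ c : {c : L ⧸ H // g • c = c},
      (Quotient.mk'' c.1 : Quotient (orbitRel (Subgroup.zpowers g) (L ⧸ H))).out = c.1 := by
    intro c
    obtain ⟨⟨w, hw⟩, e⟩ := Quotient.exact (Quotient.out_eq
      (Quotient.mk'' c.1 : Quotient (orbitRel (Subgroup.zpowers g) (L ⧸ H))))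
    rw [← e]
    exact (Subgroup.zpowers_le.2 (show g ∈ stabilizer L c.1 from c.2)) hw
  rw [htr, ← Finset.prod_filter_of_ne (p := fun o => g • o.out = o.out) (fun o _ ho => ?_)]
  · refine (Finset.prod_bij (fun c _ => Quotient.mk'' c.1) (fun c _ => ?_) (fun c _ d _ e => ?_)
      (fun o ho => ?_) (fun c _ => ?_)).symm
    · simp only [Finset.mem_filter, Finset.mem_univ, true_and, hmk]
      exact c.2
    · exact Subtype.ext ((hmk c).symm.trans ((congrArg Quotient.out e).trans (hmk d)))
    · exact ⟨⟨o.out, (Finset.mem_filter.1 ho).2⟩, Finset.mem_univ _, Quotient.out_eq' o⟩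
    · have h1 : Function.minimalPeriod (g • ·) c.1 = 1 :=
        Function.minimalPeriod_eq_one_iff_isFixedPt.2 c.2
      have hm := QuotientGroup.out_conj_pow_minimalPeriod_mem H g c.1
      rw [h1, pow_one] at hm
      rw [← hF c hm, hf]
      refine congrArg φ (Subtype.ext ?_)
      simp only [hmk, h1, pow_one]
  · by_contra hfix
    refine ho (hpow _ _ (lt_of_le_of_ne (hpos _) fun e => hfix ?_) (hdvd _) _)
    exact Function.minimalPeriod_eq_one_iff_isFixedPt.1 e.symm

/-- The points fixed by a `q`-element, modulo `q`. -/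
theorem card_modEq_fix {G Ω : Type*} [Group G] [MulAction G Ω] [Finite Ω] {q : ℕ} [Fact q.Prime]
    {g : G} {n : ℕ} (hg : g ^ q ^ n = 1) (P : Ω → Prop) (hP : ∀ e, P e → P (g • e)) :
    Nat.card {e // P e} ≡ Nat.card {e // P e ∧ g • e = e} [MOD q] := by
  let σ : {e // P e} → {e // P e} := fun e => ⟨g • e.1, hP _ e.2⟩
  have hit : ∀ (k : ℕ) (e : {e // P e}), (σ^[k] e).1 = g ^ k • e.1 := by
    intro k
    induction k with
    | zero => simp
    | succ k ih =>
      intro e
      rw [Function.iterate_succ_apply', pow_succ', mul_smul]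
      exact congrArg (g • ·) (ih e)
  letI : Fintype {e // P e} := Fintype.ofFinite _
  let σ' : Function.End {e // P e} := σ
  have hpw : ∀ k : ℕ, (σ' ^ k : Function.End {e // P e}) = σ^[k] := by
    intro k
    induction k with
    | zero => rfl
    | succ k ih =>
      rw [pow_succ', Function.iterate_succ']
      exact congrArg (σ ∘ ·) ih
  have hs : σ' ^ q ^ n = 1 := by
    rw [hpw]
    funext e
    refine Subtype.ext ?_
    rw [hit, hg, one_smul]
    rfl
  have h := Equiv.Perm.card_fixedPoints_modEq hs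
  rw [← Nat.card_eq_fintype_card, ← Nat.card_eq_fintype_card] at h
  refine h.trans (congrArg (· % q) (Nat.card_congr ?_))
  exact
    { toFun := fun e => ⟨e.1.1, e.1.2, congrArg Subtype.val e.2⟩
      invFun := fun e => ⟨⟨e.1, e.2.1⟩, Subtype.ext e.2.2⟩
      left_inv := fun e => rfl
      right_inv := fun e => rfl }

/-- A product invariant under a `q`-element, with values killed by `q`. -/
theorem prod_eq_pow_fix {G Ω A : Type*} [Group G] [MulAction G Ω] [Finite Ω] [CommGroup A]
    {q : ℕ} [Fact q.Prime] (hA : ∀ v : A, v ^ q = 1) {g : G} {n : ℕ} (hg : g ^ q ^ n = 1)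
    (P : Ω → Prop) [Fintype {e // P e}] (hP : ∀ e, P e → P (g • e)) (F : {e // P e} → A)
    (hinv : ∀ e : {e // P e}, F ⟨g • e.1, hP _ e.2⟩ = F e) (v : A)
    (hfix : ∀ e : {e // P e}, g • e.1 = e.1 → F e = v) :
    ∏ e, F e = v ^ Nat.card {e // P e ∧ g • e = e} := by
  have hv : ∀ (m k : ℕ), m ≡ k [MOD q] → ∀ w : A, w ^ m = w ^ k := fun m k h w =>
    pow_eq_pow_iff_modEq.2 (h.of_dvd (orderOf_dvd_of_pow_eq_one (hA w)))
  set T : A → ℕ := fun w => Nat.card {e // ∃ h : P e, F ⟨e, h⟩ = w} with hT
  have hfib : ∀ w : A, T w ≡ Nat.card {e // (∃ h : P e, F ⟨e, h⟩ = w) ∧ g • e = e} [MOD q] :=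
    fun w => card_modEq_fix hg _ fun e ⟨h, he⟩ => ⟨hP e h, (hinv ⟨e, h⟩).trans he⟩
  have hcount : ∀ w : A, (Finset.univ.filter fun e => F e = w).card = T w := by
    intro w
    rw [← Fintype.card_subtype, ← Nat.card_eq_fintype_card]
    exact Nat.card_congr
      { toFun := fun e => ⟨e.1.1, e.1.2, e.2⟩
        invFun := fun e => ⟨⟨e.1, e.2.fst⟩, e.2.snd⟩
        left_inv := fun e => rfl
        right_inv := fun e => rfl }
  calc ∏ e, F e = ∏ w ∈ Finset.univ.image F, w ^ T w := by
        refine (Finset.prod_comp (fun w => w) F).trans ?_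
        simp only [hcount]
    _ = ∏ w ∈ Finset.univ.image F, w ^ (if w = v then Nat.card {e // P e ∧ g • e = e} else 0) := by
        refine Finset.prod_congr rfl fun w _ => hv _ _ ((hfib w).trans (congrArg (· % q) ?_)) w
        split_ifs with hwv
        · subst hwv
          exact Nat.card_congr (Equiv.subtypeEquivRight fun e =>
            ⟨fun h => ⟨h.1.fst, h.2⟩, fun h => ⟨⟨h.1, hfix ⟨e, h.1⟩ h.2⟩, h.2⟩⟩)
        · haveI : IsEmpty {e // (∃ h : P e, F ⟨e, h⟩ = w) ∧ g • e = e} :=
            ⟨fun ⟨e, ⟨h, he⟩, hge⟩ => hwv (he.symm.trans (hfix ⟨e, h⟩ hge))⟩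
          exact Nat.card_of_isEmpty
    _ = _ := by
        by_cases hmem : v ∈ Finset.univ.image F
        · rw [Finset.prod_eq_single_of_mem v hmem fun w _ hw => by rw [if_neg hw, pow_zero],
            if_pos rfl]
        · haveI : IsEmpty {e // P e ∧ g • e = e} := ⟨fun ⟨e, h, hge⟩ => hmem
            (Finset.mem_image.2 ⟨⟨e, h⟩, Finset.mem_univ _, hfix ⟨e, h⟩ hge⟩)⟩
          rw [Nat.card_of_isEmpty, pow_zero]
          exact Finset.prod_eq_one fun w _ => by
            split_ifs <;> exact pow_zero w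

end Cfsg.Agent.Lib.BenderOne43
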