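import Cfsg.Agent.Lib.BenderOne43.Unique
import Cfsg.Agent.Lib.BenderOne43.Transfer
import Cfsg.Agent.Lib.BenderOne8.Single.TransJ

/-!
# Node C2, the primes of `(D ∩ L)^ab`: the transfer at an element of minimal order

Let `φ` be a homomorphism of `D ∩ L` into an abelian group of exponent `q` and `y` an element on
whose proper powers `φ` vanishes in every conjugate.  If some `q`-element `x ≠ 1` of `D ∩ L` that
is not single acts on `⟨y⟩` by `y ↦ y ^ (j + 1)`, `q ∣ j`, and commutes with `y ^ j`, then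
`φ y = 1`: the transfer at `y` is `φ y` to the number of common fixed points of `x` and `y` other
than `a`, which is prime to `q`.
-/

set_option autoImplicit false
set_option linter.style.haveILetI false
set_option linter.unusedSectionVars false

namespace Cfsg.Agent.Lib.BenderOne43

open scoped Classical
open MulAction Cfsg.Agent.Lib.Involutions.Basic
open Cfsg.Agent.Lib.BenderOne20 Cfsg.Agent.Lib.BenderOne8 Cfsg.Agent.Lib.BenderOne8.Single

universe u

variable {G Ω : Type u} [Group G] [MulAction G Ω] [Finite G]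

theorem finite_points (hG : OneFix G Ω) (a : Ω) : Finite Ω := by
  haveI := hG.trans
  exact Finite.of_surjective (fun g : G => g • a) (fun z => exists_smul_eq G a z)

theorem centralizer_ne_top (h : Ctx G Ω) {X : Subgroup G} (hX1 : X ≠ ⊥) :
    Subgroup.centralizer (X : Set G) ≠ ⊤ := fun htop => hX1 (eq_bot_iff.2 fun k hk => by
  rw [← h.center, Subgroup.mem_center_iff]
  intro g
  exact (Subgroup.mem_centralizer_iff.1 (htop.ge (Subgroup.mem_top g)) k hk).symm)

theorem one_lt_invCen (h : Ctx G Ω) {q : ℕ} [Fact q.Prime] {X : Subgroup G} (hX : IsPGroup q X)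
    {a : Ω} (h3 : Three X Ω) (ha : a ∈ Fx X) (hns : ¬ IsSingle X a) :
    1 < Nat.card (invCen X a) := by
  obtain ⟨s, hs⟩ := exists_cen h.fix h.propF hX h3 ha
  haveI : Nonempty ↥(invCen X a) := ⟨⟨s, hs⟩⟩
  exact lt_of_le_of_ne Nat.card_pos fun e => hns ⟨h3, ha, e.symm⟩

/-- For `X` not single a `2`-element of `C(X)` at `a` is determined by the image of `b`. -/
theorem two_eq_of_not_single (h : Ctx G Ω) {a b : Ω} (hab : b ≠ a) {q : ℕ} [Fact q.Prime]
    {X : Subgroup G} (hX : IsPGroup q X) (hX1 : X ≠ ⊥) (hXD : X ≤ pairStab G a b)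
    (hns : ¬ IsSingle X a) {o o' : G} (hoX : o ∈ Subgroup.centralizer (X : Set G))
    (ho'X : o' ∈ Subgroup.centralizer (X : Set G)) (hoa : o • a = a) (ho'a : o' • a = a) {i j : ℕ}
    (ho : o ^ 2 ^ i = 1) (ho' : o' ^ 2 ^ j = 1) (he : o • b = o' • b) : o = o' := by
  have ha : a ∈ Fx X := hXD.trans inf_le_left
  have hb : b ∈ Fx X := hXD.trans inf_le_right
  by_cases h3 : ∃ e, e ∈ Fx X ∧ e ≠ a ∧ e ≠ b
  · obtain ⟨e, he', hea, heb⟩ := h3
    have h3' : Three X Ω := ⟨a, b, e, hab.symm, hea, heb, ha, hb, he'⟩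
    exact two_eq h.fix h.propF hX h3' ha hb hab (one_lt_invCen h hX h3' ha hns) h.below
      (centralizer_ne_top h hX1) hoX ho'X hoa ho'a ho ho' he
  · push Not at h3
    have key : ∀ {g : G} {n : ℕ}, g ∈ Subgroup.centralizer (X : Set G) → g • a = a →
        g ^ 2 ^ n = 1 → g = 1 := by
      intro g n hgX hga hg
      have hgb : g • b = b := h3 _ (smul_mem_Fx (Subgroup.centralizer_le_normalizer _ hgX) hb)
        fun e => hab (MulAction.injective g (e.trans hga.symm))
      exact orderOf_eq_one_iff.1 (Nat.Coprime.eq_one_of_dvd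
        ((Nat.coprime_two_right.2 ((h.fix.odd_pairStab hab.symm).of_dvd_nat
          (Subgroup.orderOf_dvd_natCard _ (⟨hga, hgb⟩ : g ∈ pairStab G a b)))).pow_right n)
        (orderOf_dvd_of_pow_eq_one hg))
    rw [key hoX hoa ho, key ho'X ho'a ho']

/-- The `2`-elements of `C(X)` at `a` reach every fixed point of `X` other than `a`. -/
theorem exists_two_of_not_single (h : Ctx G Ω) {a b : Ω} (hab : b ≠ a) {q : ℕ} [Fact q.Prime]
    {X : Subgroup G} (hX : IsPGroup q X) (hX1 : X ≠ ⊥) (hXD : X ≤ pairStab G a b)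
    (hns : ¬ IsSingle X a) {e : Ω} (he : e ∈ Fx X) (hea : e ≠ a) :
    ∃ o ∈ Subgroup.centralizer (X : Set G), o • a = a ∧ o • b = e ∧ ∃ k, o ^ 2 ^ k = 1 := by
  have ha : a ∈ Fx X := hXD.trans inf_le_left
  have hb : b ∈ Fx X := hXD.trans inf_le_right
  rcases eq_or_ne e b with rfl | heb
  · exact ⟨1, one_mem _, one_smul _ _, one_smul _ _, 0, one_pow _⟩
  · have h3' : Three X Ω := ⟨a, b, e, hab.symm, hea, heb, ha, hb, he⟩
    exact BenderOne83.Central.exists_two_element h.fix h.propF hX h3' ha hb he hab hea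
      (one_lt_invCen h hX h3' ha hns) h.below (centralizer_ne_top h hX1)

/-- `⟨J⟩` has no quotient of exponent `q`. -/
theorem eq_one_on_invGp {a : Ω} {q : ℕ} [hq : Fact q.Prime] (hq2 : q ≠ 2) {A : Type*}
    [CommGroup A] (hA : ∀ v : A, v ^ q = 1) (V : invGp G a →* A) : ∀ g, V g = 1 := by
  have hker : ∀ g : invGp G a, g ^ 2 = 1 → V g = 1 := fun g hg =>
    orderOf_eq_one_iff.1 (Nat.eq_one_of_dvd_coprimes
      ((Nat.coprime_primes Nat.prime_two hq.out).2 (Ne.symm hq2))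
      (orderOf_dvd_of_pow_eq_one (by rw [← map_pow, hg, map_one]))
      (orderOf_dvd_of_pow_eq_one (hA _)))
  rintro ⟨g, hg⟩
  induction hg using Subgroup.closure_induction with
  | mem s hs => exact hker _ (Subtype.ext (by
      show s ^ 2 = 1
      rw [pow_two, invol_mul_self hs.1]))
  | one => exact map_one V
  | mul g g' hg hg' ih ih' =>
    exact (map_mul V ⟨g, hg⟩ ⟨g', hg'⟩).trans (by rw [ih, ih', one_mul])
  | inv g hg ih => exact (map_inv V ⟨g, hg⟩).trans (by rw [ih, inv_one])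

/-- **The transfer at an element of minimal order.** -/
theorem map_eq_one_of_minimal (h : Ctx G Ω) {a b : Ω} (hab : b ≠ a) (hc : ¬ Comm G a) {q : ℕ}
    [hq : Fact q.Prime] {A : Type*} [CommGroup A] (hA : ∀ v : A, v ^ q = 1)
    (φ : dL G a b →* A) {y : G} (hy : y ∈ dL G a b) (hyq : IsPGroup q (Subgroup.zpowers y))
    (hmin : ∀ (w : G) (hw : w ∈ dL G a b), orderOf w ∣ orderOf y → orderOf w < orderOf y →
      φ ⟨w, hw⟩ = 1)
    {x : G} (hx : x ∈ dL G a b) (hxq : IsPGroup q (Subgroup.zpowers x)) (hx1 : x ≠ 1)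
    (hns : ¬ IsSingle (Subgroup.zpowers x) a) {j : ℕ} (hj : q ∣ j)
    (hxy : x⁻¹ * y * x = y ^ (j + 1)) (hcomm : x * y ^ j = y ^ j * x) :
    φ ⟨y, hy⟩ = 1 := by
  haveI := finite_points h.fix a
  set X := Subgroup.zpowers x with hXdef
  have hX1 : X ≠ ⊥ := fun e => hx1 (Subgroup.mem_bot.1 (e ▸ Subgroup.mem_zpowers x))
  have hXD : X ≤ dL G a b := Subgroup.zpowers_le.2 hx
  have hXp : X ≤ pairStab G a b := hXD.trans inf_le_right
  have hxa : x • a = a := hx.2.1
  have hya : y • a = a := hy.2.1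
  have hyb : y • b = b := hy.2.2
  have hfx : ∀ e : Ω, e ∈ Fx X ↔ x • e = e := fun e =>
    ⟨fun he => he (Subgroup.mem_zpowers x), fun he => Subgroup.zpowers_le.2 he⟩
  obtain ⟨n, hn⟩ := IsPGroup.iff_card.1 hxq
  rw [Nat.card_zpowers] at hn
  have hxpow : x ^ q ^ n = 1 := hn ▸ pow_orderOf_eq_one x
  obtain ⟨n', hn'⟩ := IsPGroup.iff_card.1 hyq
  rw [Nat.card_zpowers] at hn'
  have hypow : y ^ q ^ n' = 1 := hn' ▸ pow_orderOf_eq_one y
  have hqD : q ∣ Nat.card (dL G a b) := by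
    have : n ≠ 0 := fun e => hx1 (orderOf_eq_one_iff.1 (by rw [hn, e, pow_zero]))
    exact (dvd_pow_self q this).trans (hn ▸ Subgroup.orderOf_dvd_natCard _ hx)
  have hq2 : q ≠ 2 := fun e => Nat.not_even_iff_odd.2 (((h.fix.odd_pairStab hab.symm).of_dvd_nat
    (Subgroup.card_dvd_of_le inf_le_right)).of_dvd_nat hqD) (e ▸ even_two)
  -- conjugation identities
  have hyx : y * x = x * y ^ (j + 1) := by
    rw [← hxy]; group
  have hxk : y * x * y⁻¹ = x * y ^ j := by
    rw [hyx, pow_succ, ← mul_assoc, mul_inv_cancel_right]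
  -- the transfer
  set L := invGp G a
  set H : Subgroup L := (dL G a b).subgroupOf L
  let φ' : H →* A := φ.comp
    { toFun := fun d => ⟨d.1.1, d.2⟩
      map_one' := rfl
      map_mul' := fun _ _ => rfl }
  have hV : ∀ g : L, MonoidHom.transfer φ' g = 1 :=
    eq_one_on_invGp hq2 hA (MonoidHom.transfer φ')
  let S := {e : Ω // e ≠ a ∧ y • e = e}
  have hrep : ∀ e : S, ∃ g ∈ L, g • b = e.1 := fun e => invGp_trans h hab hc hab e.2.1
  choose rep hrepL hrepb using hrep
  have hconjmem : ∀ (e : S) (g : G), g ∈ L → g • b = e.1 → g⁻¹ * y * g ∈ dL G a b := by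
    intro e g hg hgb
    refine Subgroup.mem_inf.2 ⟨mul_mem (mul_mem (inv_mem hg) hy.1) hg, ?_, ?_⟩
    · show (g⁻¹ * y * g) • a = a
      rw [mul_smul, mul_smul, (invGp_le a hg : g • a = a), hya,
        inv_smul_eq_iff, (invGp_le a hg : g • a = a)]
    · show (g⁻¹ * y * g) • b = b
      rw [mul_smul, mul_smul, hgb, e.2.2, inv_smul_eq_iff, hgb]
  let F : S → A := fun e => φ ⟨_, hconjmem e (rep e) (hrepL e) (hrepb e)⟩
  have hFeq : ∀ (e : S) (g : G) (hg : g ∈ L) (hgb : g • b = e.1) (hm : g⁻¹ * y * g ∈ dL G a b),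
      φ ⟨g⁻¹ * y * g, hm⟩ = F e := by
    intro e g hg hgb hm
    have hd : (rep e)⁻¹ * g ∈ dL G a b := by
      refine Subgroup.mem_inf.2 ⟨mul_mem (inv_mem (hrepL e)) hg, ?_, ?_⟩
      · show ((rep e)⁻¹ * g) • a = a
        rw [mul_smul, (invGp_le a hg : g • a = a), inv_smul_eq_iff,
          (invGp_le a (hrepL e) : rep e • a = a)]
      · show ((rep e)⁻¹ * g) • b = b
        rw [mul_smul, hgb, inv_smul_eq_iff, hrepb]
    set d : dL G a b := ⟨_, hd⟩
    have : (⟨g⁻¹ * y * g, hm⟩ : dL G a b) =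
        d⁻¹ * ⟨_, hconjmem e (rep e) (hrepL e) (hrepb e)⟩ * d := Subtype.ext (by
      show g⁻¹ * y * g = ((rep e)⁻¹ * g)⁻¹ * ((rep e)⁻¹ * y * rep e) * ((rep e)⁻¹ * g)
      group)
    rw [this, map_mul, map_mul, map_inv, mul_comm (φ d)⁻¹, inv_mul_cancel_right]
  haveI : Fintype S := Fintype.ofFinite _
  set yL : L := ⟨y, hy.1⟩
  haveI : Fintype {c : L ⧸ H // yL • c = c} := Fintype.ofFinite _
  have hHiff : ∀ g : L, yL • (g : L ⧸ H) = g ↔ (g : G)⁻¹ * y * g ∈ dL G a b := fun g => by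
    rw [MulAction.Quotient.smul_coe, smul_eq_mul, eq_comm, QuotientGroup.eq, Subgroup.mem_subgroupOf]
    show (g : G)⁻¹ * (y * g) ∈ dL G a b ↔ _
    rw [mul_assoc]
  have hcS : ∀ c : {c : L ⧸ H // yL • c = c},
      (c.1.out : G) • b ≠ a ∧ y • (c.1.out : G) • b = (c.1.out : G) • b := by
    intro c
    have hm := (hHiff c.1.out).1 (by rw [QuotientGroup.out_eq']; exact c.2)
    refine ⟨fun e => hab (MulAction.injective (c.1.out : G)
      (e.trans (invGp_le a c.1.out.2 : (c.1.out : G) • a = a).symm)), ?_⟩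
    have : ((c.1.out : G)⁻¹ * y * c.1.out) • b = b := hm.2.2
    rw [mul_smul, mul_smul, inv_smul_eq_iff] at this
    exact this
  let eqv : {c : L ⧸ H // yL • c = c} ≃ S :=
    { toFun := fun c => ⟨(c.1.out : G) • b, hcS c⟩
      invFun := fun e => ⟨((⟨rep e, hrepL e⟩ : L) : L ⧸ H),
        (hHiff _).2 (hconjmem e (rep e) (hrepL e) (hrepb e))⟩
      left_inv := fun c => Subtype.ext (by
        show ((⟨rep _, hrepL _⟩ : L) : L ⧸ H) = c.1
        conv_rhs => rw [← QuotientGroup.out_eq' c.1]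
        rw [QuotientGroup.eq, Subgroup.mem_subgroupOf]
        set e : S := ⟨(c.1.out : G) • b, hcS c⟩
        show (rep e)⁻¹ * (c.1.out : G) ∈ dL G a b
        refine Subgroup.mem_inf.2 ⟨mul_mem (inv_mem (hrepL e)) c.1.out.2, ?_, ?_⟩
        · show ((rep e)⁻¹ * (c.1.out : G)) • a = a
          rw [mul_smul, (invGp_le a c.1.out.2 : (c.1.out : G) • a = a), inv_smul_eq_iff,
            (invGp_le a (hrepL e) : rep e • a = a)]
        · show ((rep e)⁻¹ * (c.1.out : G)) • b = b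
          rw [mul_smul, inv_smul_eq_iff, hrepb])
      right_inv := fun e => Subtype.ext (by
        show ((((⟨rep e, hrepL e⟩ : L) : L ⧸ H).out : L) : G) • b = e.1
        obtain ⟨d, hd⟩ := QuotientGroup.mk_out_eq_mul H (⟨rep e, hrepL e⟩ : L)
        rw [hd]
        show (rep e * ((d : L) : G)) • b = e.1
        rw [mul_smul]
        exact (congrArg (rep e • ·) d.2.2.2).trans (hrepb e)) }
  have hprod : ∏ e, F e = 1 := by
    rw [← hV yL, transfer_eq_prod_fixed φ' yL ?_ (fun c => F (eqv c)) ?_]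
    · exact (Equiv.prod_comp eqv F).symm
    · intro g l hl1 hl hm
      show φ ⟨(g : G)⁻¹ * y ^ l * g, hm⟩ = 1
      have hord : orderOf ((g : G)⁻¹ * y ^ l * g) = orderOf y / l := by
        have e1 : orderOf ((g : G)⁻¹ * y ^ l * g) = orderOf (y ^ l) := by
          have := orderOf_conj_eq (g : G)⁻¹ (y ^ l)
          rwa [inv_inv] at this
        have hl' : l ∣ orderOf y := (Subgroup.orderOf_coe yL).symm ▸ hl
        rw [e1, orderOf_pow_of_dvd (by omega) hl']
      have hl' : l ∣ orderOf y := (Subgroup.orderOf_coe yL).symm ▸ hl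
      exact hmin _ _ (hord ▸ Nat.div_dvd_of_dvd hl')
        (hord ▸ Nat.div_lt_self (orderOf_pos y) hl1)
    · intro c hm
      exact hFeq (eqv c) (c.1.out : G) c.1.out.2 rfl hm
  -- invariance under `x` and the values at its fixed points
  have hP : ∀ e : Ω, e ≠ a ∧ y • e = e → x • e ≠ a ∧ y • x • e = x • e := fun e he => by
    refine ⟨fun e' => he.1 (MulAction.injective x (e'.trans hxa.symm)), ?_⟩
    rw [← mul_smul, hyx, mul_smul]
    congr 1
    exact (Subgroup.pow_mem (stabilizer G e) (show y ∈ stabilizer G e from he.2) _)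
  have hinv : ∀ e : S, F ⟨x • e.1, hP _ e.2⟩ = F e := by
    intro e
    have hgb : (x * rep e) • b = x • e.1 := by rw [mul_smul, hrepb]
    rw [← hFeq ⟨x • e.1, hP _ e.2⟩ (x * rep e) (mul_mem hx.1 (hrepL e)) hgb
      (hconjmem ⟨x • e.1, hP _ e.2⟩ _ (mul_mem hx.1 (hrepL e)) hgb)]
    have : (⟨(x * rep e)⁻¹ * y * (x * rep e),
        hconjmem ⟨x • e.1, hP _ e.2⟩ _ (mul_mem hx.1 (hrepL e)) hgb⟩ : dL G a b) =
        (⟨_, hconjmem e (rep e) (hrepL e) (hrepb e)⟩ : dL G a b) ^ (j + 1) := Subtype.ext (by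
      show (x * rep e)⁻¹ * y * (x * rep e) = ((rep e)⁻¹ * y * rep e) ^ (j + 1)
      have hc' := conj_pow (i := j + 1) (a := (rep e)⁻¹) (b := y)
      rw [inv_inv] at hc'
      rw [hc', ← hxy]
      group)
    rw [this, map_pow]
    obtain ⟨i, rfl⟩ := hj
    show F e ^ (q * i + 1) = F e
    rw [pow_succ, pow_mul, hA, one_pow, one_mul]
  have hfix : ∀ e : S, x • e.1 = e.1 → F e = φ ⟨y, hy⟩ := by
    intro e hxe
    obtain ⟨o, hoX, hoa, hob, i, ho⟩ :=
      exists_two_of_not_single h hab hxq hX1 hXp hns ((hfx _).2 hxe) e.2.1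
    have hox : o * x = x * o := (Subgroup.mem_centralizer_iff.1 hoX x (Subgroup.mem_zpowers x)).symm
    -- `o` commutes with `y ^ j`
    set k := y ^ j
    have hkS : ∀ {z : Ω}, y • z = z → k • z = z := fun {z} hz =>
      Subgroup.pow_mem (stabilizer G z) (show y ∈ stabilizer G z from hz) _
    have hcX : ∀ {g : G}, g * x = x * g → g ∈ Subgroup.centralizer (X : Set G) := fun {g} hg => by
      rw [hXdef, Subgroup.zpowers_eq_closure, Subgroup.centralizer_closure,
        Subgroup.mem_centralizer_singleton_iff]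
      exact hg
    have hok : k * o * k⁻¹ = o := by
      refine two_eq_of_not_single h hab hxq hX1 hXp hns
        (mul_mem (mul_mem (hcX hcomm.symm) hoX) (inv_mem (hcX hcomm.symm))) hoX ?_ hoa
        (i := i) ?_ ho ?_
      · rw [mul_smul, mul_smul, inv_smul_eq_iff.2 (hkS hya).symm, hoa, hkS hya]
      · rw [conj_pow, ho, mul_one, mul_inv_cancel]
      · rw [mul_smul, mul_smul, inv_smul_eq_iff.2 (hkS hyb).symm, hob, hkS e.2.2]
    have hoy : y⁻¹ * o * y = o := by
      refine two_eq_of_not_single h hab hxq hX1 hXp hns (hcX ?_) hoX ?_ hoa (i := i) ?_ ho ?_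
      · have h1 : o * (x * k) = x * k * o := by
          rw [← mul_assoc, hox, mul_assoc, mul_assoc, ← mul_inv_eq_iff_eq_mul.1 hok]
        rw [← hxk] at h1
        calc y⁻¹ * o * y * x = y⁻¹ * (o * (y * x * y⁻¹)) * y := by group
          _ = y⁻¹ * (y * x * y⁻¹ * o) * y := by rw [h1]
          _ = x * (y⁻¹ * o * y) := by group
      · rw [mul_smul, mul_smul, hya, hoa, inv_smul_eq_iff.2 hya.symm]
      · have := conj_pow (i := 2 ^ i) (a := y⁻¹) (b := o)
        rw [inv_inv, ho, mul_one, inv_mul_cancel] at this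
        exact this
      · rw [mul_smul, mul_smul, hyb, hob, inv_smul_eq_iff.2 e.2.2.symm]
    have hoL : o ∈ L := mem_invGp_of_two_pow h hab hc hoa ho
    have hval : o⁻¹ * y * o = y := by
      calc o⁻¹ * y * o = o⁻¹ * y * (y⁻¹ * o * y) := by rw [hoy]
        _ = y := by group
    rw [← hFeq e o hoL hob (hconjmem e o hoL hob)]
    exact congrArg φ (Subtype.ext hval)
  have key : ∏ e, F e = φ ⟨y, hy⟩ ^ Nat.card {e : Ω // (e ≠ a ∧ y • e = e) ∧ x • e = e} :=
    prod_eq_pow_fix hA hxpow _ hP F hinv _ hfix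
  rw [hprod] at key
  -- the exponent is prime to `q`
  obtain ⟨hcop, -⟩ := fixed_data_invGp h hab hc hxq hX1 hXD hns
  have e0 : Nat.card {e : Ω // e ∈ Fx X ∧ e ≠ a} = Nat.card {e : Ω // e ≠ a ∧ x • e = e} :=
    Nat.card_congr (Equiv.subtypeEquivRight fun e => by rw [hfx, and_comm])
  have e1 : Nat.card {e : Ω // e ≠ a ∧ x • e = e} ≡
      Nat.card {e : Ω // (e ≠ a ∧ x • e = e) ∧ y ^ j • e = e} [MOD q] := by
    refine card_modEq_fix (n := n') (by rw [← pow_mul, mul_comm, pow_mul, hypow, one_pow]) _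
      fun e he => ⟨fun e' => he.1 (MulAction.injective (y ^ j) (e'.trans ?_)), ?_⟩
    · exact (Subgroup.pow_mem (stabilizer G a) (show y ∈ stabilizer G a from hya) j).symm
    · rw [← mul_smul, hcomm, mul_smul, he.2]
  have e2 : Nat.card {e : Ω // (e ≠ a ∧ x • e = e) ∧ y ^ j • e = e} ≡
      Nat.card {e : Ω // ((e ≠ a ∧ x • e = e) ∧ y ^ j • e = e) ∧ y • e = e} [MOD q] := by
    refine card_modEq_fix hypow _ fun e he =>
      ⟨⟨fun e' => he.1.1 (MulAction.injective y (e'.trans hya.symm)), ?_⟩, ?_⟩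
    · have hx' : x * y = y * (x * (y ^ j)⁻¹) := by
        have h1 : x * y * y ^ j = y * x := by rw [mul_assoc, ← pow_succ', hyx]
        rw [eq_mul_inv_of_mul_eq h1, mul_assoc]
      rw [← mul_smul, hx', mul_smul, mul_smul, inv_smul_eq_iff.2 he.2.symm, he.1.2]
    · rw [← mul_smul, ← pow_succ, pow_succ', mul_smul, he.2]
  have e3 : Nat.card {e : Ω // ((e ≠ a ∧ x • e = e) ∧ y ^ j • e = e) ∧ y • e = e} =
      Nat.card {e : Ω // (e ≠ a ∧ y • e = e) ∧ x • e = e} :=
    Nat.card_congr (Equiv.subtypeEquivRight fun e => ⟨fun h => ⟨⟨h.1.1.1, h.2⟩, h.1.1.2⟩,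
      fun h => ⟨⟨⟨h.1.1, h.2⟩,
        Subgroup.pow_mem (stabilizer G e) (show y ∈ stabilizer G e from h.1.2) j⟩, h.1.2⟩⟩)
  rw [e0] at hcop
  have hnd : ¬ q ∣ Nat.card {e : Ω // (e ≠ a ∧ y • e = e) ∧ x • e = e} := fun hd => by
    rw [← e3] at hd
    have h1 := Nat.modEq_zero_iff_dvd.1 ((e1.trans e2).trans (Nat.modEq_zero_iff_dvd.2 hd))
    exact hq.out.not_dvd_one (hcop ▸ Nat.dvd_gcd h1 hqD)
  exact orderOf_eq_one_iff.1 (Nat.eq_one_of_dvd_coprimes
    ((hq.out.coprime_iff_not_dvd).2 hnd)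
    (orderOf_dvd_of_pow_eq_one (hA _)) (orderOf_dvd_of_pow_eq_one key.symm))

end Cfsg.Agent.Lib.BenderOne43
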