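import Cfsg.Agent.Lib.BenderOne43.Minimal
import Cfsg.Agent.Lib.Coprime.Generation
import Cfsg.Agent.Lib.PGroups.UniqueInvolution

/-!
# Node C2, the primes of `(D ∩ L)^ab` (`PropTop`)

For a quotient of order `q` of `D ∩ L` let `y` be a `q`-element of minimal order outside its
kernel.  The transfer at `y` shows that no element that is not single commutes with `y`.  As no
elementary group of order `q ^ 2` consists of single elements, `⟨y⟩` is its own centraliser in a
Sylow subgroup `T`; a second subgroup of order `q` in the normaliser of `⟨y⟩` in `T` would give a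
good element that the transfer forbids.  So `T = ⟨y⟩`, and Burnside gives the complement.
-/

set_option autoImplicit false
set_option linter.style.haveILetI false
set_option linter.unusedSectionVars false

namespace Cfsg.Agent.Lib.BenderOne43

open scoped Classical
open MulAction Cfsg.Agent.Lib.Involutions.Basic
open Cfsg.Agent.Lib.BenderOne20 Cfsg.Agent.Lib.BenderOne8 Cfsg.Agent.Lib.BenderOne8.Single

universe u

theorem exists_comm_normal {K : Type*} [Group K] [Group.IsSolvable K] [Nontrivial K] :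
    ∃ M : Subgroup K, M.Normal ∧ M ≠ ⊥ ∧ ∀ x ∈ M, ∀ y ∈ M, x * y = y * x := by
  have hex : ∃ n, derivedSeries K n = ⊥ := Group.IsSolvable.solvable
  obtain ⟨k, hk⟩ : ∃ k, Nat.find hex = k + 1 := by
    refine Nat.exists_eq_succ_of_ne_zero fun e => ?_
    have h := Nat.find_spec hex
    rw [e, derivedSeries_zero] at h
    exact bot_ne_top h.symm
  have h := Nat.find_spec hex
  rw [hk, derivedSeries_succ, Subgroup.commutator_eq_bot_iff_le_centralizer] at h
  exact ⟨derivedSeries K k, derivedSeries_normal K k,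
    Nat.find_min hex (hk ▸ Nat.lt_succ_self k), fun x hx y hy =>
      (Subgroup.mem_centralizer_iff.1 (h hx) y hy).symm⟩

variable {G Ω : Type u} [Group G] [MulAction G Ω] [Finite G]

/-- A normal subgroup of `D ∩ L` centralising an involution at `a` is trivial. -/
theorem eq_bot_of_central {a b : Ω} (hW : W0One G a b) (htr : TransJ G a b) {M : Subgroup G}
    (hM : M ≤ dL G a b) (hn : ∀ d ∈ dL G a b, ∀ x ∈ M, d * x * d⁻¹ ∈ M) {t : G}
    (ht : t ∈ invAt G a) (hc : ∀ x ∈ M, x * t = t * x) : M = ⊥ := by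
  refine eq_bot_iff.2 fun x hx => Subgroup.mem_bot.2 (hW x (hM hx).2 fun s hs => ?_)
  obtain ⟨d, hd, rfl⟩ := htr t ht s hs
  have h1 := hc _ (hn d⁻¹ (inv_mem hd) x hx)
  calc x * (d * t * d⁻¹) = d * (d⁻¹ * x * d⁻¹⁻¹ * t) * d⁻¹ := by group
    _ = d * t * d⁻¹ * x := by rw [h1]; group

theorem exists_invCen (a : Ω) {q : ℕ} [Fact q.Prime] (hm : ¬ q ∣ Nat.card (invAt G a))
    {X : Subgroup G} (hX : IsPGroup q X) (ha : a ∈ Fx X) : ∃ s, s ∈ invCen X a := by
  by_contra hne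
  push Not at hne
  haveI : IsEmpty ↥(invCen X a) := ⟨fun s => hne s.1 s.2⟩
  have h := card_invCen_modEq hX ha
  rw [Nat.card_of_isEmpty (α := ↥(invCen X a))] at h
  exact hm (Nat.modEq_zero_iff_dvd.1 h)

/-- No elementary subgroup of order `q ^ 2` of `D ∩ L` consists of single elements. -/
theorem no_single_pair (h : Ctx G Ω) {a b : Ω} (hab : b ≠ a) (hW : W0One G a b)
    (htr : TransJ G a b) {q : ℕ} [hq : Fact q.Prime] (hm : ¬ q ∣ Nat.card (invAt G a)) {x z : G}
    (hx : x ∈ dL G a b) (hz : z ∈ dL G a b) (hxo : orderOf x = q) (hzo : orderOf z = q)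
    (hxz : x * z = z * x) (hzx : z ∉ Subgroup.zpowers x)
    (hs : ∀ w ∈ Subgroup.closure ({x, z} : Set G), w ≠ 1 → IsSingle (Subgroup.zpowers w) a) :
    False := by
  set D := dL G a b
  set E := Subgroup.closure ({x, z} : Set G) with hE
  have hED : E ≤ D := (Subgroup.closure_le _).2
    (Set.insert_subset hx (Set.singleton_subset_iff.2 hz))
  have hEc : IsMulCommutative E := by
    rw [← Subgroup.le_centralizer_iff_isMulCommutative, hE, Subgroup.closure_le]
    intro v hv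
    simp only [SetLike.mem_coe]
    rw [Subgroup.centralizer_closure, Subgroup.mem_centralizer_iff]
    intro w hw
    rcases hv with rfl | rfl <;> rcases hw with rfl | rfl <;>
      first | rfl | exact hxz | exact hxz.symm
  have hcommE : ∀ v ∈ E, ∀ w ∈ E, Commute v w := fun v hv w hw =>
    congrArg Subtype.val (hEc.is_comm.comm ⟨v, hv⟩ ⟨w, hw⟩)
  have hexp : ∀ w ∈ E, w ^ q = 1 := fun w hw => by
    induction hw using Subgroup.closure_induction with
    | mem w hw =>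
      rcases hw with rfl | rfl
      · rw [← hxo]; exact pow_orderOf_eq_one _
      · rw [← hzo]; exact pow_orderOf_eq_one _
    | one => exact one_pow _
    | mul v w hv hw ihv ihw => rw [(hcommE v hv w hw).mul_pow, ihv, ihw, one_mul]
    | inv v _ ih => rw [inv_pow, ih, inv_one]
  have hEp : IsPGroup q E := fun w => ⟨1, by
    rw [pow_one]; exact Subtype.ext (hexp w w.2)⟩
  have hxE : x ∈ E := Subgroup.subset_closure (Set.mem_insert _ _)
  have hEncyc : ¬ IsCyclic E := by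
    intro hcyc
    obtain ⟨⟨g, hg⟩, hgen⟩ := IsCyclic.exists_generator (α := E)
    have hle : E ≤ Subgroup.zpowers g := fun w hw => by
      obtain ⟨i, hi⟩ := hgen ⟨w, hw⟩
      exact ⟨i, congrArg Subtype.val hi⟩
    have hcard : Nat.card E ≤ Nat.card (Subgroup.zpowers x) := by
      rw [Nat.card_zpowers, hxo]
      refine (Nat.card_le_card_of_injective _ (Subgroup.inclusion_injective hle)).trans ?_
      rw [Nat.card_zpowers]
      exact Nat.le_of_dvd hq.out.pos (orderOf_dvd_of_pow_eq_one (hexp g hg))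
    refine hzx ?_
    rw [Subgroup.eq_of_le_of_card_ge (Subgroup.zpowers_le.2 hxE) hcard]
    exact Subgroup.subset_closure (Set.mem_insert_of_mem _ rfl)
  -- an abelian normal subgroup
  haveI : Nontrivial D := ⟨⟨⟨x, hx⟩, 1, fun e => by
    have : x = 1 := congrArg Subtype.val e
    rw [this, orderOf_one] at hxo
    exact hq.out.one_lt.ne hxo⟩⟩
  haveI : Group.IsSolvable D := OddOrder.FeitThompson.isSolvable_of_odd_card
    ((h.fix.odd_pairStab hab.symm).of_dvd_nat (Subgroup.card_dvd_of_le inf_le_right))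
  obtain ⟨M₀, hM₀n, hM₀1, hM₀c⟩ := exists_comm_normal (K := D)
  set M := M₀.map D.subtype with hM
  have hMD : M ≤ D := Subgroup.map_subtype_le _
  have hMn : ∀ d ∈ D, ∀ v ∈ M, d * v * d⁻¹ ∈ M := by
    rintro d hd _ ⟨v, hv, rfl⟩
    exact ⟨⟨d, hd⟩ * v * ⟨d, hd⟩⁻¹, hM₀n.conj_mem v hv _, rfl⟩
  have hMc : ∀ v ∈ M, ∀ w ∈ M, v * w = w * v := by
    rintro _ ⟨v, hv, rfl⟩ _ ⟨w, hw, rfl⟩
    exact congrArg Subtype.val (hM₀c v hv w hw)
  have hM1 : M ≠ ⊥ := fun e => hM₀1 ((M₀.map_eq_bot_iff_of_injective D.subtype_injective).1 e)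
  -- its `q`-part is trivial
  let R : Subgroup G :=
    { carrier := {v | v ∈ M ∧ v ^ q = 1}
      mul_mem' := fun {v w} hv hw => ⟨mul_mem hv.1 hw.1, by
        rw [Commute.mul_pow (hMc v hv.1 w hw.1), hv.2, hw.2, one_mul]⟩
      one_mem' := ⟨one_mem _, one_pow _⟩
      inv_mem' := fun {v} hv => ⟨inv_mem hv.1, by rw [inv_pow, hv.2, inv_one]⟩ }
  have hR : R = ⊥ := by
    have hRp : IsPGroup q R := fun v => ⟨1, by rw [pow_one]; exact Subtype.ext v.2.2⟩
    obtain ⟨s, hs, hsR⟩ := exists_invCen a hm hRp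
      (fun v hv => (hMD hv.1).2.1 : R ≤ stabilizer G a)
    exact eq_bot_of_central hW htr (fun v hv => hMD hv.1)
      (fun d hd v hv => ⟨hMn d hd v hv.1, by rw [conj_pow, hv.2, mul_one, mul_inv_cancel]⟩) hs
      fun v hv => Subgroup.mem_centralizer_singleton_iff.1 (hsR hv)
  have hcop : (Nat.card E).Coprime (Nat.card M) := by
    obtain ⟨n, hn⟩ := IsPGroup.iff_card.1 hEp
    rw [hn]
    refine Nat.Coprime.pow_left n ((hq.out.coprime_iff_not_dvd).2 fun hd => ?_)
    obtain ⟨v, hv⟩ := exists_prime_orderOf_dvd_card' q hd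
    have hv' : (v : G) ∈ R := ⟨v.2, by
      rw [← Subgroup.coe_pow, ← hv, pow_orderOf_eq_one, Subgroup.coe_one]⟩
    rw [hR, Subgroup.mem_bot, ← Subgroup.coe_one M, Subtype.coe_inj] at hv'
    rw [hv', orderOf_one] at hv
    exact hq.out.one_lt.ne hv
  -- it centralises the involution of `E`
  obtain ⟨t, ht, htE⟩ := exists_invCen a hm hEp (fun v hv => (hED hv).2.1 : E ≤ stabilizer G a)
  refine hM1 (eq_bot_of_central hW htr hMD hMn ht ?_)
  intro v hv
  refine Subgroup.mem_centralizer_singleton_iff.1 ((?_ : M ≤ Subgroup.centralizer {t}) hv)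
  have hEM : E ≤ Subgroup.normalizer (M : Set G) := fun d hd =>
    Subgroup.mem_normalizer_iff.2 fun v => ⟨hMn d (hED hd) v, fun hv => by
      have h1 := hMn d⁻¹ (inv_mem (hED hd)) _ hv
      rwa [show d⁻¹ * (d * v * d⁻¹) * d⁻¹⁻¹ = v by group] at h1⟩
  conv_lhs => rw [← Coprime.iSup_centralizer_eq hEncyc hEM hcop]
  refine iSup₂_le fun e he => ?_
  rintro c ⟨hcM, hce⟩
  obtain ⟨-, -, hone⟩ := hs e he.1 he.2
  have hte : t ∈ invCen (Subgroup.zpowers e) a :=
    ⟨ht, (Subgroup.zpowers_le.2 he.1).trans htE⟩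
  have hcte : c * t * c⁻¹ ∈ invCen (Subgroup.zpowers e) a := by
    refine ⟨?_, cen_conj (Subgroup.centralizer_le_normalizer _ ?_) hte.2⟩
    · have h1 := OneFix.conj_mem_invAt (g := c) ht
      rwa [((hMD hcM).2.1 : c • a = a)] at h1
    · rw [Subgroup.zpowers_eq_closure, Subgroup.centralizer_closure]
      exact hce
  have e1 : c * t * c⁻¹ = t :=
    congrArg Subtype.val ((Nat.card_eq_one_iff_unique.1 hone).1.elim ⟨_, hcte⟩ ⟨t, hte⟩)
  exact Subgroup.mem_centralizer_singleton_iff.2 (mul_inv_eq_iff_eq_mul.1 e1)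

theorem mem_normalizer_of_forall {H : Subgroup G} {g : G} (hg : ∀ w ∈ H, g * w * g⁻¹ ∈ H) :
    g ∈ Subgroup.normalizer (H : Set G) := by
  rw [Subgroup.mem_normalizer_iff_map_conj_eq]
  refine Subgroup.eq_of_le_of_card_ge ?_ (le_of_eq ?_)
  · rintro _ ⟨w, hw, rfl⟩
    exact hg w hw
  · rw [Subgroup.card_map_of_injective (MulAut.conj g).injective]

omit [Finite G] in
theorem isPGroup_zpowers {q : ℕ} [Fact q.Prime] {g : G} {i : ℕ} (hg : g ^ q ^ i = 1) :
    IsPGroup q (Subgroup.zpowers g) := by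
  obtain ⟨k, -, hk⟩ := (Nat.dvd_prime_pow Fact.out).1 (orderOf_dvd_of_pow_eq_one hg)
  exact IsPGroup.of_card (n := k) (by rw [Nat.card_zpowers, hk])

omit [Finite G] in
theorem conj_pow_iterate {g y : G} {i : ℕ} (hg : g⁻¹ * y * g = y ^ i) (k : ℕ) :
    (g ^ k)⁻¹ * y * g ^ k = y ^ (i ^ k) := by
  induction k with
  | zero => simp
  | succ k ih =>
    calc (g ^ (k + 1))⁻¹ * y * g ^ (k + 1) = g⁻¹ * ((g ^ k)⁻¹ * y * g ^ k) * g⁻¹⁻¹ := by
          rw [pow_succ]; group
      _ = g⁻¹ * y ^ (i ^ k) * g⁻¹⁻¹ := by rw [ih]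
      _ = (g⁻¹ * y * g⁻¹⁻¹) ^ (i ^ k) := (conj_pow).symm
      _ = y ^ (i ^ (k + 1)) := by rw [inv_inv, hg, ← pow_mul, pow_succ']

/-- An element normalising a cyclic Sylow subgroup and acting trivially modulo its Frattini
subgroup centralises it. -/
theorem commute_of_conj_cyclic {q : ℕ} [hq : Fact q.Prime] {D : Subgroup G} {y : G}
    (hT : SylowIn q (Subgroup.zpowers y) D) {n : ℕ} (hyo : orderOf y = q ^ n) {g : G} (hgD : g ∈ D)
    {j : ℕ} (hj : q ∣ j) (hgj : g⁻¹ * y * g = y ^ (j + 1)) : g * y = y * g := by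
  have hTp := hT.isPGroup
  -- `g ^ (q ^ n)` centralises `y`
  have h1 : (g ^ q ^ n)⁻¹ * y * g ^ q ^ n = y := by
    have hd : ((q : ℤ)) ^ n ∣ ((j + 1 : ℤ)) ^ q ^ n - 1 := by
      have h0 : (q : ℤ) ∣ ((j : ℤ) + 1) - 1 := by
        rw [add_sub_cancel_right]; exact_mod_cast hj
      have h2 := dvd_sub_pow_of_dvd_sub h0 n
      rw [one_pow] at h2
      exact dvd_trans (pow_dvd_pow _ (Nat.le_succ n)) h2
    rw [conj_pow_iterate hgj]
    conv_rhs => rw [← pow_one y]
    rw [pow_eq_pow_iff_modEq, hyo]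
    refine Nat.ModEq.symm (Nat.modEq_iff_dvd.2 ?_)
    push_cast
    exact hd
  obtain ⟨e, r, hr, he⟩ :=
    Nat.exists_eq_pow_mul_and_not_dvd (orderOf_pos g).ne' q hq.out.ne_one
  have hgr : (g ^ r)⁻¹ * y * g ^ r = y := by
    have hnorm : ∀ w ∈ Subgroup.zpowers y,
        (g ^ r)⁻¹ * w * g ^ r ∈ Subgroup.zpowers y := by
      intro w hw
      obtain ⟨i, rfl⟩ := hw
      have h3 := conj_zpow (a := (g ^ r)⁻¹) (b := y) (i := i)
      rw [inv_inv, conj_pow_iterate hgj] at h3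
      rw [← h3]
      exact zpow_mem (pow_mem (Subgroup.mem_zpowers y) _) i
    have hnm : g ^ r ∈ Subgroup.normalizer (Subgroup.zpowers y : Set G) := by
      refine inv_mem_iff.1 (mem_normalizer_of_forall fun w hw => ?_)
      rw [inv_inv]
      exact hnorm w hw
    have hgq : IsPGroup q (Subgroup.zpowers (g ^ r)) := isPGroup_zpowers (i := e)
      (by rw [← pow_mul, mul_comm, ← he, pow_orderOf_eq_one])
    have hsup : Subgroup.zpowers (g ^ r) ⊔ Subgroup.zpowers y = Subgroup.zpowers y :=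
      hT.eq_of_le le_sup_right (sup_le (Subgroup.zpowers_le.2 (pow_mem hgD r)) hT.1)
        (hgq.to_sup_of_normal_right' hTp (Subgroup.zpowers_le.2 hnm))
    obtain ⟨i, hi⟩ := (hsup ▸ le_sup_left (a := Subgroup.zpowers (g ^ r))
      (Subgroup.mem_zpowers _) : g ^ r ∈ Subgroup.zpowers y)
    rw [← show y ^ i = g ^ r from hi, mul_assoc, (Commute.self_zpow y i).eq,
      inv_mul_cancel_left]
  have m1 : g ^ q ^ n ∈ Subgroup.centralizer {y} :=
    Subgroup.mem_centralizer_singleton_iff.2 (by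
      conv_lhs => rw [← h1]
      group)
  have m2 : g ^ r ∈ Subgroup.centralizer {y} :=
    Subgroup.mem_centralizer_singleton_iff.2 (by
      conv_lhs => rw [← hgr]
      group)
  have hcop : (q ^ n).Coprime r := ((hq.out.coprime_iff_not_dvd).2 hr).pow_left n
  have hb : g = (g ^ q ^ n) ^ (Nat.gcdA (q ^ n) r) * (g ^ r) ^ (Nat.gcdB (q ^ n) r) := by
    rw [← zpow_natCast, ← zpow_natCast, ← zpow_mul, ← zpow_mul, ← zpow_add,
      ← Nat.gcd_eq_gcd_ab, hcop, Nat.cast_one, zpow_one]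
  exact Subgroup.mem_centralizer_singleton_iff.1 (hb ▸ mul_mem (zpow_mem m1 _) (zpow_mem m2 _))

/-- Burnside: a Sylow subgroup of `D` central in its normaliser has a normal complement. -/
theorem exists_complement {q : ℕ} [Fact q.Prime] {D T : Subgroup G} (hT : SylowIn q T D)
    (hNC : ∀ g ∈ D, (∀ w ∈ T, g⁻¹ * w * g ∈ T) → ∀ w ∈ T, g * w = w * g) :
    ∃ C : Subgroup G, C ≤ D ∧ C ⊓ T = ⊥ ∧ C ⊔ T = D ∧ ∀ d ∈ D, ∀ c ∈ C, d * c * d⁻¹ ∈ C := by
  set P : Sylow q D := Sylow.ofCard (T.subgroupOf D)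
    (by rw [Nat.card_congr (Subgroup.subgroupOfEquivOfLe hT.1).toEquiv, hT.2]) with hP
  have hPmem : ∀ d : D, d ∈ (P : Subgroup D) ↔ (d : G) ∈ T := fun d => by
    rw [hP, Sylow.coe_ofCard, Subgroup.mem_subgroupOf]
  have hN : Subgroup.normalizer (P : Subgroup D) ≤
      Subgroup.centralizer ((P : Subgroup D) : Set D) := by
    intro g hg
    have h := hNC g g.2 fun w hw => (hPmem _).1
      ((Subgroup.mem_normalizer_iff''.1 hg ⟨w, hT.1 hw⟩).1 ((hPmem _).2 hw))
    exact Subgroup.mem_centralizer_iff.2 fun d hd => Subtype.ext (h d ((hPmem d).1 hd)).symm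
  have hcompl := MonoidHom.ker_transferSylow_isComplement' P hN
  set C₀ := (MonoidHom.transferSylow P hN).ker
  have hPmap : (P : Subgroup D).map D.subtype = T := by
    rw [hP, Sylow.coe_ofCard, Subgroup.subgroupOf_map_subtype, inf_eq_left.2 hT.1]
  refine ⟨C₀.map D.subtype, Subgroup.map_subtype_le _, ?_, ?_, ?_⟩
  · rw [← hPmap, ← Subgroup.map_inf _ _ _ D.subtype_injective,
      hcompl.disjoint.eq_bot, Subgroup.map_bot]
  · rw [← hPmap, ← Subgroup.map_sup, hcompl.sup_eq_top, ← MonoidHom.range_eq_map,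
      Subgroup.range_subtype]
  · rintro d hd _ ⟨c, hc', rfl⟩
    have hnc := (MonoidHom.normal_ker (MonoidHom.transferSylow P hN)).conj_mem c hc' (⟨d, hd⟩ : D)
    exact ⟨(⟨d, hd⟩ : D) * c * (⟨d, hd⟩ : D)⁻¹, hnc, rfl⟩

/-- **Case III (2): the primes of `(D ∩ L)^ab`.** -/
theorem propTop : Single.PropTop.{u} := by
  intro G Ω _ _ _ a b h hab hW hc htr q
  set D := dL G a b with hD
  intro N hq hN hidx
  haveI : Fact q.Prime := ⟨hq⟩
  have hcardQ : Nat.card (D ⧸ N) = q := by rw [← Subgroup.index_eq_card, hidx]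
  haveI : IsCyclic (D ⧸ N) := isCyclic_of_prime_card hcardQ
  letI : CommGroup (D ⧸ N) := IsCyclic.commGroup
  set φ : D →* D ⧸ N := QuotientGroup.mk' N with hφ
  have hA : ∀ v : D ⧸ N, v ^ q = 1 := fun v => hcardQ ▸ pow_card_eq_one'
  have hoddD : Odd (Nat.card D) :=
    (h.fix.odd_pairStab hab.symm).of_dvd_nat (Subgroup.card_dvd_of_le inf_le_right)
  have hq2 : q ≠ 2 := fun e => Nat.not_even_iff_odd.2
    (hoddD.of_dvd_nat (hidx ▸ N.index_dvd_card)) (e ▸ even_two)
  -- an element of minimal order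
  have hex : ∃ k, ∃ (w : G) (hw : w ∈ D), orderOf w = q ^ k ∧ φ ⟨w, hw⟩ ≠ 1 := by
    obtain ⟨d, hd⟩ : ∃ d : D, d ∉ N := by
      by_contra hall
      push Not at hall
      have : N = ⊤ := eq_top_iff.2 fun d _ => hall d
      rw [this, Subgroup.index_top] at hidx
      exact hq.one_lt.ne hidx
    obtain ⟨e, r, hr, he⟩ := Nat.exists_eq_pow_mul_and_not_dvd (orderOf_pos d).ne' q hq.ne_one
    obtain ⟨k, -, hk⟩ := (Nat.dvd_prime_pow hq).1 (orderOf_dvd_of_pow_eq_one
      (x := d ^ r) (n := q ^ e) (by rw [← pow_mul, mul_comm, ← he, pow_orderOf_eq_one]))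
    refine ⟨k, _, (d ^ r).2, (Subgroup.orderOf_coe _).trans hk, fun h1 => hd ?_⟩
    refine (QuotientGroup.eq_one_iff d).1 (orderOf_eq_one_iff.1 (Nat.eq_one_of_dvd_coprimes
      ((hq.coprime_iff_not_dvd).2 hr) (orderOf_dvd_of_pow_eq_one (hA _))
      (orderOf_dvd_of_pow_eq_one ?_)))
    exact (map_pow φ d r).symm.trans h1
  obtain ⟨y, hy, hyo, hyφ⟩ := Nat.find_spec hex
  set n := Nat.find hex
  have hyq : IsPGroup q (Subgroup.zpowers y) :=
    isPGroup_zpowers (i := n) (hyo ▸ pow_orderOf_eq_one y)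
  have hmin : ∀ (w : G) (hw : w ∈ D), orderOf w ∣ orderOf y → orderOf w < orderOf y →
      φ ⟨w, hw⟩ = 1 := by
    intro w hw hdvd hlt
    by_contra hne
    obtain ⟨k, -, hk⟩ := (Nat.dvd_prime_pow hq).1 (hyo ▸ hdvd)
    rw [hk, hyo] at hlt
    exact Nat.find_min hex ((Nat.pow_lt_pow_iff_right hq.one_lt).1 hlt) ⟨w, hw, hk, hne⟩
  have hy1 : y ≠ 1 := fun e => hyφ (by
    rw [show (⟨y, hy⟩ : D) = 1 from Subtype.ext e, map_one])
  have hn : 1 ≤ n := Nat.pos_of_ne_zero fun e =>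
    hy1 (orderOf_eq_one_iff.1 (by rw [hyo, e, pow_zero]))
  have hnoGood : ∀ x ∈ D, IsPGroup q (Subgroup.zpowers x) → x ≠ 1 → ∀ j : ℕ, q ∣ j →
      x⁻¹ * y * x = y ^ (j + 1) → x * y ^ j = y ^ j * x → IsSingle (Subgroup.zpowers x) a := by
    intro x hx hxq hx1 j hj hxy hcomm
    by_contra hns
    exact hyφ (map_eq_one_of_minimal h hab hc hA φ hy hyq hmin hx hxq hx1 hns hj hxy hcomm)
  have hcen : ∀ x ∈ D, IsPGroup q (Subgroup.zpowers x) → x ≠ 1 → x * y = y * x →
      IsSingle (Subgroup.zpowers x) a := by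
    intro x hx hxq hx1 hxy
    refine hnoGood x hx hxq hx1 0 (dvd_zero q) ?_ (by rw [pow_zero, mul_one, one_mul])
    rw [zero_add, pow_one, mul_assoc, ← hxy, inv_mul_cancel_left]
  have hm : ¬ q ∣ Nat.card (invAt G a) := fun hd => by
    obtain ⟨-, hya, hone⟩ := hcen y hy hyq hy1 rfl
    have h1 := card_invCen_modEq hyq hya
    rw [hone] at h1
    exact hq.not_dvd_one (Nat.modEq_zero_iff_dvd.1 (h1.symm.trans (Nat.modEq_zero_iff_dvd.2 hd)))
  have hconjy : ∀ g ∈ D, g⁻¹ * y * g ∈ Subgroup.zpowers y →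
      ∃ j, q ∣ j ∧ g⁻¹ * y * g = y ^ (j + 1) := by
    intro g hg hmem
    obtain ⟨i, hi⟩ := (mem_powers_iff_mem_zpowers.2 hmem)
    change y ^ i = g⁻¹ * y * g at hi
    obtain ⟨j, rfl⟩ : ∃ j, i = j + 1 := Nat.exists_eq_succ_of_ne_zero fun e => hy1 (by
      rw [e, pow_zero] at hi
      calc y = g * (g⁻¹ * y * g) * g⁻¹ := by group
        _ = 1 := by rw [← hi, mul_one, mul_inv_cancel])
    refine ⟨j, ?_, hi.symm⟩
    have h1 : φ ⟨y, hy⟩ ^ (j + 1) = φ ⟨y, hy⟩ := by
      rw [← map_pow, show (⟨y, hy⟩ : D) ^ (j + 1) = ⟨g, hg⟩⁻¹ * ⟨y, hy⟩ * ⟨g, hg⟩ from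
        Subtype.ext hi, map_mul, map_mul, map_inv, mul_comm (φ ⟨g, hg⟩)⁻¹, inv_mul_cancel_right]
    rw [pow_succ, mul_eq_right] at h1
    rw [← orderOf_eq_prime (hA _) hyφ]
    exact orderOf_dvd_of_pow_eq_one h1
  -- the Sylow subgroup
  obtain ⟨T, hT, hyT⟩ := SylowIn.exists_ge (D := D) hyq (Subgroup.zpowers_le.2 hy)
  have hTp := hT.isPGroup
  have hTz : ∀ w ∈ T, IsPGroup q (Subgroup.zpowers w) := fun w hw =>
    hTp.to_le (Subgroup.zpowers_le.2 hw)
  set z := y ^ q ^ (n - 1) with hz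
  have hzo : orderOf z = q := by
    rw [hz, orderOf_pow_of_dvd (pow_ne_zero _ hq.ne_zero) (hyo ▸ pow_dvd_pow q (Nat.sub_le n 1)),
      hyo, Nat.pow_div (Nat.sub_le n 1) hq.pos, Nat.sub_sub_self hn, pow_one]
  have hzy : z ∈ Subgroup.zpowers y := Subgroup.pow_mem _ (Subgroup.mem_zpowers y) _
  have hsame : ∀ x, orderOf x = q → x ∈ Subgroup.zpowers z →
      Subgroup.zpowers x = Subgroup.zpowers z := fun x hxo hx =>
    Subgroup.eq_of_le_of_card_ge (Subgroup.zpowers_le.2 hx)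
      (by rw [Nat.card_zpowers, Nat.card_zpowers, hxo, hzo])
  -- `⟨y⟩` is its own centraliser in `T`
  have hKy : ∀ w ∈ T, w * y = y * w → w ∈ Subgroup.zpowers y := by
    set K := T ⊓ Subgroup.centralizer {y}
    have hzK : z ∈ K := ⟨hyT hzy,
      Subgroup.mem_centralizer_singleton_iff.2 (Commute.pow_self y _).eq⟩
    have hzline : ∀ x ∈ K, orderOf x = q → x ∈ Subgroup.zpowers z := by
      intro x hx hxo
      by_contra hxz
      have hcz : z * x = x * z := (Commute.pow_left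
        (Subgroup.mem_centralizer_singleton_iff.1 hx.2).symm _).eq
      refine no_single_pair h hab hW htr hm (hT.1 (hyT hzy)) (hT.1 hx.1) hzo hxo hcz hxz
        fun w hw hw1 => ?_
      have hwK : w ∈ K :=
        (Subgroup.closure_le K).2 (Set.insert_subset hzK (Set.singleton_subset_iff.2 hx)) hw
      exact hcen w (hT.1 hwK.1) (hTz w hwK.1) hw1
        (Subgroup.mem_centralizer_singleton_iff.1 hwK.2)
    have hcyc : IsCyclic K := by
      refine PGroups.isCyclic_of_unique_prime hq2 (hTp.to_le inf_le_left) fun v w hv hw => ?_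
      have hv' := hsame v ((Subgroup.orderOf_coe v).trans hv)
        (hzline v v.2 ((Subgroup.orderOf_coe v).trans hv))
      obtain ⟨i, hi⟩ := hv'.symm ▸ hzline w w.2 ((Subgroup.orderOf_coe w).trans hw)
      exact ⟨i, Subtype.ext hi⟩
    obtain ⟨⟨g, hg⟩, hgen⟩ := IsCyclic.exists_generator (α := K)
    obtain ⟨i, hi⟩ := mem_powers_iff_mem_zpowers.2
      (hgen ⟨y, ⟨hyT (Subgroup.mem_zpowers y), Subgroup.mem_centralizer_singleton_iff.2 rfl⟩⟩)
    have hi' : g ^ i = y := congrArg Subtype.val hi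
    have hqi : ¬ q ∣ i := by
      rintro ⟨j, rfl⟩
      refine hyφ ?_
      rw [show (⟨y, hy⟩ : D) = ⟨g, hT.1 hg.1⟩ ^ (q * j) from Subtype.ext hi'.symm, map_pow,
        pow_mul, hA, one_pow]
    obtain ⟨k, hk⟩ := IsPGroup.iff_card.1 (hTz g hg.1)
    rw [Nat.card_zpowers] at hk
    obtain ⟨m', hm'⟩ := exists_pow_eq_self_of_coprime (x := g) (n := i)
      (hk ▸ ((hq.coprime_iff_not_dvd.2 hqi).symm.pow_right k))
    rw [hi'] at hm'
    intro w hw hwy
    obtain ⟨l, hl⟩ := hgen ⟨w, hw, Subgroup.mem_centralizer_singleton_iff.2 hwy⟩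
    rw [← show g ^ l = w from congrArg Subtype.val hl, ← hm']
    exact zpow_mem (pow_mem (Subgroup.mem_zpowers y) _) l
  by_cases hTy : T = Subgroup.zpowers y
  · -- the conclusion
    subst hTy
    have hzline : ∀ x, orderOf x = q → x ∈ Subgroup.zpowers y →
        IsSingle (Subgroup.zpowers x) a := by
      intro x hxo hx
      obtain ⟨i, hi⟩ := hx
      exact hcen x (hT.1 ⟨i, hi⟩) (hTz x ⟨i, hi⟩)
        (fun e => by rw [e, orderOf_one] at hxo; exact hq.one_lt.ne hxo)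
        (hi ▸ (Commute.zpow_self y i).eq)
    refine ⟨_, hq, hT, Subgroup.zpowers_ne_bot.2 hy1, inferInstance, fun X hX hX1 => ?_, ?_⟩
    · obtain ⟨k, hk⟩ := IsPGroup.iff_card.1 (hTp.to_le hX)
      obtain ⟨⟨x, hxX⟩, hxo⟩ := exists_prime_orderOf_dvd_card' (G := X) q (by
        rw [hk]
        refine dvd_pow_self q fun e => hX1 (Subgroup.eq_bot_of_card_eq _ ?_)
        rw [hk, e, pow_zero])
      rw [Subgroup.orderOf_mk] at hxo
      exact (hzline x hxo (hX hxX)).of_le hab h.fix (hTp.to_le hX) (Subgroup.zpowers_le.2 hxX)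
        (hX.trans (hT.1.trans inf_le_right))
    · refine exists_complement hT fun g hg hgT => ?_
      obtain ⟨j, hj, hgj⟩ := hconjy g hg (hgT y (Subgroup.mem_zpowers y))
      intro w hw
      obtain ⟨i, rfl⟩ := hw
      exact (Commute.zpow_right (commute_of_conj_cyclic hT hyo hg hj hgj) i).eq
  · -- impossible: a good element in the normaliser
    exfalso
    haveI := hTp.isNilpotent
    have hlt : (Subgroup.zpowers y).subgroupOf T < ⊤ := by
      rw [lt_top_iff_ne_top, Ne, Subgroup.subgroupOf_eq_top]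
      exact fun hle => hTy (le_antisymm hle hyT)
    obtain ⟨g, hgN, hgy⟩ := SetLike.exists_of_lt (Group.normalizerCondition_of_isNilpotent _ hlt)
    set N₁ := T ⊓ Subgroup.normalizer (Subgroup.zpowers y : Set G)
    have hgN₁ : (g : G) ∈ N₁ := by
      refine Subgroup.mem_inf.2 ⟨g.2, inv_mem_iff.1 (mem_normalizer_of_forall fun w hw => ?_)⟩
      rw [inv_inv]
      exact (Subgroup.mem_normalizer_iff''.1 hgN ⟨w, hyT hw⟩).1 hw
    have hN₁ : ¬ IsCyclic N₁ := fun hcyc => by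
      refine hgy (hKy g g.2 ?_)
      letI : CommGroup N₁ := IsCyclic.commGroup
      exact congrArg Subtype.val (mul_comm (⟨g, hgN₁⟩ : N₁)
        ⟨y, ⟨hyT (Subgroup.mem_zpowers y), Subgroup.le_normalizer (Subgroup.mem_zpowers y)⟩⟩)
    obtain ⟨E₀, hE₀n, ⟨hE₀c, hE₀p⟩, hE₀card⟩ :=
      PGroups.exists_normal_elemAb_sq hq2 (hTp.to_le inf_le_left : IsPGroup q N₁) hN₁
    set E := E₀.map N₁.subtype with hE
    have hEn : ∀ v ∈ N₁, ∀ e ∈ E, v * e * v⁻¹ ∈ E := by
      rintro v hv _ ⟨e, he, rfl⟩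
      exact ⟨⟨v, hv⟩ * e * ⟨v, hv⟩⁻¹, hE₀n.conj_mem e he _, rfl⟩
    have hEcomm : ∀ v ∈ E, ∀ w ∈ E, v * w = w * v := by
      rintro _ ⟨v, hv, rfl⟩ _ ⟨w, hw, rfl⟩
      exact congrArg (fun e : E₀ => ((e : N₁) : G)) (hE₀c.is_comm.comm ⟨v, hv⟩ ⟨w, hw⟩)
    have hyN₁ : y ∈ N₁ :=
      ⟨hyT (Subgroup.mem_zpowers y), Subgroup.le_normalizer (Subgroup.mem_zpowers y)⟩
    have hN₁j : ∀ v ∈ N₁, ∃ j, q ∣ j ∧ v⁻¹ * y * v = y ^ (j + 1) := fun v hv =>
      hconjy v (hT.1 hv.1) ((Subgroup.mem_normalizer_iff''.1 hv.2 y).1 (Subgroup.mem_zpowers y))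
    have hzc : ∀ v ∈ N₁, v⁻¹ * z * v = z := by
      intro v hv
      obtain ⟨j, ⟨i, rfl⟩, hj⟩ := hN₁j v hv
      have h1 := conj_pow (a := v⁻¹) (b := y) (i := q ^ (n - 1))
      rw [inv_inv, hj, ← pow_mul, mul_comm, pow_mul] at h1
      rw [← hz] at h1
      rw [← h1, pow_succ, pow_mul, show z ^ q = 1 from hzo ▸ pow_orderOf_eq_one z, one_pow, one_mul]
    obtain ⟨x, hxE, hxz⟩ : ∃ x ∈ E, x ∉ Subgroup.zpowers z := by
      by_contra hall
      push Not at hall
      have h1 : Nat.card E ≤ Nat.card (Subgroup.zpowers z) :=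
        Nat.card_le_card_of_injective _ (Subgroup.inclusion_injective hall)
      rw [Nat.card_zpowers, hzo, Subgroup.card_map_of_injective N₁.subtype_injective,
        hE₀card] at h1
      nlinarith [hq.two_le]
    have hxN₁ : x ∈ N₁ := Subgroup.map_subtype_le _ hxE
    have hxo : orderOf x = q := by
      obtain ⟨e, he, rfl⟩ := hxE
      refine orderOf_eq_prime ?_ fun e1 => hxz (e1 ▸ one_mem _)
      rw [← map_pow, hE₀p e he, map_one]
    have hzN₁ : z ∈ N₁ := ⟨hyT hzy, Subgroup.le_normalizer hzy⟩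
    have hcz : z * x = x * z := by
      conv_rhs => rw [← hzc x hxN₁]
      group
    refine no_single_pair h hab hW htr hm (hT.1 (hyT hzy)) (hT.1 hxN₁.1) hzo hxo hcz hxz
      fun w hw hw1 => ?_
    -- `[y, w]` lies in `E` and so commutes with `w`
    have hgenN₁ : Subgroup.closure ({z, x} : Set G) ≤ N₁ :=
      (Subgroup.closure_le _).2 (Set.insert_subset hzN₁ (Set.singleton_subset_iff.2 hxN₁))
    have hwN₁ : w ∈ N₁ := hgenN₁ hw
    have hclE : ∀ u ∈ Subgroup.closure ({z, x} : Set G), y⁻¹ * u⁻¹ * y * u ∈ E := fun u hu => by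
      induction hu using Subgroup.closure_induction with
      | mem v hv =>
        rcases hv with rfl | rfl
        · rw [show y⁻¹ * z⁻¹ * y * z = 1 by
            rw [mul_assoc _ y z, show y * z = z * y from (Commute.self_pow y _).eq]; group]
          exact one_mem _
        · have := hEn y⁻¹ (inv_mem hyN₁) v⁻¹ (inv_mem hxE)
          rw [inv_inv] at this
          exact mul_mem this hxE
      | one => simp
      | mul v₁ v₂ h₁ h₂ ih₁ ih₂ =>
        have hv₂ := hEn v₂⁻¹ (inv_mem (hgenN₁ h₂)) _ ih₁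
        rw [inv_inv] at hv₂
        rw [show y⁻¹ * (v₁ * v₂)⁻¹ * y * (v₁ * v₂) =
          (y⁻¹ * v₂⁻¹ * y * v₂) * (v₂⁻¹ * (y⁻¹ * v₁⁻¹ * y * v₁) * v₂) by group]
        exact mul_mem ih₂ hv₂
      | inv v hv ih =>
        rw [show y⁻¹ * v⁻¹⁻¹ * y * v⁻¹ = v * (y⁻¹ * v⁻¹ * y * v)⁻¹ * v⁻¹ by group]
        exact hEn v (hgenN₁ hv) _ (inv_mem ih)
    have hwE := hclE w hw
    obtain ⟨j, hj, hjw⟩ := hN₁j w hwN₁
    have hyj : y ^ j = y⁻¹ * w⁻¹ * y * w := by
      rw [mul_assoc, mul_assoc, ← mul_assoc w⁻¹, hjw, pow_succ', inv_mul_cancel_left]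
    refine hnoGood w (hT.1 hwN₁.1) (hTz w hwN₁.1) hw1 j hj hjw ?_
    have hc2 : ∀ v ∈ Subgroup.closure ({z, x} : Set G), Commute v (y ^ j) := fun v hv => by
      induction hv using Subgroup.closure_induction with
      | mem v hv =>
        rcases hv with rfl | rfl
        · exact (Commute.pow_pow (Commute.refl y) _ _)
        · exact hEcomm v hxE _ (hyj ▸ hwE)
      | one => exact Commute.one_left _
      | mul v₁ v₂ _ _ ih₁ ih₂ => exact ih₁.mul_left ih₂
      | inv v _ ih => exact ih.inv_left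
    exact (hc2 w hw).eq

end Cfsg.Agent.Lib.BenderOne43
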