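import Cfsg.Agent.Lib.BenderOne83.C2.Central

/-!
# Bender's theorem, part one: the `2`-elements of `C(X)` at a point

Let `X` fix three points and be centralised by two involutions at `a`.  By induction the
`2`-elements of `C(X)` at `a` act regularly on the other fixed points of `X`; they are products of
involutions of `C(X)` and so centralise the kernel of that action.  Hence a `2`-element of `C(X)`
at `a` is determined by the image of one other point.
-/

set_option autoImplicit false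
set_option linter.style.haveILetI false
set_option linter.unusedSectionVars false

namespace Cfsg.Agent.Lib.BenderOne43

open MulAction Cfsg.Agent.Lib.Involutions.Basic
open Cfsg.Agent.Lib.BenderOne20 Cfsg.Agent.Lib.BenderOne8

universe u

variable {G Ω : Type u} [Group G] [MulAction G Ω] [Finite G]

/-- In the faithful case `2`-elements at `a` with the same image of a second point are equal. -/
theorem two_eq_of_faithful [FaithfulSMul G Ω] (hG : OneFix G Ω) {N : ℕ} (hlt : Nat.card G < N)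
    (hbelow : BenderOne.Below.{u} N) {a : Ω}
    (hfour : ∃ s ∈ invAt G a, ∃ t ∈ invAt G a, s ≠ t ∧ s * t = t * s) {o o' : G} {y : Ω}
    (hya : y ≠ a) (hoa : o • a = a) (ho'a : o' • a = a) {i j : ℕ} (ho : o ^ 2 ^ i = 1)
    (ho' : o' ^ 2 ^ j = 1) (he : o • y = o' • y) : o = o' := by
  haveI := hG.trans
  set K := stabilizer G a with hK
  obtain ⟨s₁, hs₁, t₁, ht₁, hne, hst⟩ := hfour
  have hcore : K.normalCore = ⊥ := by
    refine eq_bot_iff.2 fun x hx => Subgroup.mem_bot.2
      (FaithfulSMul.eq_of_smul_eq_smul (α := Ω) fun e => ?_)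
    obtain ⟨g, rfl⟩ := exists_smul_eq G a e
    have h : (g⁻¹ * x * g⁻¹⁻¹) • a = a := hx g⁻¹
    rw [inv_inv, mul_smul, mul_smul, inv_smul_eq_iff] at h
    rw [h, one_smul]
  obtain ⟨Q, -, hR⟩ := hbelow G K hlt (stronglyEmbedded_of_oneFix hG a)
    ⟨s₁, hs₁.2, t₁, ht₁.2, hs₁.1, ht₁.1, hne, hst⟩ hcore
  obtain ⟨g, rfl⟩ := exists_smul_eq G a y
  have hg : g ∉ K := hya
  haveI : (Q.subgroupOf K).Normal := ⟨fun q hq h => hR.conj_mem h h.2 q hq⟩
  have hin : ∀ q : G, q • a = a → ∀ n : ℕ, q ^ 2 ^ n = 1 → q ∈ Q := by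
    intro q hqa n hqn
    have hqg : q * g ∉ K := fun h =>
      hg ((Subgroup.mul_mem_cancel_left K (show q ∈ K from hqa)).1 h)
    obtain ⟨r, hr, hr'⟩ := hR.trans g (q * g) hg hqg
    have hfix : (r⁻¹ * q) • g • a = g • a := by
      have h : ((q * g)⁻¹ * (r * g)) • a = a := hr'
      rw [mul_smul, inv_smul_eq_iff, mul_smul, mul_smul] at h
      rw [mul_smul, inv_smul_eq_iff, h]
    have hmem : r⁻¹ * q ∈ pairStab G a (g • a) :=
      ⟨K.mul_mem (K.inv_mem (hR.le hr)) (show q ∈ K from hqa), hfix⟩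
    have hodd : Odd (orderOf (r⁻¹ * q)) :=
      (hG.odd_pairStab (Ne.symm hya)).of_dvd_nat (Subgroup.orderOf_dvd_natCard _ hmem)
    set π := QuotientGroup.mk' (Q.subgroupOf K)
    set q' : K := ⟨q, hqa⟩
    set d' : K := ⟨r⁻¹ * q, hmem.1⟩
    have he : π d' = π q' := by
      refine QuotientGroup.eq.2 ?_
      show (r⁻¹ * q)⁻¹ * q ∈ Q
      have h2 := hR.conj_mem q⁻¹ (inv_mem (show q ∈ K from hqa)) r hr
      simpa [mul_assoc] using h2
    have h1 : orderOf (π q') ∣ 2 ^ n := orderOf_dvd_of_pow_eq_one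
      (by rw [← map_pow, show q' ^ 2 ^ n = 1 from Subtype.ext hqn, map_one])
    have h2 : orderOf (π q') ∣ orderOf (r⁻¹ * q) :=
      he ▸ (orderOf_map_dvd π d').trans (dvd_of_eq (Subgroup.orderOf_mk _ _))
    have h3 : π q' = 1 := orderOf_eq_one_iff.1 (Nat.Coprime.eq_one_of_dvd
      (Nat.Coprime.pow_right n (Nat.coprime_two_right.2 (hodd.of_dvd_nat h2))) h1)
    exact (QuotientGroup.eq_one_iff q').1 h3
  have hQ := mul_mem (inv_mem (hin o' ho'a j ho')) (hin o hoa i ho)
  have h := hR.free g hg _ hQ (by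
    show (g⁻¹ * (o'⁻¹ * o * g)) • a = a
    rw [mul_smul, mul_smul, mul_smul, he, inv_smul_smul, inv_smul_smul])
  exact (inv_mul_eq_one.1 h).symm

variable {p : ℕ} [Fact p.Prime] (hG : OneFix G Ω) (hF : PropF G Ω)
include hG hF

/-- An involution centralising `X` centralises the elements of `C(X)` fixing all fixed points of
`X`. -/
theorem invol_comm_kernel {X : Subgroup G} (h3 : Three X Ω) {s k : G} (hs : orderOf s = 2)
    (hsX : s ∈ Subgroup.centralizer (X : Set G)) (hk : ∀ e : Ω, e ∈ Fx X → k • e = e) :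
    s * k = k * s := by
  by_contra hne
  obtain ⟨c, hc⟩ := hG.exists_fix hs
  have hcX : c ∈ Fx X := mem_Fx_of_cen hG ⟨hs, hc⟩ (le_cen hsX)
  obtain ⟨e, he, hec⟩ : ∃ e, e ∈ Fx X ∧ e ≠ c := by
    obtain ⟨x, y, -, hxy, -, -, hx, hy, -⟩ := h3
    rcases eq_or_ne x c with rfl | h
    · exact ⟨y, hy, hxy.symm⟩
    · exact ⟨x, hx, h⟩
  have hse : s • e ≠ e := fun h => hec (hG.eq_of_fix hs h hc)
  have hseX : s • e ∈ Fx X := smul_mem_Fx (Subgroup.centralizer_le_normalizer _ hsX) he
  set w := k * s * k⁻¹ * s⁻¹ with hw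
  have hwfix : ∀ e : Ω, e ∈ Fx X → w • e = e := fun e he => by
    rw [hw, mul_smul, mul_smul, mul_smul, inv_smul_eq_iff.2 (hk (s⁻¹ • e) (smul_mem_Fx
      (inv_mem (Subgroup.centralizer_le_normalizer _ hsX)) he)).symm, smul_inv_smul, hk e he]
  have hinv : s * w * s⁻¹ = w⁻¹ := by
    simp only [hw, mul_inv_rev, inv_inv, invol_inv hs, mul_assoc, invol_mul_self hs, mul_one]
  have hw1 : w ≠ 1 := fun h => hne (mul_inv_eq_iff_eq_mul.1 (mul_inv_eq_one.1 h)).symm
  rcases eq_or_eq_of_inverted hG hF (Ne.symm hse) ⟨hs, rfl⟩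
    ⟨hwfix e he, hwfix _ hseX⟩ hw1 hinv (hwfix c hcX) with h | h
  · exact hec h.symm
  · exact hec (MulAction.injective s (h.symm.trans hc.symm))

/-- **Uniqueness.**  A `2`-element of `C(X)` at `a` is determined by the image of one other fixed
point of `X`. -/
theorem two_eq {X : Subgroup G} (hX : IsPGroup p X) (h3 : Three X Ω) {a b : Ω} (ha : a ∈ Fx X)
    (hb : b ∈ Fx X) (hba : b ≠ a) (hm : 1 < Nat.card (invCen X a))
    (hbelow : BenderOne.Below.{u} (Nat.card G)) (hne : Subgroup.centralizer (X : Set G) ≠ ⊤)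
    {o o' : G} (hoX : o ∈ Subgroup.centralizer (X : Set G))
    (ho'X : o' ∈ Subgroup.centralizer (X : Set G)) (hoa : o • a = a) (ho'a : o' • a = a) {i j : ℕ}
    (ho : o ^ 2 ^ i = 1) (ho' : o' ^ 2 ^ j = 1) (he : o • b = o' • b) : o = o' := by
  set L := Subgroup.centralizer (X : Set G)
  have hL : OneFix L ↥(fxAct X Ω) := local_oneFix hG hF hX h3
  haveI := hL.trans
  haveI := hL.nontrivial
  haveI : Finite ↥(fxAct X Ω) := by
    obtain ⟨y⟩ := (inferInstance : Nonempty ↥(fxAct X Ω))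
    exact Finite.of_surjective (fun g : L => g • y) (fun z => exists_smul_eq L y z)
  set a' : ↥(fxAct X Ω) := ⟨a, ha⟩
  set b' : ↥(fxAct X Ω) := ⟨b, hb⟩
  have hba' : b' ≠ a' := fun h => hba (congrArg Subtype.val h)
  set φ := MulAction.toPermHom L ↥(fxAct X Ω)
  have hker : ∀ {x : L}, φ x = 1 → Odd (orderOf x) := fun {x} hx =>
    (hL.odd_pairStab hba'.symm).of_dvd_nat (Subgroup.orderOf_dvd_natCard _
      ⟨Equiv.congr_fun hx a', Equiv.congr_fun hx b'⟩)
  have hnker : ∀ {x : L}, orderOf x = 2 → φ x ≠ 1 := fun {x} hx h => by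
    have := hker h
    rw [hx] at this
    exact absurd this (by decide)
  have hinv : ∀ {x : L}, orderOf x = 2 → orderOf (φ.rangeRestrict x) = 2 := fun {x} hx => by
    refine orderOf_eq_prime ?_ fun h => hnker hx (congrArg Subtype.val h)
    rw [← map_pow, ← hx, pow_orderOf_eq_one, map_one]
  have hlift : ∀ {v : φ.range}, orderOf v = 2 →
      ∃ x : L, orderOf x = 2 ∧ φ.rangeRestrict x = v := by
    intro v hv
    obtain ⟨x, rfl⟩ := φ.rangeRestrict_surjective v
    have h2 : φ (x ^ 2) = 1 := by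
      have h := pow_orderOf_eq_one (φ.rangeRestrict x)
      rw [hv] at h
      simpa using congrArg Subtype.val h
    obtain ⟨k, hk⟩ := hker h2
    have himg : φ.rangeRestrict (x ^ orderOf (x ^ 2)) = φ.rangeRestrict x := by
      rw [hk, pow_succ, pow_mul, map_mul, map_pow]
      have : φ.rangeRestrict (x ^ 2) = 1 := Subtype.ext h2
      rw [this, one_pow, one_mul]
    refine ⟨x ^ orderOf (x ^ 2), orderOf_eq_prime ?_ fun h => ?_, himg⟩
    · rw [← pow_mul, mul_comm, pow_mul, pow_orderOf_eq_one]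
    · rw [h, map_one] at himg
      rw [← himg, orderOf_one] at hv
      exact absurd hv (by decide)
  have hR : OneFix φ.range ↥(fxAct X Ω) :=
    { one := fun v hv => by
        obtain ⟨x, hx, rfl⟩ := hlift hv
        exact hL.one x hx
      trans := ⟨fun e f => (exists_smul_eq L e f).imp' φ.rangeRestrict fun _ h => h⟩
      invol := hL.invol.imp' φ.rangeRestrict fun _ h => hinv h
      nontrivial := hL.nontrivial }
  have hrange : Nat.card φ.range < Nat.card G :=
    lt_of_le_of_lt (Nat.card_le_card_of_surjective _ φ.rangeRestrict_surjective)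
      (lt_of_le_of_ne (Subgroup.card_le_card_group L) fun h => hne (L.card_eq_iff_eq_top.1 h))
  obtain ⟨s₁, hs₁, t₁, ht₁, hne', hst⟩ := exists_four hG hF hX h3 ha hm
  have hmem : ∀ {w : G} (hw : w ∈ invCen X a),
      φ.rangeRestrict (⟨w, mem_cen hw.2⟩ : L) ∈ invAt φ.range a' := fun {w} hw =>
    ⟨hinv ((Subgroup.orderOf_coe _).symm.trans hw.1.1), Subtype.ext hw.1.2⟩
  have hfour : ∃ v ∈ invAt φ.range a', ∃ w ∈ invAt φ.range a', v ≠ w ∧ v * w = w * v := by
    set s' : L := ⟨s₁, mem_cen hs₁.2⟩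
    set t' : L := ⟨t₁, mem_cen ht₁.2⟩
    refine ⟨_, hmem hs₁, _, hmem ht₁, fun h => hnker (x := s' * t') ?_ ?_, ?_⟩
    · rw [invol_iff]
      refine ⟨Subtype.ext ?_, fun e => hne' ?_⟩
      · show s₁ * t₁ * (s₁ * t₁) = 1
        calc s₁ * t₁ * (s₁ * t₁) = s₁ * (t₁ * s₁) * t₁ := by group
          _ = (s₁ * s₁) * (t₁ * t₁) := by rw [← hst]; group
          _ = 1 := by rw [invol_mul_self hs₁.1.1, invol_mul_self ht₁.1.1, one_mul]
      · have e' : s₁ * t₁ = 1 := congrArg Subtype.val e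
        rw [eq_inv_of_mul_eq_one_left e', invol_inv ht₁.1.1]
    · have h' : φ s' = φ t' := congrArg Subtype.val h
      rw [map_mul, h', ← map_mul, show t' * t' = 1 from Subtype.ext (invol_mul_self ht₁.1.1),
        map_one]
    · rw [← map_mul, ← map_mul]
      exact congrArg _ (Subtype.ext hst)
  set o₁ : L := ⟨o, hoX⟩
  set o₂ : L := ⟨o', ho'X⟩
  have ho₁ : o₁ ^ 2 ^ i = 1 := Subtype.ext ho
  have ho₂ : o₂ ^ 2 ^ j = 1 := Subtype.ext ho'
  have himage : φ.rangeRestrict o₁ = φ.rangeRestrict o₂ :=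
    two_eq_of_faithful hR hrange hbelow hfour (y := b') hba' (Subtype.ext hoa) (Subtype.ext ho'a)
      (by rw [← map_pow, ho₁, map_one]) (by rw [← map_pow, ho₂, map_one]) (Subtype.ext he)
  set k : L := o₂⁻¹ * o₁
  have hk : φ k = 1 := by
    have h : φ.rangeRestrict k = 1 := by rw [map_mul, map_inv, himage, inv_mul_cancel]
    exact congrArg Subtype.val h
  have hkfix : ∀ e : Ω, e ∈ Fx X → (k : G) • e = e := fun e he =>
    congrArg Subtype.val (Equiv.congr_fun hk (⟨e, he⟩ : ↥(fxAct X Ω)))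
  -- the involutions of `C(X)` generate a doubly transitive group
  set I : Subgroup L := Subgroup.closure {w : L | orderOf w = 2}
  have hI : OneFix I ↥(fxAct X Ω) :=
    { one := fun v hv => hL.one (v : L) ((Subgroup.orderOf_coe v).trans hv)
      trans := ⟨fun e f => by
        rcases eq_or_ne e f with rfl | hef
        · exact ⟨1, one_smul _ _⟩
        · obtain ⟨w, hw⟩ := hL.swapSet_nonempty hef
          exact ⟨⟨w, Subgroup.subset_closure hw.1⟩, hw.2⟩⟩
      invol := hL.invol.elim fun w hw =>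
        ⟨⟨w, Subgroup.subset_closure hw⟩, (Subgroup.orderOf_mk _ _).trans hw⟩
      nontrivial := hL.nontrivial }
  have hIF : PropF I ↥(fxAct X Ω) := by
    intro u x y c hxy hu hc d hd
    obtain ⟨⟨hdx, hdy⟩, hdc⟩ := hd
    have h := local_propF (X := X) hF (u : L) x y c hxy
      ⟨(Subgroup.orderOf_coe u).trans hu.1, hu.2⟩ hc
      (show (d : L) ∈ pairStab L x y ⊓ stabilizer L c from ⟨⟨hdx, hdy⟩, hdc⟩)
    rw [Subgroup.mem_centralizer_singleton_iff] at h ⊢
    exact Subtype.ext h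
  have hIm : 1 < Nat.card (invAt I a') := by
    rw [← card_invAt_local a'] at hm
    refine lt_of_lt_of_le hm (le_of_eq (Nat.card_congr
      { toFun := fun w => ⟨⟨w.1, Subgroup.subset_closure w.2.1⟩,
          (Subgroup.orderOf_mk _ _).trans w.2.1, w.2.2⟩
        invFun := fun w => ⟨w.1.1, (Subgroup.orderOf_coe w.1).trans w.2.1, w.2.2⟩
        left_inv := fun w => rfl
        right_inv := fun w => rfl }))
  haveI : I.Normal := ⟨fun x hx g => by
    induction hx using Subgroup.closure_induction with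
    | mem w hw => exact Subgroup.subset_closure ((orderOf_conj_eq g w).trans hw)
    | one => simp
    | mul x y _ _ hx hy =>
      rw [show g * (x * y) * g⁻¹ = g * x * g⁻¹ * (g * y * g⁻¹) by group]
      exact mul_mem hx hy
    | inv x _ hx =>
      rw [show g * x⁻¹ * g⁻¹ = (g * x * g⁻¹)⁻¹ by group]
      exact inv_mem hx⟩
  -- so `o₂` lies in it and centralises the kernel
  have ho₂I : o₂ ∈ I := by
    have hob : o₂ • b' ≠ a' := fun h => hba'
      (MulAction.injective o₂ (h.trans (show a' = o₂ • a' from (Subtype.ext ho'a).symm)))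
    obtain ⟨h, hha, hhb⟩ := two_transitive hI hIF hIm hba' hob
    have hd : (h : L)⁻¹ * o₂ ∈ pairStab L a' b' := by
      refine ⟨?_, ?_⟩
      · show ((h : L)⁻¹ * o₂) • a' = a'
        rw [mul_smul, show o₂ • a' = a' from Subtype.ext ho'a, inv_smul_eq_iff]
        exact hha.symm
      · show ((h : L)⁻¹ * o₂) • b' = b'
        rw [mul_smul, inv_smul_eq_iff]
        exact hhb.symm
    set π := QuotientGroup.mk' I
    have h1 : π ((h : L)⁻¹ * o₂) = π o₂ := by
      rw [map_mul, map_inv, show π (h : L) = 1 from (QuotientGroup.eq_one_iff _).2 h.2, inv_one,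
        one_mul]
    have h2 : orderOf (π o₂) ∣ 2 ^ j :=
      orderOf_dvd_of_pow_eq_one (by rw [← map_pow, ho₂, map_one])
    have h3 : orderOf (π o₂) ∣ Nat.card (pairStab L a' b') :=
      h1 ▸ (orderOf_map_dvd π _).trans (Subgroup.orderOf_dvd_natCard _ hd)
    have h4 : orderOf (π o₂) = 1 := Nat.Coprime.eq_one_of_dvd
      ((Nat.coprime_two_right.2 ((hL.odd_pairStab hba'.symm).of_dvd_nat h3)).pow_right j) h2
    exact (QuotientGroup.eq_one_iff o₂).1 (orderOf_eq_one_iff.1 h4)
  have hcen : ∀ x ∈ I, Commute x k := fun x hx => by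
    induction hx using Subgroup.closure_induction with
    | mem w hw =>
      exact Subtype.ext (invol_comm_kernel hG hF h3 ((Subgroup.orderOf_coe w).trans hw) w.2 hkfix)
    | one => exact Commute.one_left _
    | mul x y _ _ hx hy => exact hx.mul_left hy
    | inv x _ hx => exact hx.inv_left
  have hcomm : Commute o₂ k := hcen _ ho₂I
  have hk2 : k ^ 2 ^ (i + j) = 1 := by
    have h1 : (o₂ * k) ^ 2 ^ (i + j) = 1 := by
      rw [show o₂ * k = o₁ from mul_inv_cancel_left _ _, pow_add, pow_mul, ho₁, one_pow]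
    have h2 : o₂ ^ 2 ^ (i + j) = 1 := by
      rw [add_comm, pow_add, pow_mul, ho₂, one_pow]
    rwa [hcomm.mul_pow, h2, one_mul] at h1
  have hk1 : k = 1 := orderOf_eq_one_iff.1 (Nat.Coprime.eq_one_of_dvd
    ((Nat.coprime_two_right.2 (hker hk)).pow_right (i + j)) (orderOf_dvd_of_pow_eq_one hk2))
  exact congrArg Subtype.val (inv_mul_eq_one.1 hk1).symm

end Cfsg.Agent.Lib.BenderOne43
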